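import Cfsg.Agent.Lib.TensorThreeFour.Radical
import Cfsg.Agent.Lib.SingMax.Basic

/-!
A central radical element in the overgroup gives all Eichler elements.
-/

set_option autoImplicit false
set_option linter.unusedSectionVars false

namespace Cfsg.Agent.Lib.TensorThreeFour

open Module QuadraticMap Matrix Cfsg.Agent.Lib
open Cfsg.Agent.Lib.FormMax.OrthSL (eichlerGL eichlerGL_mulVec Q_eichlerGL)

variable {ι : Type} [Fintype ι] [DecidableEq ι] {F : Type*} [Field F]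

namespace Ctx

variable (C : Ctx F ι)
include C

/-- The Eichler element lies in the overgroup. -/
def EIn (x v : ι → F) : Prop :=
  ∀ (he : C.Q x = 0) (ha : polar ⇑C.Q x v = 0), eichlerGL C.Q x v he ha ∈ C.H

theorem eIn_zero (x : ι → F) : C.EIn x 0 := fun he ha => by
  convert C.H.one_mem
  refine SingMax.gl_ext' fun y => ?_
  rw [eichlerGL_mulVec]; simp

theorem eIn_add {x v w : ι → F} (hv : C.EIn x v) (hw : C.EIn x w) (h1 : polar ⇑C.Q x v = 0) :
    C.EIn x (v + w) := fun he ha => by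
  have h2 : polar ⇑C.Q x w = 0 := by simpa [polar_add_right, h1] using ha
  have h := C.H.mul_mem (hv he h1) (hw he h2)
  rwa [SingMax.E_add] at h

theorem eIn_map {m : GL ι F} (hm : m ∈ C.H) {x v : ι → F} (h : C.EIn x v) : C.EIn (av m x) (av m v) := by
  intro he ha
  have hi := C.isom_of_mem hm
  have he' : C.Q x = 0 := by rw [← hi x]; exact he
  have ha' : polar ⇑C.Q x v = 0 := by rw [← C.polar_isom hi]; exact ha
  have h' := C.H.mul_mem (C.H.mul_mem hm (h he' ha')) (C.H.inv_mem hm)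
  rwa [SingMax.conj_E hi] at h'

theorem eIn_smul {x v : ι → F} {t : F} (ht : t ≠ 0) (h : C.EIn x v) : C.EIn (t⁻¹ • x) (t • v) := by
  intro he ha
  have he' : C.Q x = 0 := by
    rw [QuadraticMap.map_smul, smul_eq_mul] at he
    exact (mul_eq_zero.1 he).resolve_left (mul_ne_zero (inv_ne_zero ht) (inv_ne_zero ht))
  have ha' : polar ⇑C.Q x v = 0 := by
    rw [polar_smul_left, polar_smul_right, smul_smul, inv_mul_cancel₀ ht, one_smul] at ha
    exact ha
  convert h he' ha' using 1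
  refine SingMax.gl_ext' fun y => ?_
  rw [eichlerGL_mulVec, eichlerGL_mulVec]
  simp only [polar_smul_left, QuadraticMap.map_smul, smul_eq_mul]
  match_scalars <;> field_simp

/-- Exchanging centre and vector when both are singular. -/
theorem eIn_symm {x v : ι → F} (h : C.EIn x v) (hx : C.Q x = 0) : C.EIn v (-x) := by
  intro he ha
  have ha' : polar ⇑C.Q x v = 0 := by
    rw [polar_neg_right, neg_eq_zero, polar_comm] at ha; exact ha
  convert h hx ha' using 1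
  refine SingMax.gl_ext' fun y => ?_
  rw [eichlerGL_mulVec, eichlerGL_mulVec, QuadraticMap.map_neg, polar_neg_left, he, hx]
  simp only [zero_mul, add_zero]
  module

theorem Q_ten_eq {u : Fin 3 → F} {w : Fin 4 → F} (h : C.fU u u = 0 ∨ C.fW w w = 0) : C.Q (C.ten u w) = 0 := by
  rw [Q_pure]
  rcases h with h | h <;> simp [h]

theorem eichler_isZ (u v : Fin 3 → F) (he : C.Q (C.ten u C.e) = 0)
    (ha : polar ⇑C.Q (C.ten u C.e) (C.ten v C.e) = 0) :
    C.IsZ (eichlerGL C.Q _ _ he ha) ∧ C.Zm (eichlerGL C.Q _ _ he ha) = wedgeL C.fU v u := by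
  have hQv : C.Q (C.ten v C.e) = 0 := C.Q_ten_eq (Or.inr C.frW.ee)
  have hact : ∀ y w, av (eichlerGL C.Q _ _ he ha) (C.ten y w) =
      C.ten y w + (C.fW C.e w) • (C.fU u y • C.ten v C.e - C.fU v y • C.ten u C.e) := by
    intro y w
    rw [av, eichlerGL_mulVec, C.polarQ, C.polarQ, hQv]
    module
  have hfix : ∀ y w, C.fW C.e w = 0 → av (eichlerGL C.Q _ _ he ha) (C.ten y w) = C.ten y w := fun y w hw => by
    rw [hact, hw, zero_smul, add_zero]
  have hL : ∀ c, C.fW C.e c = 0 → C.Lm (eichlerGL C.Q _ _ he ha) c = 0 := fun c hc => LinearMap.ext fun y => by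
    rw [Lm_apply, hfix y c hc, sub_self]; rfl
  refine ⟨⟨⟨Q_eichlerGL he ha, fun y => hfix y _ C.frW.ee, fun y c hc => ⟨0, by rw [hfix y c hc]; simp⟩⟩,
    hL _ C.frW.eb₁, hL _ C.frW.eb₂⟩, LinearMap.ext fun y => ?_⟩
  rw [Zm_apply, hact, C.frW.eg, one_smul, map_add, map_sub, map_smul, map_smul, co_g_ten_e, co_g_ten_e,
    co_ten, C.frW.gg, zero_smul, zero_add, wedgeL_apply]

/-- The skew operators of the central elements. -/
def Zset : Set ((Fin 3 → F) →ₗ[F] (Fin 3 → F)) := {Z | ∃ x ∈ C.H, C.IsZ x ∧ C.Zm x = Z}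

theorem zset_zero : (0 : (Fin 3 → F) →ₗ[F] (Fin 3 → F)) ∈ C.Zset :=
  ⟨1, C.H.one_mem, C.isZ_one, C.Zm_one⟩

theorem zset_add {Z Z' : (Fin 3 → F) →ₗ[F] (Fin 3 → F)} (h : Z ∈ C.Zset) (h' : Z' ∈ C.Zset) :
    Z + Z' ∈ C.Zset := by
  obtain ⟨x, hxH, hx, rfl⟩ := h
  obtain ⟨y, hyH, hy, rfl⟩ := h'
  exact ⟨x * y, C.H.mul_mem hxH hyH, C.isZ_mul hx hy, C.Zm_mulZ hx hy.1⟩

theorem zset_neg {Z : (Fin 3 → F) →ₗ[F] (Fin 3 → F)} (h : Z ∈ C.Zset) : -Z ∈ C.Zset := by
  obtain ⟨x, hxH, hx, rfl⟩ := h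
  exact ⟨x⁻¹, C.H.inv_mem hxH, C.isZ_inv hx, C.Zm_inv hx⟩

theorem zset_conj {Z : (Fin 3 → F) →ₗ[F] (Fin 3 → F)} (h : Z ∈ C.Zset) {A : (Fin 3 → F) ≃ₗ[F] (Fin 3 → F)}
    (hA : IsIso C.fU A.toLinearMap) (hAH : C.kr A 1 ∈ C.H) : A.conj Z ∈ C.Zset := by
  obtain ⟨x, hxH, hx, rfl⟩ := h
  exact ⟨_, C.H.mul_mem (C.H.mul_mem hAH hxH) (C.H.inv_mem hAH), C.isZ_conj hx hA, C.Zm_conj hx⟩

theorem conj_wedge {A : (Fin 3 → F) ≃ₗ[F] (Fin 3 → F)} (hA : IsIso C.fU A.toLinearMap) (u v : Fin 3 → F) :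
    A.conj (wedgeL C.fU u v) = wedgeL C.fU (A u) (A v) := LinearMap.ext fun x => by
  rw [LinearEquiv.conj_apply_apply, wedgeL_conj hA, A.apply_symm_apply]

variable [Finite F]

theorem zset_all (hN : ¬ C.NR) (u v : Fin 3 → F) : wedgeL C.fU u v ∈ C.Zset := by
  have fr := C.frU
  have haz : ∀ t : F, C.fU C.a (t • C.z) = 0 := fun t => by rw [map_smul, fr.az, smul_zero]
  have hbz : ∀ t : F, C.fU C.b (t • C.z) = 0 := fun t => by rw [map_smul, fr.bz, smul_zero]
  obtain ⟨x, hxH, hx, hx0⟩ := C.exists_isZ hN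
  obtain ⟨c, hc0, hc⟩ := wedge_of_skew C.symU fr (S := C.Zset)
    (fun Z hZ => by obtain ⟨y, -, hy, rfl⟩ := hZ; exact C.Zm_skew hy)
    (fun Z hZ => ⟨_, C.zset_add (C.zset_conj hZ (A := siegE C.symU fr.aa (haz 1)) (siegL_iso C.symU fr.aa (haz 1))
        (C.siegU_mem _ _)) (C.zset_neg hZ), fun y => by
      rw [LinearMap.add_apply, LinearMap.neg_apply, LinearEquiv.conj_apply_apply, ← sub_eq_add_neg]
      congr 1
      show siegL C.fU C.a ((1 : F) • C.z) (Z (siegL C.fU C.a (-((1 : F) • C.z)) y)) = _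
      rw [neg_smul]⟩)
    ⟨x, hxH, hx, rfl⟩ hx0
  have h1 : ∀ t : F, t • wedgeL C.fU C.a C.z ∈ C.Zset := by
    intro t
    rcases eq_or_ne t 0 with rfl | ht
    · rw [zero_smul]; exact C.zset_zero
    obtain ⟨A, hA, hAH, hAa, -, hAz⟩ := C.exists_torus (div_ne_zero ht hc0)
    have h := C.zset_conj hc hA hAH
    rwa [C.conj_wedge hA, map_smul, hAa, hAz, smul_smul, mul_div_cancel₀ _ hc0, wedgeL_smul_left] at h
  have h2 : ∀ t : F, t • wedgeL C.fU C.z C.b ∈ C.Zset := by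
    intro t
    obtain ⟨A, hA, hAH, hAa, -, hAz⟩ := C.exists_flip
    have h := C.zset_conj (h1 t) hA hAH
    rw [map_smul, C.conj_wedge hA, hAa, hAz] at h
    convert h using 2
    exact LinearMap.ext fun y => by simp [wedgeL_apply]; abel
  have h3 : ∀ t : F, t • wedgeL C.fU C.a C.b ∈ C.Zset := by
    intro t
    have hn := fr.n0
    have h := C.zset_conj (h1 (-(t / C.n))) (A := siegE C.symU fr.bb (hbz 1)) (siegL_iso C.symU fr.bb (hbz 1))
      (C.siegU_mem _ _)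
    rw [map_smul, C.conj_wedge (A := siegE C.symU fr.bb (hbz 1)) (siegL_iso C.symU fr.bb (hbz 1)), siegE_apply,
      siegE_apply] at h
    have key := C.zset_add (C.zset_add h (C.zset_neg (h1 (-(t / C.n))))) (C.zset_neg (h2 (t / 2)))
    convert key using 1
    have h2' := C.two
    refine LinearMap.ext fun y => ?_
    simp only [siegL_apply, LinearMap.add_apply, LinearMap.neg_apply, LinearMap.smul_apply, wedgeL_apply, map_add,
      map_sub, map_smul, one_smul, C.symU.symm C.b C.a, fr.ab, fr.bz, fr.zz, C.symU.symm C.z C.a, fr.az,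
      LinearMap.add_apply, LinearMap.sub_apply, LinearMap.smul_apply, smul_eq_mul]
    match_scalars <;> field_simp <;> ring
  have hu := fr.expand u
  have hv := fr.expand v
  generalize C.fU C.b u = u₁, C.fU C.z u / C.n = u₂, C.fU C.a u = u₃ at hu
  generalize C.fU C.b v = v₁, C.fU C.z v / C.n = v₂, C.fU C.a v = v₃ at hv
  have e : wedgeL C.fU u v = (u₁ * v₂ - u₂ * v₁) • wedgeL C.fU C.a C.z +
      (u₁ * v₃ - u₃ * v₁) • wedgeL C.fU C.a C.b + (u₂ * v₃ - u₃ * v₂) • wedgeL C.fU C.z C.b := by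
    refine LinearMap.ext fun y => ?_
    rw [hu, hv]
    simp only [LinearMap.add_apply, LinearMap.smul_apply, wedgeL_apply, map_add, map_smul, smul_eq_mul]
    module
  rw [e]
  exact C.zset_add (C.zset_add (h1 _) (h3 _)) (h2 _)

theorem eIn_e (hN : ¬ C.NR) (u v : Fin 3 → F) : C.EIn (C.ten u C.e) (C.ten v C.e) := by
  intro he ha
  obtain ⟨x, hxH, hx, hxe⟩ := C.zset_all hN v u
  obtain ⟨h1, h2⟩ := C.eichler_isZ u v he ha
  rwa [← C.isZ_ext hx h1 (hxe.trans h2.symm)]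

/-- Transitivity of `Ω(W)` on singular lines. -/
theorem exists_moveW {x y : Fin 4 → F} (hx : C.fW x x = 0) (hx0 : x ≠ 0) (hy : C.fW y y = 0) (hy0 : y ≠ 0) :
    ∃ B : (Fin 4 → F) ≃ₗ[F] (Fin 4 → F), IsIso C.fW B.toLinearMap ∧ C.kr 1 B ∈ C.H ∧
      ∃ t : F, t ≠ 0 ∧ B x = t • y := by
  by_cases hxy : C.fW x y = 0
  · obtain ⟨t, ht⟩ := Submodule.mem_span_singleton.1 (C.minus y x hy hx (by rw [C.symW.symm, hxy]) hy0)
    refine ⟨1, fun _ _ => rfl, by rw [C.kr_one]; exact C.H.one_mem, t, fun h => hx0 ?_, ht.symm⟩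
    rw [← ht, h, zero_smul]
  obtain ⟨y', hy'⟩ : ∃ y', y' = (C.fW x y)⁻¹ • y := ⟨_, rfl⟩
  have hy'0 : C.fW y' y' = 0 := by simp [hy', hy]
  have hxy' : C.fW x y' = 1 := by simp [hy', inv_mul_cancel₀ hxy]
  obtain ⟨w, hw0, hw⟩ := exists_perp C.symW ![x, y'] (by rw [Module.finrank_fin_fun]; norm_num)
  have hxw : C.fW x w = 0 := hw 0
  have hyw : C.fW y' w = 0 := hw 1
  have hww : C.fW w w ≠ 0 := fun h => by
    obtain ⟨t, ht⟩ := Submodule.mem_span_singleton.1 (C.minus x w hx h hxw hx0)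
    have e := hyw
    rw [← ht, map_smul, C.symW.symm, hxy', smul_eq_mul, mul_one] at e
    exact hw0 (by rw [← ht, e, zero_smul])
  obtain ⟨h, hh⟩ : ∃ h, h = C.fW w w / 2 := ⟨_, rfl⟩
  have hh0 : h ≠ 0 := hh ▸ div_ne_zero hww C.two
  have hv : C.fW x (h⁻¹ • w) = 0 := by rw [map_smul, hxw, smul_zero]
  refine ⟨siegE C.symW hx hv * siegE C.symW hy'0 hyw,
    fun p q => (siegL_iso C.symW hx hv _ _).trans (siegL_iso C.symW hy'0 hyw p q), ?_, -h * (C.fW x y)⁻¹,
    mul_ne_zero (neg_ne_zero.2 hh0) (inv_ne_zero hxy), ?_⟩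
  · have hm := C.H.mul_mem (C.siegW_mem hx hv) (C.siegW_mem hy'0 hyw)
    rwa [kr_mul, one_mul] at hm
  rw [LinearEquiv.mul_apply, siegE_apply, siegE_apply, mul_smul, ← hy']
  have h2 := C.two
  simp only [siegL_apply, map_add, map_sub, map_smul, smul_eq_mul, C.symW.symm y' x, hxy', C.symW.symm w x, hxw,
    hyw, C.symW.symm w y', hx, hy'0, LinearMap.smul_apply]
  simp only [hh]
  match_scalars <;> field_simp <;> ring

theorem eIn_sing (hN : ¬ C.NR) {f : Fin 4 → F} (hf : C.fW f f = 0) (u v : Fin 3 → F) :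
    C.EIn (C.ten u f) (C.ten v f) := by
  rcases eq_or_ne f 0 with rfl | hf0
  · rw [map_zero, map_zero]; exact C.eIn_zero _
  obtain ⟨B, -, hBH, t, ht, hBe⟩ := C.exists_moveW C.frW.ee C.e_ne hf hf0
  have h := C.eIn_map hBH (C.eIn_e hN (t⁻¹ • u) (t⁻¹ • v))
  rw [kr_ten, kr_ten, hBe] at h
  simpa [smul_smul, inv_mul_cancel₀ ht, mul_inv_cancel₀ ht] using h

/-- `a ⊗ W` and `z ⊗ W` are vectors of the centre `a ⊗ e`, for any frame. -/
theorem eIn_half (hN : ¬ C.NR) {a z b : Fin 3 → F} {n : F} (fr : Frame3 C.fU a z b n) (w : Fin 4 → F) :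
    C.EIn (C.ten a C.e) (C.ten a w) ∧ C.EIn (C.ten a C.e) (C.ten z w) := by
  have fW := C.frW
  have hpa : ∀ (s t : F) w, polar ⇑C.Q (C.ten a C.e) (C.ten (s • a + t • z) w) = 0 := fun s t w => by
    rw [C.polarQ, map_add, map_smul, map_smul, fr.aa, fr.az, smul_zero, smul_zero, add_zero, zero_mul]
  have hpa1 : ∀ w, polar ⇑C.Q (C.ten a C.e) (C.ten a w) = 0 := fun w => by rw [C.polarQ, fr.aa, zero_mul]
  have hpz : ∀ w, polar ⇑C.Q (C.ten a C.e) (C.ten z w) = 0 := fun w => by rw [C.polarQ, fr.az, zero_mul]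
  have hsing : ∀ f, C.fW f f = 0 →
      C.EIn (C.ten a C.e) (C.ten a f) ∧ C.EIn (C.ten a C.e) (C.ten z f) := by
    intro f hf
    rcases eq_or_ne (C.fW f C.e) 0 with hfe | hfe
    · obtain ⟨t, rfl⟩ := Submodule.mem_span_singleton.1
        (C.minus C.e f fW.ee hf (by rw [C.symW.symm, hfe]) C.e_ne)
      rw [show C.ten a (t • C.e) = C.ten (t • a) C.e by simp, show C.ten z (t • C.e) = C.ten (t • z) C.e by simp]
      exact ⟨C.eIn_e hN _ _, C.eIn_e hN _ _⟩
    have hm := C.eIn_sing hN hf a z (C.Q_ten_eq (Or.inr hf))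
      (by rw [C.polarQ, fr.az, zero_mul])
    have hQz : C.Q (C.ten z f) = 0 := C.Q_ten_eq (Or.inr hf)
    have key : ∀ v, C.EIn (C.ten a C.e)
        (C.ten v C.e + C.fW f C.e • C.ten (C.fU a v • z - C.fU z v • a) f) := by
      intro v
      have h := C.eIn_map hm (C.eIn_e hN a v)
      simp only [av, eichlerGL_mulVec, C.polarQ, hQz, fr.aa, C.symU.symm z a, fr.az, zero_mul,
        zero_smul, add_zero, sub_zero] at h
      convert h using 1
      simp only [map_sub, map_smul, LinearMap.sub_apply, LinearMap.smul_apply, LinearMap.add_apply]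
      module
    have sub : ∀ v, C.EIn (C.ten a C.e) (C.fW f C.e • C.ten (C.fU a v • z - C.fU z v • a) f) := by
      intro v
      have h := C.eIn_add (key v) (C.eIn_e hN a (-v))
        (by simp [C.polarQ, fr.aa, fr.az, fW.ee, map_sub, map_smul, LinearMap.sub_apply])
      rwa [map_neg, LinearMap.neg_apply, add_neg_cancel_comm] at h
    have hn := fr.n0
    constructor
    · convert sub ((-(C.fW f C.e * n)⁻¹) • z) using 1
      simp only [map_smul, fr.az, fr.zz, smul_zero, smul_eq_mul, map_sub, LinearMap.sub_apply, LinearMap.smul_apply,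
        zero_smul, zero_sub, mul_zero, map_neg, LinearMap.neg_apply]
      match_scalars <;> field_simp
    · convert sub ((C.fW f C.e)⁻¹ • b) using 1
      simp only [map_smul, fr.ab, C.symU.symm z b, fr.bz, smul_eq_mul, map_sub, LinearMap.sub_apply,
        LinearMap.smul_apply, zero_smul, sub_zero, mul_zero, mul_one]
      rw [smul_smul, mul_inv_cancel₀ hfe, one_smul]
  have add : ∀ {v : Fin 3 → F}, (∀ w, polar ⇑C.Q (C.ten a C.e) (C.ten v w) = 0) → ∀ {p q : Fin 4 → F},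
      C.EIn (C.ten a C.e) (C.ten v p) → C.EIn (C.ten a C.e) (C.ten v q) →
      C.EIn (C.ten a C.e) (C.ten v (p + q)) := fun hv p q hp hq => by
    rw [map_add]; exact C.eIn_add hp hq (hv _)
  have he : ∀ t : F, C.fW (t • C.e) (t • C.e) = 0 := fun t => by simp [fW.ee]
  have hg : ∀ t : F, C.fW (t • C.g) (t • C.g) = 0 := fun t => by simp [fW.gg]
  have e2 := C.two
  have hb₁ : ∀ t : F, C.fW (t • (C.b₁ + C.e - (C.n₁ / 2) • C.g)) (t • (C.b₁ + C.e - (C.n₁ / 2) • C.g)) = 0 := by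
    intro t
    simp [fW.b₁b₁, fW.ee, fW.gg, fW.eg, C.symW.symm C.g C.e, fW.eb₁, C.symW.symm C.b₁ C.e, fW.gb₁,
      C.symW.symm C.b₁ C.g]
    ring_nf; field_simp; ring_nf; simp
  have hb₂ : ∀ t : F, C.fW (t • (C.b₂ + C.e - (C.n₂ / 2) • C.g)) (t • (C.b₂ + C.e - (C.n₂ / 2) • C.g)) = 0 := by
    intro t
    simp [fW.b₂b₂, fW.ee, fW.gg, fW.eg, C.symW.symm C.g C.e, fW.eb₂, C.symW.symm C.b₂ C.e, fW.gb₂,
      C.symW.symm C.b₂ C.g]
    ring_nf; field_simp; ring_nf; simp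
  obtain ⟨p₁, hp₁⟩ : ∃ p, p = C.fW C.b₁ w / C.n₁ := ⟨_, rfl⟩
  obtain ⟨p₂, hp₂⟩ : ∃ p, p = C.fW C.b₂ w / C.n₂ := ⟨_, rfl⟩
  have hw : w = p₁ • (C.b₁ + C.e - (C.n₁ / 2) • C.g) + p₂ • (C.b₂ + C.e - (C.n₂ / 2) • C.g) +
      (C.fW C.g w - p₁ - p₂) • C.e + (C.fW C.e w + p₁ * (C.n₁ / 2) + p₂ * (C.n₂ / 2)) • C.g := by
    conv_lhs => rw [fW.expand w, ← hp₁, ← hp₂]
    module
  rw [hw]
  exact ⟨add hpa1 (add hpa1 (add hpa1 (hsing _ (hb₁ _)).1 (hsing _ (hb₂ _)).1) (hsing _ (he _)).1) (hsing _ (hg _)).1,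
    add hpz (add hpz (add hpz (hsing _ (hb₁ _)).2 (hsing _ (hb₂ _)).2) (hsing _ (he _)).2) (hsing _ (hg _)).2⟩

theorem full_a (hN : ¬ C.NR) {a z b : Fin 3 → F} {n : F} (fr : Frame3 C.fU a z b n) :
    SingMax.Full C.Q C.H (C.ten a C.e) := by
  intro v he ha
  suffices C.EIn (C.ten a C.e) v from this he ha
  have fW := C.frW
  have hpa : ∀ x w, C.fW C.e w = 0 → polar ⇑C.Q (C.ten a C.e) (C.ten x w) = 0 := fun x w hw => by
    rw [C.polarQ, hw, mul_zero]
  have hbc : ∀ c, C.fW C.e c = 0 → C.fW C.g c = 0 → C.EIn (C.ten a C.e) (C.ten b c) := by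
    intro c hec hgc
    have hQbc : C.Q (C.ten b c) = 0 := C.Q_ten_eq (Or.inl fr.bb)
    have hm := C.eIn_symm (C.eIn_half hN (fr.swap C.symU) (-c)).1 (C.Q_ten_eq (Or.inl fr.bb))
    rw [map_neg] at hm
    obtain ⟨m, hmdef⟩ : ∃ m, m = eichlerGL C.Q (-C.ten b c) (-C.ten b C.e) (by rw [QuadraticMap.map_neg, hQbc])
        (by rw [polar_neg_left, polar_neg_right, C.polarQ, fr.bb, zero_mul, neg_zero, neg_zero]) := ⟨_, rfl⟩
    have hmH : m ∈ C.H := hmdef ▸ hm _ _
    have hQbe : C.Q (C.ten b C.e) = 0 := C.Q_ten_eq (Or.inl fr.bb)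
    have h1 : av m (C.ten a C.e) = C.ten a C.e := by
      rw [hmdef, av, eichlerGL_mulVec]
      simp [C.polarQ, polar_neg_left, C.symW.symm c C.e, hec, fW.ee, QuadraticMap.map_neg, hQbe]
    have h2 : av m (C.ten a C.g) = C.ten a C.g + -C.ten b c := by
      rw [hmdef, av, eichlerGL_mulVec]
      simp [C.polarQ, polar_neg_left, C.symW.symm c C.g, hgc, fW.eg, fr.ab, C.symU.symm b a,
        QuadraticMap.map_neg, hQbe, sub_eq_add_neg]
    have h3 := C.eIn_map hmH (C.eIn_half hN fr C.g).1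
    rw [h1, h2] at h3
    have hag : ∀ x, polar ⇑C.Q (C.ten a C.e) (C.ten a x) = 0 := fun x => by rw [C.polarQ, fr.aa, zero_mul]
    have h4 := C.eIn_add h3 (C.eIn_half hN fr (-C.g)).1
      (by rw [polar_add_right, hag, polar_neg_right, hpa b c hec, neg_zero, add_zero])
    rw [map_neg, add_assoc, add_comm (-C.ten b c), ← add_assoc, add_neg_cancel, zero_add] at h4
    have h5 := C.eIn_smul (t := (-1 : F)) (neg_ne_zero.2 one_ne_zero) h4
    rw [inv_neg, inv_one, neg_one_smul, neg_one_smul, neg_neg] at h5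
    intro he' ha'
    have := h5 (by rw [QuadraticMap.map_neg, he']) (by rw [polar_neg_left, ha', neg_zero])
    convert C.H.inv_mem this using 1
    rw [eq_inv_iff_mul_eq_one]
    refine SingMax.gl_ext' fun y => ?_
    rw [Units.val_mul, ← mulVec_mulVec, eichlerGL_mulVec, eichlerGL_mulVec, Units.val_one, one_mulVec]
    simp only [polar_sub_right, polar_add_right, polar_smul_right, polar_neg_left, polar_neg_right, polar_self,
      he', ha', polar_comm _ (C.ten b c) (C.ten a C.e), smul_eq_mul, smul_zero]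
    rw [two_nsmul]
    module
  -- decompose
  have hexp : ∀ c, C.fW C.e c = 0 → C.fW C.g c = 0 → ∀ x, C.EIn (C.ten a C.e) (C.ten x c) := by
    intro c hec hgc x
    rw [fr.expand x]
    simp only [map_add, map_smul, LinearMap.add_apply, LinearMap.smul_apply]
    rw [← map_smul, ← map_smul, ← map_smul]
    have k : ∀ t : F, C.fW C.e (t • c) = 0 := fun t => by rw [map_smul, hec, smul_zero]
    exact C.eIn_add (C.eIn_add (C.eIn_half hN fr _).1 (C.eIn_half hN fr _).2 (hpa _ _ (k _)))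
      (hbc _ (k _) (by rw [map_smul, hgc, smul_zero]))
      (by rw [polar_add_right, hpa _ _ (k _), hpa _ _ (k _), add_zero])
  have hco : C.fU a (C.co C.e v) = 0 := by
    rw [C.symU.symm, fU_co, polar_comm]; exact ha
  have htop : C.EIn (C.ten a C.e) (C.ten (C.co C.e v) C.g) := by
    rw [fr.expand (C.co C.e v), hco, zero_smul, add_zero]
    simp only [map_add, map_smul, LinearMap.add_apply, LinearMap.smul_apply]
    rw [← map_smul, ← map_smul]
    exact C.eIn_add (C.eIn_half hN fr _).1 (C.eIn_half hN fr _).2 (by rw [C.polarQ, fr.aa, zero_mul])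
  rw [C.decompW v, ← map_smul, ← map_smul]
  exact C.eIn_add (C.eIn_add (C.eIn_add (C.eIn_e hN _ _)
      (hexp _ (by rw [map_smul, fW.eb₁, smul_zero]) (by rw [map_smul, fW.gb₁, smul_zero]) _) (hpa _ _ fW.ee))
      (hexp _ (by rw [map_smul, fW.eb₂, smul_zero]) (by rw [map_smul, fW.gb₂, smul_zero]) _)
      (by rw [polar_add_right, hpa _ _ fW.ee, hpa _ _ (by rw [map_smul, fW.eb₁, smul_zero]), add_zero]))
    htop (by rw [polar_add_right, polar_add_right, hpa _ _ fW.ee, hpa _ _ (by rw [map_smul, fW.eb₁, smul_zero]),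
      hpa _ _ (by rw [map_smul, fW.eb₂, smul_zero]), add_zero, add_zero])

/-- Without the rigid radical the overgroup is the whole of `Ω`. -/
theorem omega_le_of_not_NR (hN : ¬ C.NR) : Cfsg.Geo.omegaGL ⇑C.Q ≤ C.H := by
  have hn : 7 ≤ Fintype.card ι := by rw [C.card_eq]; norm_num
  have h1 := C.full_a hN C.frU
  obtain ⟨A, hA, hAH, hAa, -, -⟩ := C.exists_flip
  obtain ⟨B, hB, hBH, t, ht, hBe⟩ := C.exists_moveW C.frW.ee C.e_ne C.frW.gg
    (fun h => one_ne_zero (α := F) (by rw [← C.frW.eg, h, map_zero]))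
  have hk : C.kr A B ∈ C.H := by
    have := C.H.mul_mem hAH hBH
    rwa [kr_mul, mul_one, one_mul] at this
  have h2 := SingMax.Full.map hk (C.isom_kr hA hB) h1
  have hm : (C.kr A B : Matrix ι ι F) *ᵥ C.ten C.a C.e = C.ten C.b (t • C.g) := by
    rw [← hAa, ← hBe]; exact C.kr_ten A B _ _
  rw [hm] at h2
  refine SingMax.omega_le_of_eichler C.nondegQ hn fun x v he ha => ?_
  by_cases hx0 : x = 0
  · subst hx0
    convert C.H.one_mem
    refine SingMax.gl_ext' fun y => ?_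
    rw [eichlerGL_mulVec]; simp
  refine SingMax.full_all C.nondegQ h1 h2 (C.Q_ten_eq (Or.inr C.frW.ee)) (C.Q_ten_eq (Or.inl C.frU.bb)) ?_
    he hx0 v he ha
  rw [C.polarQ, C.frU.ab, map_smul, C.frW.eg, one_mul, smul_eq_mul, mul_one]
  exact ht

end Ctx

end Cfsg.Agent.Lib.TensorThreeFour
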