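import Cfsg.Agent.Lib.TensorThreeFour.Stab
import Cfsg.Agent.Lib.Coprime.Generation

/-!
With a rigid radical: centralisers of the half turns `kr (rot, 1)` consist of Kronecker elements, these
elements are not fused outside the Kronecker elements, and so the whole overgroup consists of them.
-/

set_option autoImplicit false
set_option linter.unusedSectionVars false

namespace Cfsg.Agent.Lib.TensorThreeFour

open Module QuadraticMap Matrix Cfsg.Agent.Lib

variable {ι : Type} [Fintype ι] [DecidableEq ι] {F : Type*} [Field F]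

theorem rot_comm {V : Type*} [AddCommGroup V] [Module F V] {f : LinearMap.BilinForm F V} (hf : Sym f)
    {z w : V} (hz : f z z ≠ 0) (hw : f w w ≠ 0) (h : f z w = 0) : rotE f hz * rotE f hw = rotE f hw * rotE f hz :=
  LinearEquiv.ext fun x => by
    simp only [LinearEquiv.mul_apply, rotE_apply, reflL_apply, map_neg, map_sub, map_smul, smul_eq_mul, h,
      hf.symm w z, mul_zero, sub_zero]
    match_scalars <;> ring

theorem rot_fixed {V : Type*} [AddCommGroup V] [Module F V] {f : LinearMap.BilinForm F V} (hf : Sym f)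
    {z u : V} (hz : f z z ≠ 0) (h : rotE f hz u = u) : u = (f z u / f z z) • z := by
  rw [rotE_apply, reflL_apply] at h
  refine smul_right_injective V hf.two ?_
  have h2 := hf.two
  calc (2 : F) • u = u + u := two_smul F u
    _ = -(u - (2 / f z z * f z u) • z) + u := by rw [h]
    _ = _ := by match_scalars <;> field_simp <;> ring

theorem av_eq_iff {x y : GL ι F} : x = y ↔ ∀ v, av x v = av y v :=
  ⟨fun h v => h ▸ rfl, SingMax.gl_ext'⟩

namespace Ctx

variable (C : Ctx F ι)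
include C

/-- The half turns of the first factor. -/
def Good (x : GL ι F) : Prop := ∃ (z : Fin 3 → F) (hz : C.fU z z ≠ 0), x = C.kr (rotE C.fU hz) 1

theorem rot_sq {z : Fin 3 → F} (hz : C.fU z z ≠ 0) : rotE C.fU hz * rotE C.fU hz = 1 :=
  LinearEquiv.ext fun u => rotE_rotE hz u

theorem trace_rot {z : Fin 3 → F} (hz : C.fU z z ≠ 0) :
    LinearMap.trace F _ (rotE C.fU hz).toLinearMap = -1 := by
  have e : (rotE C.fU hz).toLinearMap = -(LinearMap.id - ((2 / C.fU z z) • C.fU z).smulRight z) :=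
    LinearMap.ext fun x => rotE_apply _ _ x
  rw [e, map_neg, map_sub, LinearMap.trace_id, LinearMap.trace_smulRight, Module.finrank_fin_fun,
    LinearMap.smul_apply, smul_eq_mul, div_mul_cancel₀ _ hz]
  push_cast; ring

theorem kr_one_inj {A A' : (Fin 3 → F) ≃ₗ[F] (Fin 3 → F)} (h : C.kr A 1 = C.kr A' 1) : A = A' :=
  LinearEquiv.ext fun u => C.ten_left_inj C.b₁_ne (w := C.b₁) <| by
    have e := congrArg (fun x => av x (C.ten u C.b₁)) h
    simp only [kr_ten] at e
    exact e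

theorem iso_of_kr_one {A : (Fin 3 → F) ≃ₗ[F] (Fin 3 → F)} (h : C.Isom (C.kr A 1)) : IsIso C.fU A.toLinearMap :=
  fun u v => by
    have e := C.polar_isom h (C.ten u C.b₁) (C.ten v C.b₁)
    rw [kr_ten, kr_ten, C.polarQ, C.polarQ] at e
    exact mul_right_cancel₀ (b := C.fW C.b₁ C.b₁) (by rw [C.frW.b₁b₁]; exact C.frW.n₁0) e

theorem sq_of_kr {A : (Fin 3 → F) ≃ₗ[F] (Fin 3 → F)} {B : (Fin 4 → F) ≃ₗ[F] (Fin 4 → F)}
    (hA : IsIso C.fU A.toLinearMap) (hd : LinearMap.det A.toLinearMap = 1) {k : ℕ} (h : C.kr A B ^ k = 1) :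
    A ^ k = 1 ∧ B ^ k = 1 := by
  rw [kr_pow, ← C.kr_one] at h
  refine C.kr_inj ?_ (fun _ _ => rfl) ?_ LinearMap.det_id h
  · clear h
    induction k with
    | zero => exact fun _ _ => rfl
    | succ k ih =>
      intro u v
      rw [pow_succ']
      exact (hA _ _).trans (ih u v)
  · have e : ∀ k : ℕ, (A ^ k).toLinearMap = A.toLinearMap ^ k := by
      intro k
      induction k with
      | zero => rfl
      | succ k ih => rw [pow_succ', pow_succ', ← ih]; rfl
    rw [e, map_pow, hd, one_pow]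

variable [Finite F]

theorem good_mem {x : GL ι F} (h : C.Good x) : x ∈ C.H ∧ IsKr C.ten x ∧ x * x = 1 := by
  obtain ⟨z, hz, rfl⟩ := h
  exact ⟨C.rot_mem hz, C.isKr_kr _ _, by rw [kr_mul, C.rot_sq hz, mul_one, kr_one]⟩

theorem not_good_one : ¬ C.Good 1 := by
  rintro ⟨z, hz, h⟩
  rw [← C.kr_one] at h
  have h1 := C.kr_one_inj h
  obtain ⟨u, hu0, hu⟩ := exists_perp C.symU ![z] (by rw [Module.finrank_fin_fun]; norm_num)
  have e := rotE_perp hz (hu 0)
  rw [← h1, LinearEquiv.coe_one, id_eq] at e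
  exact hu0 ((smul_eq_zero.1 (show (2 : F) • u = 0 by rw [two_smul]; nth_rewrite 1 [e]; exact neg_add_cancel u)).resolve_left C.two)

/-- The fixed space of a half turn. -/
theorem fixed_good {z : Fin 3 → F} (hz : C.fU z z ≠ 0) {v : ι → F} (h : av (C.kr (rotE C.fU hz) 1) v = v) :
    v = C.ten z ((C.fU z z)⁻¹ • C.ro z v) := by
  have h2 := C.two
  have e := LinearMap.congr_fun (C.ext_ten
    (L := LinearMap.id + avL (C.kr (rotE C.fU hz) 1))
    (L' := (2 : F) • (C.ten z).comp ((C.fU z z)⁻¹ • C.ro z)) fun u w => ?_) v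
  · simp only [LinearMap.add_apply, LinearMap.id_apply, LinearMap.smul_apply, LinearMap.comp_apply] at e
    rw [show avL (C.kr (rotE C.fU hz) 1) v = v from h, ← two_smul F v] at e
    exact smul_right_injective _ h2 e
  · show C.ten u w + av (C.kr _ 1) (C.ten u w) = _
    rw [kr_ten, rotE_apply, reflL_apply, LinearEquiv.coe_one, id_eq]
    simp only [LinearMap.smul_apply, LinearMap.comp_apply, ro_ten, map_neg, map_sub, map_smul, LinearMap.neg_apply,
      LinearMap.sub_apply, C.symU.symm u z]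
    match_scalars <;> field_simp <;> ring

/-- A Kronecker element of odd-characteristic order fixing `z ⊗ W` pointwise acts on the first factor only. -/
theorem fix_z {g : GL ι F} (hi : C.Isom g) (hg : IsKr C.ten g) {z : Fin 3 → F} (hz : C.fU z z ≠ 0)
    (hf : ∀ w, av g (C.ten z w) = C.ten z w) :
    ∃ A : (Fin 3 → F) ≃ₗ[F] (Fin 3 → F), IsIso C.fU A.toLinearMap ∧ g = C.kr A 1 ∧ A z = z := by
  obtain ⟨A, B, hA, hB, -, rfl⟩ := C.exists_kr hg hi
  have hz0 : z ≠ 0 := fun h => hz (by simp [h])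
  have hAz : A z ≠ 0 := fun h => hz0 (A.injective (h.trans (map_zero A).symm))
  have hroz : ∀ w, C.fU (A z) z • B w = C.fU z z • w := fun w => by
    have e := congrArg (C.ro z) (hf w)
    rwa [kr_ten, ro_ten, ro_ten] at e
  have hl : C.fU (A z) z ≠ 0 := fun h => C.b₁_ne <| by
    have e := hroz C.b₁
    rw [h, zero_smul, eq_comm] at e
    exact (smul_eq_zero.1 e).resolve_left hz
  obtain ⟨l, hl'⟩ : ∃ l : Fˣ, (l : F) = C.fU z z / C.fU (A z) z := ⟨Units.mk0 _ (div_ne_zero hz hl), rfl⟩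
  have hB' : ∀ w, B w = (l : F) • w := fun w => by
    rw [hl', div_eq_inv_mul, mul_smul, ← hroz w, inv_smul_smul₀ hl]
  have hk : C.kr A B = C.kr (A.trans (LinearEquiv.smulOfUnit l)) 1 := C.gl_ext fun u w => by
    rw [kr_ten, kr_ten, hB']
    show _ = C.ten ((l : F) • A u) w
    rw [map_smul, map_smul, LinearMap.smul_apply]
  refine ⟨_, C.iso_of_kr_one (hk ▸ hi), hk, C.ten_left_inj C.b₁_ne (w := C.b₁) ?_⟩
  have e := hf C.b₁
  rw [hk, kr_ten] at e
  exact e

theorem eq_one_of_fix {p : ℕ} [Fact p.Prime] [CharP F p] {A : (Fin 3 → F) ≃ₗ[F] (Fin 3 → F)}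
    (hA : IsIso C.fU A.toLinearMap) (hp : A ^ p = 1) {z : Fin 3 → F} (hz : C.fU z z ≠ 0) (hAz : A z = z) :
    A = 1 := by
  refine LinearEquiv.toLinearMap_injective ?_
  have e : ∀ k : ℕ, (A ^ k).toLinearMap = A.toLinearMap ^ k := by
    intro k
    induction k with
    | zero => rfl
    | succ k ih => rw [pow_succ', pow_succ', ← ih]; rfl
  exact eq_id_of_pow C.symU (Module.finrank_fin_fun F) hA (by rw [← e, hp]; rfl) hz hAz

theorem yc_mul {c c' : Fin 4 → F} (hc : C.fW C.e c = 0) (hc' : C.fW C.e c' = 0) :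
    C.yc hc * C.yc hc' = C.yc (c := c + c') (by rw [map_add, hc, hc', add_zero]) := by
  rw [yc, yc, yc, kr_mul, one_mul]
  congr 1
  exact LinearEquiv.ext fun w => siegL_add C.symW C.frW.ee hc hc' w

theorem yc_zero : C.yc (c := 0) (map_zero _) = 1 := by
  rw [yc, ← C.kr_one]
  congr 1
  exact LinearEquiv.ext fun w => by rw [siegE_apply, siegL_zero]; rfl

/-- The group of the Siegel elements with centre `e`. -/
noncomputable def ycGroup : Subgroup (GL ι F) where
  carrier := {x | ∃ c, ∃ hc : C.fW C.e c = 0, x = C.yc hc}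
  mul_mem' := by rintro _ _ ⟨c, hc, rfl⟩ ⟨c', hc', rfl⟩; exact ⟨_, _, C.yc_mul hc hc'⟩
  one_mem' := ⟨0, map_zero _, C.yc_zero.symm⟩
  inv_mem' := by
    rintro _ ⟨c, hc, rfl⟩
    refine ⟨-c, by rw [map_neg, hc, neg_zero], inv_eq_of_mul_eq_one_right ?_⟩
    rw [C.yc_mul, ← C.yc_zero]
    congr 1
    exact add_neg_cancel c

theorem yc_pow_char {c : Fin 4 → F} (hc : C.fW C.e c = 0) (p : ℕ) [CharP F p] : C.yc hc ^ p = 1 := by
  rw [yc, kr_pow, one_pow, C.siegE_pow_char C.symW _ hc p, kr_one]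

theorem ycGroup_not_cyclic : ¬ IsCyclic C.ycGroup := by
  intro hcyc
  obtain ⟨⟨_, c, hc, rfl⟩, hgen⟩ := hcyc.exists_generator
  have h : ∀ d (hd : C.fW C.e d = 0), ∃ k : ℕ, ∀ d', C.fW C.e d' = 0 → C.fW d d' = k * C.fW c d' := by
    intro d hd
    obtain ⟨k, hk⟩ := (mem_powers_iff_mem_zpowers).2 (hgen ⟨_, d, hd, rfl⟩)
    refine ⟨k, fun d' hd' => ?_⟩
    have e := congrArg (fun x => C.co C.g (av x (C.ten C.z d'))) (congrArg Subtype.val hk)
    simp only [SubmonoidClass.coe_pow, yc, kr_pow, one_pow, kr_ten, LinearEquiv.coe_one, id_eq, siegE_apply,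
      siegE_pow, C.siegL_mid hd', map_sub, map_smul, co_g_ten_e, LinearMap.smul_apply, sub_right_inj,
      smul_eq_mul] at e
    exact (smul_left_injective F C.z_ne e).symm
  obtain ⟨j, hj⟩ := h C.b₁ C.frW.eb₁
  obtain ⟨k, hk⟩ := h C.b₂ C.frW.eb₂
  have h11 := hj C.b₁ C.frW.eb₁
  have h12 := hj C.b₂ C.frW.eb₂
  have h22 := hk C.b₂ C.frW.eb₂
  rw [C.frW.b₁b₁] at h11
  rw [C.frW.b₁b₂, eq_comm, mul_eq_zero] at h12
  rw [C.frW.b₂b₂] at h22
  rcases h12 with h | h
  · exact C.frW.n₁0 (by rw [h11, h, zero_mul])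
  · exact C.frW.n₂0 (by rw [h22, h, mul_zero])

/-- The pointwise stabiliser of `z ⊗ W`. -/
def fixGroup (z : Fin 3 → F) : Subgroup (GL ι F) where
  carrier := {x | x ∈ C.H ∧ ∀ w, av x (C.ten z w) = C.ten z w}
  mul_mem' := fun {x y} hx hy => ⟨C.H.mul_mem hx.1 hy.1, fun w => by rw [av_mul, hy.2, hx.2]⟩
  one_mem' := ⟨C.H.one_mem, fun w => av_one _⟩
  inv_mem' := fun {x} hx => ⟨C.H.inv_mem hx.1, fun w => by
    conv_lhs => rw [← hx.2 w]
    exact av_inv_av _ _⟩

theorem yc_conj_fix {z : Fin 3 → F} {y k : GL ι F} (hy : y ∈ C.ycGroup) (hk : k ∈ C.fixGroup z) :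
    y * k * y⁻¹ ∈ C.fixGroup z := by
  obtain ⟨c, hc, rfl⟩ := hy
  refine ⟨C.H.mul_mem (C.H.mul_mem (C.yc_mem hc) hk.1) (C.H.inv_mem (C.yc_mem hc)), fun w => ?_⟩
  rw [av_mul, av_mul, yc, kr_inv, kr_ten, inv_one, LinearEquiv.coe_one, id_eq, hk.2, kr_ten,
    LinearEquiv.coe_one, id_eq]
  congr 1
  exact LinearEquiv.apply_symm_apply _ _

/-- The pointwise stabiliser acts on the first factor only. -/
theorem fixGroup_le (hN : C.NR) {z : Fin 3 → F} (hz : C.fU z z ≠ 0) {k : GL ι F} (hk : k ∈ C.fixGroup z) :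
    ∃ A : (Fin 3 → F) ≃ₗ[F] (Fin 3 → F), IsIso C.fU A.toLinearMap ∧ k = C.kr A 1 ∧ A z = z := by
  suffices IsKr C.ten k from C.fix_z (C.isom_of_mem hk.1) this hz hk.2
  obtain ⟨p, hp, -, hchar⟩ := C.exists_char
  haveI := Fact.mk hp
  classical
  letI act : MulAction ↥C.ycGroup ↥(C.fixGroup z) :=
    { smul := fun y k => ⟨y.1 * k.1 * y.1⁻¹, C.yc_conj_fix y.2 k.2⟩
      one_smul := fun k => Subtype.ext (by show (1 : GL ι F) * k.1 * 1⁻¹ = k.1; group)
      mul_smul := fun y y' k => Subtype.ext (by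
        show y.1 * y'.1 * k.1 * (y.1 * y'.1)⁻¹ = y.1 * (y'.1 * k.1 * y'.1⁻¹) * y.1⁻¹; group) }
  have hA : IsPGroup p C.ycGroup := fun ⟨y, c, hc, e⟩ => ⟨1, Subtype.ext (by
    simp only [SubmonoidClass.coe_pow, pow_one, e, C.yc_pow_char hc p]; rfl)⟩
  have hcop : ¬ p ∣ Nat.card (C.fixGroup z) := by
    intro hdvd
    have hmod := hA.card_modEq_card_fixedPoints ↥(C.fixGroup z)
    let D : Subgroup ↥(C.fixGroup z) := (Subgroup.centralizer (C.ycGroup : Set (GL ι F))).subgroupOf (C.fixGroup z)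
    have hD : Nat.card D = Nat.card (MulAction.fixedPoints ↥C.ycGroup ↥(C.fixGroup z)) :=
      Nat.card_congr (Equiv.subtypeEquivRight fun x => by
        simp only [D, Subgroup.mem_subgroupOf, Subgroup.mem_centralizer_iff, MulAction.mem_fixedPoints]
        constructor
        · intro h y; refine Subtype.ext ?_; show y.1 * x.1 * y.1⁻¹ = x.1
          rw [h _ y.2, mul_inv_cancel_right]
        · intro h y hy
          have e : y * x.1 * y⁻¹ = x.1 := congrArg Subtype.val (h ⟨y, hy⟩)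
          rwa [mul_inv_eq_iff_eq_mul] at e)
    have hdvd' : p ∣ Nat.card D := by
      rw [hD]; exact (Nat.modEq_zero_iff_dvd.1 ((hmod.symm.trans (Nat.modEq_zero_iff_dvd.2 hdvd))))
    obtain ⟨⟨⟨x, hxK⟩, hxD⟩, hx⟩ := exists_prime_orderOf_dvd_card' (G := D) p hdvd'
    have hcom : ∀ c (hc : C.fW C.e c = 0), x * C.yc hc * x⁻¹ = C.yc hc := fun c hc => by
      rw [Subgroup.mem_subgroupOf, Subgroup.mem_centralizer_iff] at hxD
      rw [show x * C.yc hc = C.yc hc * x from (hxD _ ⟨c, hc, rfl⟩).symm, mul_inv_cancel_right]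
    have hKr := C.isKr_of_conj hN hxK.1 C.frW.eb₁ (by rw [C.frW.b₁b₁]; exact C.frW.n₁0) (hcom _ C.frW.eb₁)
    obtain ⟨A, hA, hxA, hAz⟩ := C.fix_z (C.isom_of_mem hxK.1) hKr hz hxK.2
    have hxp : x ^ p = 1 := by
      have e := pow_orderOf_eq_one (⟨⟨x, hxK⟩, hxD⟩ : D)
      rw [hx] at e
      exact congrArg (fun d : D => d.1.1) e
    rw [hxA, kr_pow, one_pow, ← C.kr_one] at hxp
    have hA1 := C.eq_one_of_fix hA (C.kr_one_inj hxp) hz hAz
    have hx1 : (⟨⟨x, hxK⟩, hxD⟩ : D) = 1 :=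
      Subtype.ext (Subtype.ext (by show x = 1; rw [hxA, hA1, C.kr_one]))
    rw [hx1, orderOf_one] at hx
    exact hp.one_lt.ne hx
  have hAc : IsMulCommutative C.ycGroup := ⟨⟨fun ⟨a, c, hc, ha⟩ ⟨b, c', hc', hb⟩ => Subtype.ext (by
    show a * b = b * a
    rw [ha, hb, C.yc_mul hc hc', C.yc_mul hc' hc]
    congr 1; exact add_comm c c')⟩⟩
  let L : Subgroup (GL ι F) :=
    { carrier := {x | IsKr C.ten x}
      mul_mem' := C.isKr_mul
      one_mem' := C.kr_one ▸ C.isKr_kr _ _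
      inv_mem' := C.isKr_inv }
  refine (Coprime.le_of_noncyclic (K := C.fixGroup z) (L := L) C.ycGroup_not_cyclic ?_ ?_ ?_ : _ ≤ L) hk
  · intro y hy
    rw [Subgroup.mem_normalizer_iff]
    refine fun x => ⟨fun hx => C.yc_conj_fix hy hx, fun hx => ?_⟩
    have e := C.yc_conj_fix (C.ycGroup.inv_mem hy) hx
    simpa [mul_assoc] using e
  · obtain ⟨m, hm⟩ := IsPGroup.iff_card.1 hA
    rw [hm]
    exact Nat.Coprime.pow_left m ((hp.coprime_iff_not_dvd).2 hcop)
  · rintro y ⟨c, hc, rfl⟩ hy1 x ⟨hxK, hxc⟩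
    have hcc : C.fW c c ≠ 0 := fun h => hy1 <| by
      obtain ⟨t, rfl⟩ := Submodule.mem_span_singleton.1 (C.minus C.e c C.frW.ee h hc C.e_ne)
      rw [yc, ← C.kr_one]
      congr 1
      refine LinearEquiv.ext fun w => ?_
      show siegL C.fW C.e (t • C.e) w = w
      simp only [siegL_apply, map_smul, LinearMap.smul_apply, C.frW.ee, smul_eq_mul, mul_zero]
      module
    refine C.isKr_of_conj hN hxK.1 hc hcc (σ := siegE C.symW C.frW.ee hc) ?_
    have hxc' := (Subgroup.mem_centralizer_iff.1 hxc) _ (Set.mem_singleton _)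
    show x * C.yc hc * x⁻¹ = C.yc hc
    rw [← hxc', mul_inv_cancel_right]

/-- The centraliser of a half turn consists of Kronecker elements. -/
theorem isKr_of_comm_good (hN : C.NR) {x g : GL ι F} (hx : C.Good x) (hg : g ∈ C.H) (hc : g * x = x * g) :
    IsKr C.ten g := by
  obtain ⟨z, hz, rfl⟩ := hx
  have hz0 : z ≠ 0 := fun h => hz (by simp [h])
  obtain ⟨p, hp, -, hchar⟩ := C.exists_char
  haveI := Fact.mk hp
  have hi := C.isom_of_mem hg
  have hfw : ∀ w, av (C.kr (rotE C.fU hz) 1) (C.ten z w) = C.ten z w := fun w => by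
    rw [kr_ten, rotE_self hz]; rfl
  obtain ⟨τ, hτ⟩ : ∃ τ : (Fin 4 → F) →ₗ[F] (Fin 4 → F),
      τ = ((C.fU z z)⁻¹ • C.ro z).comp ((avL g).comp (C.ten z)) := ⟨_, rfl⟩
  have hgz : ∀ w, av g (C.ten z w) = C.ten z (τ w) := fun w => by
    have e := C.fixed_good hz (v := av g (C.ten z w)) (by rw [← av_mul, ← hc, av_mul, hfw])
    rw [e, hτ]; rfl
  have hτi : IsIso C.fW τ := fun p q => by
    have e := C.polar_isom hi (C.ten z p) (C.ten z q)
    rw [hgz, hgz, C.polarQ, C.polarQ] at e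
    exact mul_left_cancel₀ hz e
  obtain ⟨T, hT⟩ : ∃ T : (Fin 4 → F) ≃ₗ[F] (Fin 4 → F), ∀ w, T w = τ w :=
    ⟨LinearEquiv.ofInjectiveEndo τ (C.symW.injective_of_iso hτi), fun _ => rfl⟩
  have hTi : IsIso C.fW T.toLinearMap := fun p q => by
    show C.fW (T p) (T q) = _; rw [hT, hT]; exact hτi p q
  have hTe : C.fW (T C.e) (T C.e) = 0 := (hTi _ _).trans C.frW.ee
  have hTb : C.fW (T C.e) (T C.b₁) = 0 := (hTi _ _).trans C.frW.eb₁
  have hyH := C.yc_mem C.frW.eb₁
  have hmH := C.siegW_mem hTe hTb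
  obtain ⟨k, hk⟩ : ∃ k, k = (C.kr 1 (siegE C.symW hTe hTb))⁻¹ * (g * C.yc C.frW.eb₁ * g⁻¹) := ⟨_, rfl⟩
  have hkfix : k ∈ C.fixGroup z := by
    refine ⟨hk ▸ C.H.mul_mem (C.H.inv_mem hmH) (C.H.mul_mem (C.H.mul_mem hg hyH) (C.H.inv_mem hg)), fun w => ?_⟩
    obtain ⟨w', rfl⟩ := T.surjective w
    rw [hk, av_mul, av_mul, av_mul, show C.ten z (T w') = C.ten z (τ w') from congrArg _ (hT w'), ← hgz,
      av_inv_av, yc_ten, hgz, hgz, ← hT, ← hT w',
      siegL_conj (β := T) hTi]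
    conv_lhs => rw [← siegE_apply C.symW hTe hTb, show C.ten z (siegE C.symW hTe hTb (T w')) =
      av (C.kr 1 (siegE C.symW hTe hTb)) (C.ten z (T w')) from
      (C.kr_ten 1 (siegE C.symW hTe hTb) z (T w')).symm]
    rw [av_inv_av]
  obtain ⟨A, hA, hkA, hAz⟩ := C.fixGroup_le hN hz hkfix
  have hgy : g * C.yc C.frW.eb₁ * g⁻¹ = C.kr A (siegE C.symW hTe hTb) := by
    rw [← mul_inv_cancel_left (C.kr 1 (siegE C.symW hTe hTb)) (g * C.yc C.frW.eb₁ * g⁻¹), ← hk, hkA, kr_mul,
      one_mul, mul_one]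
  have hp1 : C.kr A (siegE C.symW hTe hTb) ^ p = 1 := by
    rw [← hgy, conj_pow, C.yc_pow_char _ p, mul_one, mul_inv_cancel]
  rw [kr_pow, C.siegE_pow_char C.symW hTe hTb p, ← C.kr_one] at hp1
  rw [C.eq_one_of_fix hA (C.kr_one_inj hp1) hz hAz] at hgy
  exact C.isKr_of_conj hN hg C.frW.eb₁ (by rw [C.frW.b₁b₁]; exact C.frW.n₁0) hgy

/-- Half turns are not fused outside the Kronecker elements. -/
theorem isKr_of_fusion (hN : C.NR) {x h : GL ι F} (hx : C.Good x) (hh : h ∈ C.H) (hc : C.Good (h * x * h⁻¹)) :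
    IsKr C.ten h := by
  obtain ⟨p, hp, -, hchar⟩ := C.exists_char
  haveI := Fact.mk hp
  obtain ⟨z, hz, rfl⟩ := hx
  obtain ⟨z', hz', hx'⟩ := hc
  have hyH := C.yc_mem C.frW.eb₁
  have hcom : C.yc C.frW.eb₁ * C.kr (rotE C.fU hz) 1 = C.kr (rotE C.fU hz) 1 * C.yc C.frW.eb₁ := by
    rw [yc, kr_mul, kr_mul, one_mul, mul_one, one_mul, mul_one]
  have hcom' : h * C.yc C.frW.eb₁ * h⁻¹ * C.kr (rotE C.fU hz') 1 =
      C.kr (rotE C.fU hz') 1 * (h * C.yc C.frW.eb₁ * h⁻¹) := by
    rw [← hx', show h * C.yc C.frW.eb₁ * h⁻¹ * (h * C.kr (rotE C.fU hz) 1 * h⁻¹) =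
      h * (C.yc C.frW.eb₁ * C.kr (rotE C.fU hz) 1) * h⁻¹ by group, hcom]
    group
  have hm := C.H.mul_mem (C.H.mul_mem hh hyH) (C.H.inv_mem hh)
  obtain ⟨A, B, hA, -, hAd, hAB⟩ :=
    C.exists_kr (C.isKr_of_comm_good hN ⟨z', hz', rfl⟩ hm hcom') (C.isom_of_mem hm)
  have hp1 : C.kr A B ^ p = 1 := by
    rw [← hAB, conj_pow, C.yc_pow_char _ p, mul_one, mul_inv_cancel]
  have hAp := (C.sq_of_kr hA hAd hp1).1
  rw [hAB, kr_mul, kr_mul, one_mul, mul_one] at hcom'
  have hrot := rotE_iso C.symU hz'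
  have hd' := det_rotE C.symU (Module.finrank_fin_fun F) hz'
  have hcomA := (C.kr_inj (A := A * rotE C.fU hz') (A' := rotE C.fU hz' * A)
    (fun u v => (hA _ _).trans (hrot u v)) (fun u v => (hrot _ _).trans (hA u v))
    (by show LinearMap.det (A.toLinearMap ∘ₗ (rotE C.fU hz').toLinearMap) = 1
        rw [LinearMap.det_comp, hAd, hd', one_mul])
    (by show LinearMap.det ((rotE C.fU hz').toLinearMap ∘ₗ A.toLinearMap) = 1
        rw [LinearMap.det_comp, hAd, hd', one_mul]) hcom').1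
  have hfix : rotE C.fU hz' (A z') = A z' := by
    rw [← LinearEquiv.mul_apply, ← hcomA, LinearEquiv.mul_apply, rotE_self hz']
  obtain ⟨l, hl⟩ : ∃ l, A z' = l • z' := ⟨_, rot_fixed C.symU hz' hfix⟩
  have hlk : ∀ k : ℕ, (A ^ k) z' = l ^ k • z' := by
    intro k
    induction k with
    | zero => simp
    | succ k ih => rw [pow_succ', LinearEquiv.mul_apply, ih, map_smul, hl, smul_smul, pow_succ]
  have hz0 : z' ≠ 0 := fun h => hz' (by simp [h])
  have hlp : l ^ p = 1 := by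
    have e := hlk p
    rw [hAp, LinearEquiv.coe_one, id_eq] at e
    exact smul_left_injective F hz0 (show l ^ p • z' = (1 : F) • z' by rw [one_smul]; exact e.symm)
  have hl1 : l = 1 := frobenius_inj F p (by simp [frobenius_def, hlp])
  rw [hl1, one_smul] at hl
  rw [C.eq_one_of_fix hA hAp hz' hl] at hAB
  exact C.isKr_of_conj hN hh C.frW.eb₁ (by rw [C.frW.b₁b₁]; exact C.frW.n₁0) hAB

/-- A conjugate of a half turn among the Kronecker elements is a half turn. -/
theorem good_of_conj {x h : GL ι F} (hx : C.Good x) (hh : h ∈ C.H) (hy : IsKr C.ten (h * x * h⁻¹)) :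
    C.Good (h * x * h⁻¹) := by
  obtain ⟨hxH, -, hxx⟩ := C.good_mem hx
  obtain ⟨z, hz, rfl⟩ := hx
  have hyH := C.H.mul_mem (C.H.mul_mem hh hxH) (C.H.inv_mem hh)
  obtain ⟨A, B, hA, hB, hAd, hAB⟩ := C.exists_kr hy (C.isom_of_mem hyH)
  have hy2 : C.kr A B ^ 2 = 1 := by rw [← hAB, conj_pow, pow_two, hxx, mul_one, mul_inv_cancel]
  obtain ⟨hA2, hB2⟩ := C.sq_of_kr hA hAd hy2
  have hAsq : ∀ u, A (A u) = u := fun u => by
    have e := congrArg (fun f : (Fin 3 → F) ≃ₗ[F] (Fin 3 → F) => f u) hA2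
    simpa [pow_two] using e
  have hBsq : ∀ u, B (B u) = u := fun u => by
    have e := congrArg (fun f : (Fin 4 → F) ≃ₗ[F] (Fin 4 → F) => f u) hB2
    simpa [pow_two] using e
  have hBd : LinearMap.det B.toLinearMap = 1 := by
    have e := C.det_eq_one hyH
    rw [hAB, kr_det, hAd, one_pow, one_mul] at e
    have e2 : LinearMap.det B.toLinearMap * LinearMap.det B.toLinearMap = 1 := by
      rw [← LinearMap.det_comp, show B.toLinearMap ∘ₗ B.toLinearMap = LinearMap.id from LinearMap.ext hBsq,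
        LinearMap.det_id]
    calc LinearMap.det B.toLinearMap =
        LinearMap.det B.toLinearMap * (LinearMap.det B.toLinearMap * LinearMap.det B.toLinearMap) := by
          rw [e2, mul_one]
      _ = 1 := by rw [← e]; ring
  have htr : LinearMap.trace F _ A.toLinearMap * LinearMap.trace F _ B.toLinearMap = -4 := by
    rw [← C.kr_trace, ← hAB, Units.val_mul, Units.val_mul, Matrix.trace_units_conj, C.kr_trace, C.trace_rot hz]
    show -1 * LinearMap.trace F _ (LinearMap.id : (Fin 4 → F) →ₗ[F] (Fin 4 → F)) = _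
    rw [LinearMap.trace_id, Module.finrank_fin_fun]; push_cast; ring
  rcases invol_four C.two (Module.finrank_fin_fun F) hBsq hBd with hB1 | hB1 | hB1
  · have hB' : B = 1 := LinearEquiv.toLinearMap_injective hB1
    rw [hB'] at hAB htr
    have hne : A.toLinearMap ≠ LinearMap.id := fun e => C.not_good_one <| by
      have h1 : h * C.kr (rotE C.fU hz) 1 * h⁻¹ = 1 := by
        rw [hAB, (LinearEquiv.toLinearMap_injective e : A = 1),
          C.kr_one]
      rw [conj_eq_one_iff] at h1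
      exact ⟨z, hz, h1.symm⟩
    obtain ⟨w, hw, hAw, hAp⟩ := exists_axis C.symU (Module.finrank_fin_fun F) hA hAsq hAd hne
    refine ⟨w, hw, hAB.trans ?_⟩
    congr 1
    refine LinearEquiv.ext fun u => ?_
    have e : u = (C.fU w u / C.fU w w) • w + (u - (C.fU w u / C.fU w w) • w) := by abel
    have hp' : C.fU w (u - (C.fU w u / C.fU w w) • w) = 0 := by
      rw [map_sub, map_smul, smul_eq_mul, div_mul_cancel₀ _ hw, sub_self]
    rw [e, map_add, map_add, map_smul, map_smul, rotE_self hw, rotE_perp hw hp']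
    congr 1
    · rw [show A w = w from hAw]
    · exact hAp _ hp'
  · exfalso
    by_cases hne : A.toLinearMap = LinearMap.id
    · refine C.neg_one_notMem ?_
      convert hyH using 1
      rw [hAB]
      refine C.gl_ext fun u w => ?_
      rw [kr_ten, show A u = u from LinearMap.congr_fun hne u,
        show B w = -w from LinearMap.congr_fun hB1 w, map_neg]
      simp [av, Matrix.neg_mulVec]
    · obtain ⟨w, hw, hAw, hAp⟩ := exists_axis C.symU (Module.finrank_fin_fun F) hA hAsq hAd hne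
      have hA' : A.toLinearMap = (rotE C.fU hw).toLinearMap := LinearMap.ext fun u => by
        have e : u = (C.fU w u / C.fU w w) • w + (u - (C.fU w u / C.fU w w) • w) := by abel
        have hp' : C.fU w (u - (C.fU w u / C.fU w w) • w) = 0 := by
          rw [map_sub, map_smul, smul_eq_mul, div_mul_cancel₀ _ hw, sub_self]
        rw [e, map_add, map_add, map_smul, map_smul]
        simp only [LinearEquiv.coe_coe]
        rw [rotE_self hw, rotE_perp hw hp', show A _ = -_ from hAp _ hp', show A w = w from hAw]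
      rw [hA', C.trace_rot hw, hB1, map_neg, LinearMap.trace_id, Module.finrank_fin_fun] at htr
      push_cast at htr
      exact mul_ne_zero C.two C.symU.four_ne (by linear_combination htr)
  · exfalso
    rw [hB1, mul_zero, eq_comm, neg_eq_zero] at htr
    exact C.symU.four_ne htr

/-- A product with a good element is good only for a good or trivial factor. -/
theorem eq_one_or_good {ε x : GL ι F} (hεi : ε * ε = 1) (hx : C.Good x) (h : C.Good (ε * x)) :
    ε = 1 ∨ C.Good ε := by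
  obtain ⟨z, hz, rfl⟩ := hx
  obtain ⟨w, hw, he⟩ := h
  have hε : ε = C.kr (rotE C.fU hw * rotE C.fU hz) 1 := by
    calc ε = ε * C.kr (rotE C.fU hz) 1 * C.kr (rotE C.fU hz) 1 := by
          rw [mul_assoc, kr_mul, C.rot_sq hz, one_mul, kr_one, mul_one]
      _ = _ := by rw [he, kr_mul, one_mul]
  obtain ⟨A, hA⟩ : ∃ A, A = rotE C.fU hw * rotE C.fU hz := ⟨_, rfl⟩
  rw [← hA] at hε
  have hAi : IsIso C.fU A.toLinearMap := fun u v => by
    rw [hA]
    exact (rotE_iso C.symU hw _ _).trans (rotE_iso C.symU hz u v)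
  have hAd : LinearMap.det A.toLinearMap = 1 := by
    rw [hA]
    show LinearMap.det ((rotE C.fU hw).toLinearMap ∘ₗ (rotE C.fU hz).toLinearMap) = 1
    rw [LinearMap.det_comp, det_rotE C.symU (Module.finrank_fin_fun F), det_rotE C.symU (Module.finrank_fin_fun F),
      one_mul]
  have hA2 : A * A = 1 := C.kr_one_inj (by
    have e := hεi
    rw [hε, kr_mul, one_mul, ← C.kr_one] at e
    exact e)
  by_cases h1 : A.toLinearMap = LinearMap.id
  · left
    rw [hε, (LinearEquiv.toLinearMap_injective h1 : A = 1), kr_one]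
  · right
    obtain ⟨u, hu, hAu, hAp⟩ := exists_axis C.symU (Module.finrank_fin_fun F) hAi
      (fun v => LinearEquiv.congr_fun hA2 v) hAd h1
    refine ⟨u, hu, hε.trans ?_⟩
    congr 1
    refine LinearEquiv.ext fun v => ?_
    have e : v = (C.fU u v / C.fU u u) • u + (v - (C.fU u v / C.fU u u) • u) := by abel
    have hp' : C.fU u (v - (C.fU u v / C.fU u u) • u) = 0 := by
      rw [map_sub, map_smul, smul_eq_mul, div_mul_cancel₀ _ hu, sub_self]
    rw [e, map_add, map_add, map_smul, map_smul, rotE_self hu, rotE_perp hu hp']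
    congr 1
    · rw [show A u = u from hAu]
    · exact hAp _ hp'

theorem exists_nonsq : ∃ ν : F, ν ≠ 0 ∧ ¬ IsSquare ν := by
  haveI := Fintype.ofFinite F
  obtain ⟨ν, hν⟩ := FiniteField.exists_nonsquare (F := F)
    (fun h => C.two (by haveI := ringChar.of_eq h; exact CharTwo.two_eq_zero))
  exact ⟨ν, fun h => hν (h ▸ IsSquare.zero), hν⟩

/-- Two half turns commuting with a group of involutions, not fused in its centraliser. -/
theorem exists_pair {E : Subgroup (GL ι F)}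
    (hE : ∀ ε ∈ E, ε ∈ C.H ∧ IsKr C.ten ε ∧ ε * ε = 1) :
    ∃ x x', C.Good x ∧ C.Good x' ∧ (∀ ε ∈ E, ε * x = x * ε) ∧ (∀ ε ∈ E, ε * x' = x' * ε) ∧
      ∀ m ∈ C.H, IsKr C.ten m → (∀ ε ∈ E, ε * m = m * ε) → m * x * m⁻¹ ≠ x' := by
  obtain ⟨T, hT⟩ : ∃ T : Set ((Fin 3 → F) ≃ₗ[F] (Fin 3 → F)), T = {A | ∃ B, IsIso C.fU A.toLinearMap ∧
      LinearMap.det A.toLinearMap = 1 ∧ C.kr A B ∈ E} := ⟨_, rfl⟩
  have hEcomm : ∀ a ∈ E, ∀ b ∈ E, a * b = b * a := fun a ha b hb => by
    have h := (hE _ (E.mul_mem ha hb)).2.2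
    calc a * b = a * (a * b * (a * b)) * b := by rw [h, mul_one]
      _ = (a * a) * b * a * (b * b) := by group
      _ = b * a := by rw [(hE a ha).2.2, (hE b hb).2.2, one_mul, mul_one]
  -- the first factor of a commuting element commutes
  have hpr : ∀ {m : GL ι F} {A : (Fin 3 → F) ≃ₗ[F] (Fin 3 → F)} {B : (Fin 4 → F) ≃ₗ[F] (Fin 4 → F)}
      (_ : IsIso C.fU A.toLinearMap) (_ : LinearMap.det A.toLinearMap = 1) (_ : m = C.kr A B)
      (_ : ∀ ε ∈ E, ε * m = m * ε), ∀ α ∈ T, α * A = A * α := by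
    intro m A B hA hAd hm hc α hα
    rw [hT] at hα
    obtain ⟨β, hαi, hαd, hαE⟩ := hα
    have e := hc _ hαE
    rw [hm, kr_mul, kr_mul] at e
    exact (C.kr_inj (A := α * A) (A' := A * α) (fun u v => (hαi _ _).trans (hA u v)) (fun u v => (hA _ _).trans (hαi u v))
      (by show LinearMap.det (α.toLinearMap ∘ₗ A.toLinearMap) = 1; rw [LinearMap.det_comp, hαd, hAd, one_mul])
      (by show LinearMap.det (A.toLinearMap ∘ₗ α.toLinearMap) = 1; rw [LinearMap.det_comp, hαd, hAd, one_mul]) e).1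
  have hsq : ∀ α ∈ T, ∀ u, α (α u) = u := fun α hα u => by
    rw [hT] at hα
    obtain ⟨β, hαi, hαd, hαE⟩ := hα
    have e := (C.sq_of_kr hαi hαd (k := 2) (by rw [pow_two]; exact (hE _ hαE).2.2)).1
    simpa [pow_two] using congrArg (fun f : (Fin 3 → F) ≃ₗ[F] (Fin 3 → F) => f u) e
  have hmem : ∀ ε ∈ E, ∃ A B, A ∈ T ∧ ε = C.kr A B := fun ε hε => by
    obtain ⟨A, B, hA, -, hAd, he⟩ := C.exists_kr (hE ε hε).2.1 (C.isom_of_mem (hE ε hε).1)
    exact ⟨A, B, hT ▸ ⟨B, hA, hAd, he ▸ hε⟩, he⟩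
  have hTcomm : ∀ α ∈ T, ∀ α' ∈ T, α * α' = α' * α := fun α hα α' hα' => by
    rw [hT] at hα'
    obtain ⟨β', hi', hd', hE'⟩ := hα'
    exact hpr hi' hd' rfl (fun ε hε => hEcomm ε hε _ hE') α hα
  have haxis : ∀ α ∈ T, α ≠ 1 → ∃ z, ∃ hz : C.fU z z ≠ 0, α = rotE C.fU hz := by
    intro α hα hne
    have hα' := hα
    rw [hT] at hα'
    obtain ⟨β, hαi, hαd, -⟩ := hα'
    obtain ⟨u, hu, hAu, hAp⟩ := exists_axis C.symU (Module.finrank_fin_fun F) hαi (hsq α hα) hαd
      (fun e => hne (LinearEquiv.toLinearMap_injective e))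
    refine ⟨u, hu, LinearEquiv.ext fun v => ?_⟩
    have e : v = (C.fU u v / C.fU u u) • u + (v - (C.fU u v / C.fU u u) • u) := by abel
    have hp' : C.fU u (v - (C.fU u v / C.fU u u) • u) = 0 := by
      rw [map_sub, map_smul, smul_eq_mul, div_mul_cancel₀ _ hu, sub_self]
    rw [e, map_add, map_add, map_smul, map_smul, rotE_self hu, rotE_perp hu hp']
    congr 1
    · rw [show α u = u from hAu]
    · exact hAp _ hp'
  have hgood : ∀ A : (Fin 3 → F) ≃ₗ[F] (Fin 3 → F), (∀ α ∈ T, α * A = A * α) →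
      ∀ ε ∈ E, ε * C.kr A 1 = C.kr A 1 * ε := fun A hA ε hε => by
    obtain ⟨α, β, hα, rfl⟩ := hmem ε hε
    rw [kr_mul, kr_mul, hA α hα, mul_one, one_mul]
  have hconj : ∀ {m : GL ι F} {A : (Fin 3 → F) ≃ₗ[F] (Fin 3 → F)} {B : (Fin 4 → F) ≃ₗ[F] (Fin 4 → F)}
      {z w : Fin 3 → F} (hz : C.fU z z ≠ 0) (hw : C.fU w w ≠ 0), m = C.kr A B →
      m * C.kr (rotE C.fU hz) 1 * m⁻¹ = C.kr (rotE C.fU hw) 1 → A * rotE C.fU hz * A⁻¹ = rotE C.fU hw := by
    intro m A B z w hz hw hm he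
    rw [hm, kr_inv, kr_mul, kr_mul, mul_one, mul_inv_cancel] at he
    exact C.kr_one_inj he
  by_cases h2 : ∃ α ∈ T, ∃ α' ∈ T, α ≠ 1 ∧ α' ≠ 1 ∧ α ≠ α'
  · obtain ⟨α, hα, α', hα', h1, h1', hne⟩ := h2
    obtain ⟨z, hz, rfl⟩ := haxis α hα h1
    obtain ⟨w, hw, rfl⟩ := haxis α' hα' h1'
    refine ⟨_, _, ⟨z, hz, rfl⟩, ⟨w, hw, rfl⟩, hgood _ (fun β hβ => hTcomm β hβ _ hα),
      hgood _ (fun β hβ => hTcomm β hβ _ hα'), fun m hmH hmK hc he => hne ?_⟩
    obtain ⟨A, B, hA, -, hAd, hm⟩ := C.exists_kr hmK (C.isom_of_mem hmH)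
    have e := hconj hz hw hm he
    rwa [← hpr hA hAd hm hc _ hα, mul_inv_cancel_right] at e
  push Not at h2
  by_cases h1 : ∃ α ∈ T, α ≠ 1
  · obtain ⟨α, hα, hα1⟩ := h1
    obtain ⟨z, hz, rfl⟩ := haxis α hα hα1
    have hz0 : z ≠ 0 := fun h => hz (by simp [h])
    obtain ⟨u, hu0, hu⟩ := exists_perp C.symU ![z] (by rw [Module.finrank_fin_fun]; norm_num)
    have hzu : C.fU z u = 0 := hu 0
    obtain ⟨w, hw, hzw⟩ : ∃ w, C.fU w w ≠ 0 ∧ C.fU z w = 0 := by
      by_cases huu : C.fU u u = 0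
      · obtain ⟨y, hy⟩ := exists_ne C.symU hu0
        obtain ⟨y', hy'⟩ : ∃ y', y' = y - (C.fU z y / C.fU z z) • z := ⟨_, rfl⟩
        have hzy' : C.fU z y' = 0 := by rw [hy', map_sub, map_smul, smul_eq_mul, div_mul_cancel₀ _ hz, sub_self]
        have huy' : C.fU u y' ≠ 0 := by
          rw [hy', map_sub, map_smul, C.symU.symm u z, hzu, smul_zero, sub_zero]; exact hy
        by_cases hyy : C.fU y' y' = 0
        · refine ⟨u + y', ?_, by rw [map_add, hzu, hzy', add_zero]⟩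
          simp only [map_add, LinearMap.add_apply, huu, hyy, C.symU.symm y' u, zero_add, add_zero]
          rw [← two_mul]; exact mul_ne_zero C.two huy'
        · exact ⟨y', hyy, hzy'⟩
      · exact ⟨u, huu, hzu⟩
    have hc : ∀ β ∈ T, β * rotE C.fU hw = rotE C.fU hw * β := fun β hβ => by
      by_cases hβ1 : β = 1
      · rw [hβ1, one_mul, mul_one]
      · rw [← h2 _ hα β hβ hα1 hβ1]; exact rot_comm C.symU hz hw hzw
    refine ⟨_, _, ⟨z, hz, rfl⟩, ⟨w, hw, rfl⟩, hgood _ (fun β hβ => hTcomm β hβ _ hα), hgood _ hc,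
      fun m hmH hmK hcm he => ?_⟩
    obtain ⟨A, B, hA, -, hAd, hm⟩ := C.exists_kr hmK (C.isom_of_mem hmH)
    have e := hconj hz hw hm he
    rw [← hpr hA hAd hm hcm _ hα, mul_inv_cancel_right] at e
    have ez := LinearEquiv.congr_fun e z
    rw [rotE_self hz, rotE_perp hw (by rw [C.symU.symm, hzw])] at ez
    exact hz0 ((smul_eq_zero.1 (show (2 : F) • z = 0 by rw [two_smul]; nth_rewrite 1 [ez]; exact neg_add_cancel z)).resolve_left C.two)
  push Not at h1
  obtain ⟨ν, hν0, hν⟩ := C.exists_nonsq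
  have hzz : C.fU C.z C.z ≠ 0 := C.frU.zz ▸ C.frU.n0
  obtain ⟨w, hwdef⟩ : ∃ w, w = C.a + (ν * C.n / 2) • C.b := ⟨_, rfl⟩
  have hww : C.fU w w = ν * C.n := by
    have h2' := C.two
    simp [hwdef, C.frU.aa, C.frU.bb, C.frU.ab, C.symU.symm C.b C.a]
    field_simp; ring
  have hw : C.fU w w ≠ 0 := hww ▸ mul_ne_zero hν0 C.frU.n0
  refine ⟨_, _, ⟨C.z, hzz, rfl⟩, ⟨w, hw, rfl⟩, hgood _ (fun β hβ => by rw [h1 β hβ, one_mul, mul_one]),
    hgood _ (fun β hβ => by rw [h1 β hβ, one_mul, mul_one]), fun m hmH hmK hcm he => ?_⟩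
  obtain ⟨A, B, hA, -, -, hm⟩ := C.exists_kr hmK (C.isom_of_mem hmH)
  have e := hconj hzz hw hm he
  have hfix : rotE C.fU hw (A C.z) = A C.z := by
    rw [← e, LinearEquiv.mul_apply, LinearEquiv.mul_apply]
    rw [show A⁻¹ (A C.z) = C.z from A.symm_apply_apply C.z, rotE_self hzz]
  have hl := rot_fixed C.symU hw hfix
  generalize C.fU w (A C.z) / C.fU w w = l at hl
  have e2 := hA C.z C.z
  rw [LinearEquiv.coe_coe, hl, map_smul, map_smul, LinearMap.smul_apply, hww, C.frU.zz, smul_eq_mul,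
    smul_eq_mul] at e2
  have e3 : l * l * ν = 1 := mul_right_cancel₀ C.frU.n0 (by linear_combination e2)
  have hl0 : l ≠ 0 := fun h => by simp [h] at e3
  refine hν ⟨l⁻¹, ?_⟩
  field_simp
  linear_combination e3

/-- Centralisers of elementary abelian groups of Kronecker elements without half turns. -/
theorem cent_isKr (hN : C.NR) (n : ℕ) : ∀ (E : Subgroup (GL ι F)),
    (∀ ε ∈ E, ε ∈ C.H ∧ IsKr C.ten ε ∧ ε * ε = 1) → (∀ ε ∈ E, ¬ C.Good ε) →
    Nat.card (GL ι F) < Nat.card E + n → ∀ c ∈ C.H, (∀ ε ∈ E, ε * c = c * ε) → IsKr C.ten c := by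
  classical
  induction n with
  | zero => exact fun E _ _ h => absurd h (not_lt.2 (by simpa using Subgroup.card_le_card_group E))
  | succ n ih =>
    intro E hE hng hcard c hcH hcE
    obtain ⟨x, x', hx, hx', hxE, hx'E, hne⟩ := C.exists_pair hE
    obtain ⟨hxH, -, hxx⟩ := C.good_mem hx
    obtain ⟨hx'H, -, hx'x'⟩ := C.good_mem hx'
    obtain ⟨y, hy⟩ : ∃ y, y = c * x' * c⁻¹ := ⟨_, rfl⟩
    have hcE' : ∀ ε ∈ E, Commute ε c := hcE
    have hxE' : ∀ ε ∈ E, Commute ε x := hxE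
    have hx'E' : ∀ ε ∈ E, Commute ε x' := hx'E
    have hyH : y ∈ C.H := hy ▸ C.H.mul_mem (C.H.mul_mem hcH hx'H) (C.H.inv_mem hcH)
    have hyy : y * y = 1 := by
      rw [hy, show c * x' * c⁻¹ * (c * x' * c⁻¹) = c * (x' * x') * c⁻¹ by group, hx'x', mul_one, mul_inv_cancel]
    have hyE : ∀ ε ∈ E, Commute ε y := fun ε hε => hy ▸
      ((hcE' ε hε).mul_right (hx'E' ε hε)).mul_right (hcE' ε hε).inv_right
    have final : IsKr C.ten y → IsKr C.ten c := fun hk =>
      C.isKr_of_fusion hN hx' hcH (C.good_of_conj hx' hcH (hy ▸ hk))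
    have hεone : ∀ {ε g : GL ι F}, ε ∈ E → C.Good g → C.Good (ε * g) → ε = 1 := fun hε hg hg' =>
      (C.eq_one_or_good (hE _ hε).2.2 hg hg').resolve_right (hng _ hε)
    obtain ⟨r, hr⟩ : ∃ r, r = x * y := ⟨_, rfl⟩
    have hrE : ∀ ε ∈ E, Commute ε r := fun ε hε => hr ▸ (hxE' ε hε).mul_right (hyE ε hε)
    have hrH : r ∈ C.H := hr ▸ C.H.mul_mem hxH hyH
    have hxinv : x⁻¹ = x := inv_eq_of_mul_eq_one_right hxx
    have hyinv : y⁻¹ = y := inv_eq_of_mul_eq_one_right hyy
    have hrinv : r⁻¹ = y * x := by rw [hr, _root_.mul_inv_rev, hxinv, hyinv]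
    have hflip : ∀ k : ℕ, r ^ k * x * (r ^ k)⁻¹ = r ^ (2 * k) * x := by
      intro k
      have e : x * r * x⁻¹ = r⁻¹ := by
        rw [hrinv, hr, ← mul_assoc, hxx, one_mul, hxinv]
      have e' : x * r ^ k * x⁻¹ = r⁻¹ ^ k := by rw [← e, conj_pow]
      rw [inv_pow] at e'
      rw [← e', two_mul, pow_add, show r ^ k * x * (x * r ^ k * x⁻¹) = r ^ k * (x * x) * r ^ k * x⁻¹ by group, hxx,
        mul_one, hxinv]
    have hex : ∃ m, 0 < m ∧ r ^ m ∈ E := ⟨orderOf r, orderOf_pos r, by rw [pow_orderOf_eq_one]; exact E.one_mem⟩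
    obtain ⟨hm0, hmE⟩ := Nat.find_spec hex
    obtain ⟨m, hm⟩ : ∃ m, m = Nat.find hex := ⟨_, rfl⟩
    rw [← hm] at hm0 hmE
    rcases Nat.even_or_odd m with ⟨k, hk⟩ | ⟨k, hk⟩
    · -- even
      have hwH : r ^ k ∈ C.H := C.H.pow_mem hrH k
      have hconj : r ^ k * x * (r ^ k)⁻¹ = r ^ m * x := by rw [hflip, hk, two_mul]
      have hmx : IsKr C.ten (r ^ m * x) := C.isKr_mul (hE _ hmE).2.1 (C.good_mem hx).2.1
      have hε : r ^ m = 1 := hεone hmE hx (hconj ▸ C.good_of_conj hx hwH (by rw [hconj]; exact hmx))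
      rw [hε, one_mul] at hconj
      have hwx : r ^ k * x = x * r ^ k := by
        conv_rhs => rw [← hconj, inv_mul_cancel_right]
      have hww : r ^ k * r ^ k = 1 := by rw [← pow_add, ← hk, hε]
      have hwy : Commute (r ^ k) y := by
        have e : y = x * r := by rw [hr, ← mul_assoc, hxx, one_mul]
        have hwx' : Commute (r ^ k) x := hwx
        rw [e]; exact hwx'.mul_right ((Commute.refl r).pow_left k)
      have hwK : IsKr C.ten (r ^ k) := C.isKr_of_comm_good hN hx hwH hwx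
      have hwnot : r ^ k ∉ E := fun hw =>
        Nat.find_min hex (show k < Nat.find hex by omega) ⟨by omega, hw⟩
      obtain ⟨w, hw⟩ : ∃ w, w = r ^ k := ⟨_, rfl⟩
      rw [← hw] at hwH hwx hww hwy hwK hwnot
      have hwE : ∀ ε ∈ E, Commute ε w := fun ε hε => hw ▸ (hrE ε hε).pow_right k
      let E' : Subgroup (GL ι F) :=
        { carrier := {g | g ∈ E ∨ w * g ∈ E}
          mul_mem' := by
            rintro a b (ha | ha) (hb | hb)
            · exact Or.inl (E.mul_mem ha hb)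
            · exact Or.inr (by rw [← mul_assoc, ← (hwE a ha).eq, mul_assoc]; exact E.mul_mem ha hb)
            · exact Or.inr (by rw [← mul_assoc]; exact E.mul_mem ha hb)
            · left
              have e : w * a * (w * b) = a * b := by
                rw [show w * a * (w * b) = w * a * w * b by group]
                have h1 := (hwE _ ha).eq
                rw [mul_assoc w a w] at h1
                have h2 : a * w = w * a := by
                  have := congrArg (w * ·) h1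
                  simp only [← mul_assoc, hww, one_mul] at this
                  exact this
                rw [mul_assoc w a w, h2, ← mul_assoc, hww, one_mul]
              exact e ▸ E.mul_mem ha hb
          one_mem' := Or.inl E.one_mem
          inv_mem' := by
            rintro a (ha | ha)
            · exact Or.inl (E.inv_mem ha)
            · refine Or.inr ?_
              have h1 := (hwE _ (E.inv_mem ha)).eq
              rw [_root_.mul_inv_rev, inv_eq_of_mul_eq_one_right hww] at h1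
              have h2 : w * a⁻¹ = a⁻¹ * w := by
                have := congrArg (· * w) h1
                simp only [mul_assoc, hww, mul_one] at this
                exact this.symm
              have h3 : w * a⁻¹ = (w * a)⁻¹ := by
                rw [_root_.mul_inv_rev, inv_eq_of_mul_eq_one_right hww, h2]
              rw [h3]; exact E.inv_mem ha }
      have hsplit : ∀ g ∈ E', g ∈ E ∨ ∃ ε ∈ E, g = w * ε := fun g hg => hg.imp id fun h =>
        ⟨_, h, by rw [← mul_assoc, hww, one_mul]⟩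
      have hyE' : ∀ g ∈ E', g * y = y * g := fun g hg => by
        rcases hsplit g hg with h | ⟨ε, hε', rfl⟩
        · exact (hyE g h).eq
        · exact (hwy.mul_left (hyE ε hε')).eq
      have hE' : ∀ g ∈ E', g ∈ C.H ∧ IsKr C.ten g ∧ g * g = 1 := fun g hg => by
        rcases hsplit g hg with h | ⟨ε, hε', rfl⟩
        · exact hE g h
        · refine ⟨C.H.mul_mem hwH (hE ε hε').1, C.isKr_mul hwK (hE ε hε').2.1, ?_⟩
          rw [(hwE ε hε').mul_mul_mul_comm, hww, (hE ε hε').2.2, one_mul]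
      by_cases hg : ∃ g ∈ E', C.Good g
      · obtain ⟨g, hgE, hgood⟩ := hg
        exact final (C.isKr_of_comm_good hN hgood hyH (hyE' g hgE).symm)
      · push Not at hg
        have hlt : Nat.card E < Nat.card E' := by
          have hle : E ≤ E' := fun g hg => Or.inl hg
          refine lt_of_le_of_ne (Subgroup.card_le_of_le hle) fun he => hwnot ?_
          rw [Subgroup.eq_of_le_of_card_ge hle he.ge]
          exact Or.inr (hww ▸ E.one_mem)
        exact final (ih E' hE' hg (by omega) y hyH hyE')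
    · -- odd
      exfalso
      have hkH : r ^ k ∈ C.H := C.H.pow_mem hrH k
      have hconj : r ^ k * x * (r ^ k)⁻¹ = r ^ m * y := by
        rw [hflip, hk, pow_succ, mul_assoc (r ^ (2 * k)), hr, mul_assoc x, hyy, mul_one]
      obtain ⟨h, hh⟩ : ∃ h, h = c⁻¹ * r ^ k := ⟨_, rfl⟩
      have hhH : h ∈ C.H := hh ▸ C.H.mul_mem (C.H.inv_mem hcH) hkH
      have hcm : Commute (r ^ m) c := hcE' _ hmE
      have hconj' : h * x * h⁻¹ = r ^ m * x' := by
        rw [hh, show c⁻¹ * r ^ k * x * (c⁻¹ * r ^ k)⁻¹ = c⁻¹ * (r ^ k * x * (r ^ k)⁻¹) * c by group, hconj, hy,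
          ← mul_assoc, hcm.inv_right.symm.eq]
        group
      have hKr : IsKr C.ten (h * x * h⁻¹) := by
        rw [hconj']; exact C.isKr_mul (hE _ hmE).2.1 (C.good_mem hx').2.1
      have hg := C.good_of_conj hx hhH hKr
      rw [hconj'] at hg
      have hε := hεone hmE hx' hg
      rw [hε, one_mul] at hconj'
      refine hne h hhH (C.isKr_of_fusion hN hx hhH (hconj' ▸ hx')) ?_ hconj'
      exact fun ε hε' => hh ▸ ((hcE' ε hε').inv_right.mul_right ((hrE ε hε').pow_right k)).eq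

/-- With a rigid radical every element of the overgroup is a Kronecker element. -/
theorem isKr_all (hN : C.NR) {h : GL ι F} (hh : h ∈ C.H) : IsKr C.ten h := by
  refine C.cent_isKr hN (Nat.card (GL ι F)) ⊥ ?_ ?_ (by simp) h hh (by simp)
  · intro ε hε
    rw [Subgroup.mem_bot] at hε
    subst hε
    exact ⟨C.H.one_mem, C.kr_one ▸ C.isKr_kr _ _, one_mul 1⟩
  · intro ε hε
    rw [Subgroup.mem_bot] at hε
    subst hε
    exact C.not_good_one

end Ctx

end Cfsg.Agent.Lib.TensorThreeFour
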