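import Cfsg.Agent.Lib.TensorThreeFour.Setup

/-!
Kronecker isometries: normal form, determinant and trace, and elements of odd order.
-/

set_option autoImplicit false
set_option linter.unusedSectionVars false

namespace Cfsg.Agent.Lib.TensorThreeFour

open Module QuadraticMap Matrix Cfsg.Agent.Lib
open scoped Kronecker

variable {ι : Type} [Fintype ι] [DecidableEq ι] {F : Type*} [Field F]

theorem av_mul (x y : GL ι F) (v : ι → F) : av (x * y) v = av x (av y v) := by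
  rw [av, Units.val_mul, ← mulVec_mulVec]

theorem av_one (v : ι → F) : av (1 : GL ι F) v = v := by
  rw [av, Units.val_one, one_mulVec]

theorem av_inv_av (x : GL ι F) (v : ι → F) : av x⁻¹ (av x v) = v := by
  rw [← av_mul, inv_mul_cancel, av_one]

theorem av_av_inv (x : GL ι F) (v : ι → F) : av x (av x⁻¹ v) = v := by
  rw [← av_mul, mul_inv_cancel, av_one]

/-- The action as a linear map. -/
abbrev avL (x : GL ι F) : (ι → F) →ₗ[F] (ι → F) := Matrix.mulVecLin (x : Matrix ι ι F)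

namespace Ctx

variable (C : Ctx F ι)
include C

theorem b₁_ne : C.b₁ ≠ 0 := fun h => C.frW.n₁0 (by rw [← C.frW.b₁b₁, h]; simp)

theorem e_ne : C.e ≠ 0 := fun h => one_ne_zero (α := F) (by rw [← C.frW.eg, h]; simp)

theorem z_ne : C.z ≠ 0 := fun h => C.frU.n0 (by rw [← C.frU.zz, h]; simp)

theorem a_ne : C.a ≠ 0 := fun h => one_ne_zero (α := F) (by rw [← C.frU.ab, h]; simp)

theorem ten_left_inj {u u' : Fin 3 → F} {w : Fin 4 → F} (hw : w ≠ 0) (h : C.ten u w = C.ten u' w) :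
    u = u' := by
  obtain ⟨c, hc⟩ := exists_ne C.symW hw
  have h' := congrArg (C.co c) h
  rw [co_ten, co_ten] at h'
  exact (smul_right_injective _ hc h')

theorem ten_right_inj {u : Fin 3 → F} {w w' : Fin 4 → F} (hu : u ≠ 0) (h : C.ten u w = C.ten u w') :
    w = w' := by
  obtain ⟨c, hc⟩ := exists_ne C.symU hu
  have h' := congrArg (C.ro c) h
  rw [ro_ten, ro_ten] at h'
  exact (smul_right_injective _ hc h')

theorem kr_left_eq {A A' : (Fin 3 → F) ≃ₗ[F] (Fin 3 → F)} {B B' : (Fin 4 → F) ≃ₗ[F] (Fin 4 → F)}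
    (h : C.kr A B = C.kr A' B') : ∃ l : F, ∀ u, A u = l • A' u := by
  obtain ⟨c, hc⟩ := exists_ne C.symW (fun e => C.b₁_ne (B.injective (e.trans (map_zero B).symm)))
  refine ⟨C.fW (B' C.b₁) c / C.fW (B C.b₁) c, fun u => ?_⟩
  have h' := congrArg (fun x => C.co c (av x (C.ten u C.b₁))) h
  simp only [kr_ten, co_ten] at h'
  rw [div_eq_inv_mul, ← smul_smul, ← h', smul_smul, inv_mul_cancel₀ hc, one_smul]

theorem kr_inj {A A' : (Fin 3 → F) ≃ₗ[F] (Fin 3 → F)} {B B' : (Fin 4 → F) ≃ₗ[F] (Fin 4 → F)}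
    (hA : IsIso C.fU A.toLinearMap) (hA' : IsIso C.fU A'.toLinearMap) (hd : LinearMap.det A.toLinearMap = 1)
    (hd' : LinearMap.det A'.toLinearMap = 1) (h : C.kr A B = C.kr A' B') : A = A' ∧ B = B' := by
  obtain ⟨l, hl⟩ := C.kr_left_eq h
  have hAl : A.toLinearMap = l • A'.toLinearMap := LinearMap.ext hl
  have hsq : l * l = 1 := by
    have e := hA C.z C.z
    rw [hAl] at e
    have e' : C.fU (A' C.z) (A' C.z) = C.n := (hA' C.z C.z).trans C.frU.zz
    simp only [LinearMap.smul_apply, LinearEquiv.coe_coe, map_smul, smul_eq_mul, e', C.frU.zz] at e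
    exact mul_right_cancel₀ C.frU.n0 (by linear_combination e)
  have hcu : l ^ 3 = 1 := by
    rw [hAl, LinearMap.det_smul, hd', mul_one, Module.finrank_fin_fun] at hd
    exact hd
  have hl1 : l = 1 := by linear_combination hcu - l * hsq
  have hAA : A = A' := LinearEquiv.ext fun u => by rw [hl, hl1, one_smul]
  refine ⟨hAA, LinearEquiv.ext fun w => ?_⟩
  have h' := congrArg (fun x => av x (C.ten C.z w)) h
  simp only [kr_ten, hAA] at h'
  exact C.ten_right_inj (fun e => C.z_ne (A'.injective (e.trans (map_zero A').symm))) h'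

theorem repr_ten (u : Fin 3 → F) (w : Fin 4 → F) (i : Fin 3) (j : Fin 4) :
    C.bV.repr (C.ten u w) (i, j) = u i * w j := by
  refine LinearMap.congr_fun (LinearMap.congr_fun (?_ : C.ten.compr₂ (C.bV.coord (i, j)) =
    (LinearMap.mul F F).compl₁₂ (LinearMap.proj i) (LinearMap.proj j)) u) w
  refine (Pi.basisFun F (Fin 3)).ext fun k => (Pi.basisFun F (Fin 4)).ext fun l => ?_
  simp only [LinearMap.compr₂_apply, LinearMap.compl₁₂_apply, Pi.basisFun_apply, ← C.bV_eq]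
  simp only [Basis.coord_apply, Basis.repr_self, LinearMap.coe_proj, Function.eval, LinearMap.mul_apply']
  rw [Finsupp.single_apply]
  by_cases h1 : k = i <;> by_cases h2 : l = j <;> simp [h1, h2, Ne.symm] <;> tauto

theorem toMatrix_krL (A : (Fin 3 → F) →ₗ[F] (Fin 3 → F)) (B : (Fin 4 → F) →ₗ[F] (Fin 4 → F)) :
    LinearMap.toMatrix C.bV C.bV (C.krL A B) = LinearMap.toMatrix' A ⊗ₖ LinearMap.toMatrix' B := by
  ext ⟨k, l⟩ ⟨i, j⟩
  rw [LinearMap.toMatrix_apply, C.bV_eq, krL_ten, repr_ten]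
  simp [Matrix.kroneckerMap_apply, LinearMap.toMatrix'_apply]

theorem kr_det (A : (Fin 3 → F) ≃ₗ[F] (Fin 3 → F)) (B : (Fin 4 → F) ≃ₗ[F] (Fin 4 → F)) :
    (C.kr A B : Matrix ι ι F).det = LinearMap.det A.toLinearMap ^ 4 * LinearMap.det B.toLinearMap ^ 3 := by
  show (LinearMap.toMatrix' _).det = _
  rw [LinearMap.det_toMatrix', ← LinearMap.det_toMatrix C.bV, toMatrix_krL, Matrix.det_kronecker,
    LinearMap.det_toMatrix', LinearMap.det_toMatrix', Fintype.card_fin, Fintype.card_fin]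

theorem kr_trace (A : (Fin 3 → F) ≃ₗ[F] (Fin 3 → F)) (B : (Fin 4 → F) ≃ₗ[F] (Fin 4 → F)) :
    (C.kr A B : Matrix ι ι F).trace =
      LinearMap.trace F _ A.toLinearMap * LinearMap.trace F _ B.toLinearMap := by
  show (LinearMap.toMatrix' _).trace = _
  have e : ∀ {κ : Type} [Fintype κ] [DecidableEq κ] (f : (κ → F) →ₗ[F] (κ → F)),
      (LinearMap.toMatrix' f).trace = LinearMap.trace F _ f := fun f => by
    rw [LinearMap.trace_eq_matrix_trace F (Pi.basisFun F _) f, LinearMap.toMatrix_eq_toMatrix']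
  rw [e, LinearMap.trace_eq_matrix_trace F C.bV, toMatrix_krL, Matrix.trace_kronecker, e, e]

theorem det_eq_one {x : GL ι F} (hx : x ∈ C.H) : (x : Matrix ι ι F).det = 1 := by
  obtain ⟨k, hk, rfl⟩ := C.le_omega hx
  have h := Abelianization.commutator_subset_ker
    ((Matrix.GeneralLinearGroup.det : GL ι F →* Fˣ).comp (Cfsg.isometryGroup F ⇑C.Q).subtype) hk
  exact congrArg Units.val (MonoidHom.mem_ker.1 h)

/-- Normal form of a Kronecker isometry. -/
theorem exists_kr {x : GL ι F} (hx : IsKr C.ten x) (hI : C.Isom x) :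
    ∃ (A : (Fin 3 → F) ≃ₗ[F] (Fin 3 → F)) (B : (Fin 4 → F) ≃ₗ[F] (Fin 4 → F)),
      IsIso C.fU A.toLinearMap ∧ IsIso C.fW B.toLinearMap ∧ LinearMap.det A.toLinearMap = 1 ∧
        x = C.kr A B := by
  obtain ⟨A, B, h⟩ := hx
  have hAB : ∀ u u' w w', C.fU (A u) (A u') * C.fW (B w) (B w') = C.fU u u' * C.fW w w' := fun u u' w w' => by
    rw [← C.polarQ, ← h, ← h, C.polar_isom hI, C.polarQ]
  have h0 := hAB C.z C.z C.b₁ C.b₁
  rw [C.frU.zz, C.frW.b₁b₁] at h0
  have hne := mul_ne_zero C.frU.n0 C.frW.n₁0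
  rw [← h0] at hne
  obtain ⟨m, hm⟩ : ∃ m, m = C.n₁ / C.fW (B C.b₁) (B C.b₁) := ⟨_, rfl⟩
  have hm0 : m ≠ 0 := hm ▸ div_ne_zero C.frW.n₁0 (right_ne_zero_of_mul hne)
  have hA : ∀ u u', C.fU (A u) (A u') = m * C.fU u u' := fun u u' => by
    have h1 := hAB u u' C.b₁ C.b₁
    rw [C.frW.b₁b₁] at h1
    rw [hm, div_mul_eq_mul_div, eq_div_iff (right_ne_zero_of_mul hne), h1, mul_comm]
  have hB : ∀ w w', C.fW (B w) (B w') = m⁻¹ * C.fW w w' := fun w w' => by
    have h1 := hAB C.z C.z w w'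
    rw [hA, C.frU.zz] at h1
    rw [eq_comm, inv_mul_eq_iff_eq_mul₀ hm0]
    exact mul_left_cancel₀ C.frU.n0 (by linear_combination -h1)
  obtain ⟨d, hd⟩ : ∃ d, d = LinearMap.det A.toLinearMap := ⟨_, rfl⟩
  have hdet : m ^ 3 = d ^ 2 := by
    have hG : (LinearMap.toMatrix₂' F C.fU).det ≠ 0 :=
      LinearMap.separatingLeft_iff_det_ne_zero (Pi.basisFun F (Fin 3)) |>.1 (fun x hx => C.symU.nd x hx)
    have e : C.fU.compl₁₂ A.toLinearMap A.toLinearMap = m • C.fU :=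
      LinearMap.ext fun u => LinearMap.ext fun u' => hA u u'
    have e' := congrArg (fun M => (LinearMap.toMatrix₂' F M).det) e
    rw [LinearMap.toMatrix₂'_compl₁₂, map_smul, Matrix.det_mul, Matrix.det_mul, Matrix.det_transpose,
      Matrix.det_smul, Fintype.card_fin, LinearMap.det_toMatrix', ← hd] at e'
    refine mul_right_cancel₀ hG ?_
    linear_combination -e'
  have hd0 : d ≠ 0 := fun h => pow_ne_zero 3 hm0 (by rw [hdet, h]; ring)
  obtain ⟨l, hl⟩ : ∃ l : Fˣ, (l : F) = m / d := ⟨Units.mk0 _ (div_ne_zero hm0 hd0), rfl⟩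
  refine ⟨A.trans (LinearEquiv.smulOfUnit l), B.trans (LinearEquiv.smulOfUnit l⁻¹), fun u u' => ?_,
    fun w w' => ?_, ?_, C.eq_kr fun u w => ?_⟩
  · show C.fU ((l : F) • A u) ((l : F) • A u') = _
    simp only [map_smul, LinearMap.smul_apply, smul_eq_mul, hA, hl]
    field_simp
    linear_combination (C.fU u u') * hdet
  · show C.fW (((l⁻¹ : Fˣ) : F) • B w) (((l⁻¹ : Fˣ) : F) • B w') = _
    simp only [map_smul, LinearMap.smul_apply, smul_eq_mul, hB, Units.val_inv_eq_inv_val, hl]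
    field_simp
    linear_combination -(C.fW w w') * hdet
  · show LinearMap.det ((l : F) • A.toLinearMap) = 1
    rw [LinearMap.det_smul, Module.finrank_fin_fun, ← hd, hl]
    field_simp
    linear_combination hdet
  · show _ = C.ten ((l : F) • A u) (((l⁻¹ : Fˣ) : F) • B w)
    rw [map_smul, map_smul, LinearMap.smul_apply, smul_smul, Units.inv_mul, one_smul, h]

variable [Finite F]

theorem kr_mem_of_pow_odd {A : (Fin 3 → F) ≃ₗ[F] (Fin 3 → F)} {B : (Fin 4 → F) ≃ₗ[F] (Fin 4 → F)}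
    (hA : IsIso C.fU A.toLinearMap) (hB : IsIso C.fW B.toLinearMap) {k : ℕ} (hk : Odd k) (hAk : A ^ k = 1)
    (hBk : B ^ k = 1) : C.kr A B ∈ C.H :=
  C.kron _ (C.mem_omega_of_pow_odd (C.isom_kr hA hB) hk (by rw [kr_pow, hAk, hBk, kr_one])) (C.isKr_kr _ _)

theorem exists_char : ∃ p : ℕ, p.Prime ∧ Odd p ∧ CharP F p := by
  obtain ⟨p, hp⟩ := CharP.exists F
  have hpr := CharP.char_is_prime F p
  refine ⟨p, hpr, hpr.odd_of_ne_two fun h => C.two ?_, hp⟩
  subst h
  exact CharTwo.two_eq_zero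

theorem siegE_pow_char {V : Type*} [AddCommGroup V] [Module F V] {f : LinearMap.BilinForm F V} (hf : Sym f)
    {e b : V} (he : f e e = 0) (hb : f e b = 0) (p : ℕ) [CharP F p] : siegE hf he hb ^ p = 1 :=
  LinearEquiv.ext fun x => by
    rw [siegE_pow hf he hb, CharP.cast_eq_zero, zero_smul, siegL_zero]; rfl

theorem siegU_mem {x b : Fin 3 → F} (hx : C.fU x x = 0) (hb : C.fU x b = 0) :
    C.kr (siegE C.symU hx hb) 1 ∈ C.H := by
  obtain ⟨p, -, hpo, hc⟩ := C.exists_char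
  exact C.kr_mem_of_pow_odd (siegL_iso C.symU hx hb) (fun _ _ => rfl) hpo (C.siegE_pow_char C.symU hx hb p)
    (one_pow _)

theorem siegW_mem {x b : Fin 4 → F} (hx : C.fW x x = 0) (hb : C.fW x b = 0) :
    C.kr 1 (siegE C.symW hx hb) ∈ C.H := by
  obtain ⟨p, -, hpo, hc⟩ := C.exists_char
  exact C.kr_mem_of_pow_odd (fun _ _ => rfl) (siegL_iso C.symW hx hb) hpo (one_pow _)
    (C.siegE_pow_char C.symW hx hb p)

theorem rot_mem {u : Fin 3 → F} (hu : C.fU u u ≠ 0) : C.kr (rotE C.fU hu) 1 ∈ C.H := by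
  obtain ⟨_, _, _, h1, h2, h3, key⟩ := C.exists_neg_refl
  have h := C.H.mul_mem (C.pair_mem h1 h2) (C.pair_mem h3 hu)
  rw [kr_mul, one_mul] at h
  rwa [show rotE C.fU hu = reflE C.fU h1 * reflE C.fU h2 * (reflE C.fU h3 * reflE C.fU hu) by
    rw [← mul_assoc, key]; rfl]

theorem det_reflE {u : Fin 3 → F} (hu : C.fU u u ≠ 0) : LinearMap.det (reflE C.fU hu).toLinearMap = -1 := by
  have h := det_rotE C.symU (Module.finrank_fin_fun F) hu
  have e : (rotE C.fU hu).toLinearMap = (-1 : F) • (reflE C.fU hu).toLinearMap :=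
    LinearMap.ext fun x => by simp [rotE_apply]
  rw [e, LinearMap.det_smul, Module.finrank_fin_fun] at h
  linear_combination -h

theorem exists_flip : ∃ A : (Fin 3 → F) ≃ₗ[F] (Fin 3 → F), IsIso C.fU A.toLinearMap ∧ C.kr A 1 ∈ C.H ∧
    A C.a = C.b ∧ A C.b = C.a ∧ A C.z = -C.z := by
  have fr := C.frU
  have h1 : C.fU C.z C.z ≠ 0 := fr.zz ▸ fr.n0
  have e : C.fU (C.a - C.b) (C.a - C.b) = -2 := by
    simp [fr.aa, fr.bb, fr.ab, C.symU.symm C.b C.a]; ring
  have h2 : C.fU (C.a - C.b) (C.a - C.b) ≠ 0 := e ▸ neg_ne_zero.2 C.two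
  refine ⟨reflE C.fU h1 * reflE C.fU h2, fun x y => ?_, C.pair_mem h1 h2, ?_, ?_, ?_⟩
  · exact (reflL_iso C.symU h1 _ _).trans (reflL_iso C.symU h2 x y)
  all_goals
    show reflL C.fU C.z (reflL C.fU (C.a - C.b) _) = _
    simp only [reflL_apply, e, fr.zz, fr.aa, fr.bb, fr.ab, fr.az, fr.bz, C.symU.symm C.b C.a, C.symU.symm C.z C.a,
      C.symU.symm C.z C.b, map_sub, map_smul, LinearMap.sub_apply, smul_eq_mul, neg_mul, div_neg, inv_neg]
    have := C.two
    have : (-2 : F) ≠ 0 := neg_ne_zero.2 C.two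
    have := fr.n0
    match_scalars <;> field_simp <;> ring_nf <;> field_simp <;> ring

theorem exists_torus {l : F} (hl : l ≠ 0) : ∃ A : (Fin 3 → F) ≃ₗ[F] (Fin 3 → F),
    IsIso C.fU A.toLinearMap ∧ C.kr A 1 ∈ C.H ∧ A C.a = l • C.a ∧ A C.b = l⁻¹ • C.b ∧ A C.z = C.z := by
  have fr := C.frU
  have e1 : C.fU (C.a - l • C.b) (C.a - l • C.b) = -2 * l := by
    simp [fr.aa, fr.bb, fr.ab, C.symU.symm C.b C.a]; ring
  have h1 : C.fU (C.a - l • C.b) (C.a - l • C.b) ≠ 0 := e1 ▸ mul_ne_zero (neg_ne_zero.2 C.two) hl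
  have e : C.fU (C.a - C.b) (C.a - C.b) = -2 := by
    simp [fr.aa, fr.bb, fr.ab, C.symU.symm C.b C.a]; ring
  have h2 : C.fU (C.a - C.b) (C.a - C.b) ≠ 0 := e ▸ neg_ne_zero.2 C.two
  refine ⟨reflE C.fU h2 * reflE C.fU h1, fun x y => ?_, C.pair_mem h2 h1, ?_, ?_, ?_⟩
  · exact (reflL_iso C.symU h2 _ _).trans (reflL_iso C.symU h1 x y)
  all_goals
    show reflL C.fU (C.a - C.b) (reflL C.fU (C.a - l • C.b) _) = _
    simp only [reflL_apply, e, e1, fr.aa, fr.bb, fr.ab, fr.az, fr.bz, C.symU.symm C.b C.a, C.symU.symm C.z C.a,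
      C.symU.symm C.z C.b, map_sub, map_smul, LinearMap.sub_apply, LinearMap.smul_apply, smul_eq_mul, neg_mul, div_neg, inv_neg]
    have := C.two
    have : (-2 : F) ≠ 0 := neg_ne_zero.2 C.two
    match_scalars <;> field_simp <;> ring_nf <;> field_simp <;> ring

end Ctx

end Cfsg.Agent.Lib.TensorThreeFour
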