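import Cfsg.Agent.Lib.TensorThreeFour.Good
import Cfsg.Agent.Lib.MaxClass.OrthEven.NotTop

/-!
The stabiliser of a tensor decomposition `O₃ ⊗ O₄⁻` is maximal in `Ω₁₂⁻`, for at least five elements.
-/

set_option autoImplicit false
set_option linter.unusedSectionVars false

namespace Cfsg.Agent.Lib.TensorThreeFour

open Module QuadraticMap Matrix Cfsg.Agent.Lib
open scoped Kronecker

variable {ι : Type} [Fintype ι] [DecidableEq ι] {F : Type*} [Field F]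

/-- The product of vectors in the coordinates of a decomposition. -/
def tenMap (e : ι ≃ Fin 3 × Fin 4) (P : GL ι F) : (Fin 3 → F) →ₗ[F] (Fin 4 → F) →ₗ[F] (ι → F) :=
  LinearMap.mk₂ F (fun u w => av P ((fun x : Fin 3 × Fin 4 => u x.1 * w x.2) ∘ e))
    (fun u u' w => by
      show av P _ = av P _ + av P _
      rw [av, av, av, ← mulVec_add]; congr 1; funext i; simp [add_mul])
    (fun c u w => by
      show av P _ = c • av P _
      rw [av, av, ← mulVec_smul]; congr 1; funext i; simp [mul_assoc])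
    (fun u w w' => by
      show av P _ = av P _ + av P _
      rw [av, av, av, ← mulVec_add]; congr 1; funext i; simp [mul_add])
    (fun c u w => by
      show av P _ = c • av P _
      rw [av, av, ← mulVec_smul]; congr 1; funext i; simp [mul_left_comm])

theorem tenMap_apply (e : ι ≃ Fin 3 × Fin 4) (P : GL ι F) (u : Fin 3 → F) (w : Fin 4 → F) :
    tenMap e P u w = av P ((fun x : Fin 3 × Fin 4 => u x.1 * w x.2) ∘ e) := rfl

/-- The basis of pure tensors. -/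
noncomputable def tenBasis (e : ι ≃ Fin 3 × Fin 4) (P : GL ι F) : Basis (Fin 3 × Fin 4) F (ι → F) :=
  (Pi.basisFun F (Fin 3 × Fin 4)).map ((LinearEquiv.funCongrLeft F F e).trans (Forms.glEquiv ι F P))

theorem tenBasis_eq (e : ι ≃ Fin 3 × Fin 4) (P : GL ι F) (i : Fin 3) (j : Fin 4) :
    tenBasis e P (i, j) = tenMap e P (Pi.single i 1) (Pi.single j 1) := by
  rw [tenBasis, Basis.map_apply, Pi.basisFun_apply, tenMap_apply, LinearEquiv.trans_apply, Forms.glEquiv_apply]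
  show av P _ = av P _
  congr 1
  funext x
  obtain ⟨k, l⟩ : ∃ k l, e x = (k, l) := ⟨_, _, rfl⟩
  simp only [LinearEquiv.funCongrLeft_apply, LinearMap.funLeft_apply, Function.comp_apply]
  by_cases h1 : (e x).1 = i <;> by_cases h2 : (e x).2 = j <;>
    simp [Pi.single_apply, Prod.ext_iff, h1, h2]

theorem kron_pure (a : Matrix (Fin 3) (Fin 3) F) (b : Matrix (Fin 4) (Fin 4) F) (u : Fin 3 → F)
    (w : Fin 4 → F) :
    (a ⊗ₖ b) *ᵥ (fun x : Fin 3 × Fin 4 => u x.1 * w x.2) = fun x => (a *ᵥ u) x.1 * (b *ᵥ w) x.2 := by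
  funext ⟨i, j⟩
  simp only [mulVec, dotProduct, Fintype.sum_prod_type, kroneckerMap_apply, Finset.sum_mul_sum]
  exact Finset.sum_congr rfl fun k _ => Finset.sum_congr rfl fun l _ => by ring

theorem av_conj_reindex (e : ι ≃ Fin 3 × Fin 4) (P : GL ι F) (R : GL (Fin 3 × Fin 4) F)
    (v : Fin 3 × Fin 4 → F) :
    av (P * Cfsg.Geo.glReindex e.symm R * P⁻¹) (av P (v ∘ e)) =
      av P (((R : Matrix (Fin 3 × Fin 4) (Fin 3 × Fin 4) F) *ᵥ v) ∘ e) := by
  rw [av_mul, av_inv_av, av_mul]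
  congr 1
  show (Matrix.reindexAlgEquiv F F e.symm (R : Matrix (Fin 3 × Fin 4) (Fin 3 × Fin 4) F)) *ᵥ _ = _
  rw [Matrix.coe_reindexAlgEquiv, Matrix.reindex_apply, Equiv.symm_symm, Matrix.submatrix_mulVec_equiv]
  congr 2
  funext x
  simp

theorem isKr_of_mem {e : ι ≃ Fin 3 × Fin 4} {P g : GL ι F}
    (hg : g ∈ Cfsg.Geo.tensorProductSubgroup 3 4 e P) : IsKr (tenMap e P) g := by
  obtain ⟨_, ⟨R, ⟨a, b, hR⟩, rfl⟩, rfl⟩ := hg
  refine ⟨Forms.glEquiv (Fin 3) F a, Forms.glEquiv (Fin 4) F b, fun u w => ?_⟩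
  simp only [MulEquiv.coe_toMonoidHom, MulAut.conj_apply, tenMap_apply, Forms.glEquiv_apply]
  rw [av_conj_reindex, hR, kron_pure]

theorem mem_of_isKr {e : ι ≃ Fin 3 × Fin 4} {P g : GL ι F} (hg : IsKr (tenMap e P) g) :
    g ∈ Cfsg.Geo.tensorProductSubgroup 3 4 e P := by
  obtain ⟨A, B, hA⟩ := hg
  obtain ⟨a, ha⟩ : ∃ a : GL (Fin 3) F, a = (Forms.glEquiv (Fin 3) F).symm A := ⟨_, rfl⟩
  obtain ⟨b, hb⟩ : ∃ b : GL (Fin 4) F, b = (Forms.glEquiv (Fin 4) F).symm B := ⟨_, rfl⟩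
  obtain ⟨R, hR⟩ : ∃ R : GL (Fin 3 × Fin 4) F, (R : Matrix (Fin 3 × Fin 4) (Fin 3 × Fin 4) F) =
      (a : Matrix (Fin 3) (Fin 3) F) ⊗ₖ (b : Matrix (Fin 4) (Fin 4) F) := by
    refine ⟨GeneralLinearGroup.mkOfDetNeZero (_ ⊗ₖ _) ?_, rfl⟩
    erw [det_kronecker]
    exact mul_ne_zero (pow_ne_zero _ ((Matrix.isUnit_iff_isUnit_det _).mp (Units.isUnit _)).ne_zero)
      (pow_ne_zero _ ((Matrix.isUnit_iff_isUnit_det _).mp (Units.isUnit _)).ne_zero)
  refine ⟨_, ⟨R, ⟨a, b, hR⟩, rfl⟩, SingMax.gl_ext' fun v => ?_⟩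
  refine LinearMap.congr_fun ((tenBasis e P).ext (f₁ := avL _) (f₂ := avL g) fun ⟨i, j⟩ => ?_) v
  rw [tenBasis_eq]
  show av _ _ = av g _
  simp only [MulEquiv.coe_toMonoidHom, MulAut.conj_apply, hA]
  rw [tenMap_apply, av_conj_reindex, hR, kron_pure, tenMap_apply, ha, hb, Forms.glEquiv_symm_mulVec,
    Forms.glEquiv_symm_mulVec]

variable [Finite F] {Q : QuadraticForm F (ι → F)}

theorem exists_ctx {f₁ : (Fin 3 → F) → (Fin 3 → F) → F} {f₂ : (Fin 4 → F) → (Fin 4 → F) → F}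
    (h2 : (2 : F) ≠ 0) (h5 : 5 ≤ Nat.card F) {e : ι ≃ Fin 3 × Fin 4} {P : GL ι F}
    (hf₁ : Cfsg.Geo.IsSymmetricForm f₁) (hf₂ : Cfsg.Geo.IsSymmetricForm f₂)
    (hm : ¬ Cfsg.Geo.IsPlusTypeOn (fun v : Fin 4 → F => f₂ v v) ⊤)
    (hT : Cfsg.Geo.IsTensorFormStructure id (QuadraticMap.polar ⇑Q) f₁ f₂ e P)
    {M : Subgroup (GL ι F)} (hPM : Cfsg.Geo.tensorProductSubgroup 3 4 e P ⊓ Cfsg.Geo.omegaGL ⇑Q ≤ M)
    (hMK : M ≤ Cfsg.Geo.omegaGL ⇑Q) : ∃ C : Ctx F ι, C.Q = Q ∧ C.H = M ∧ C.ten = tenMap e P := by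
  obtain ⟨c, hc, hT⟩ := hT
  obtain ⟨hb₁, hs₁, hn₁⟩ := hf₁
  obtain ⟨hb₂, hs₂, hn₂⟩ := hf₂
  obtain ⟨β₁, hβ₁⟩ : ∃ β : LinearMap.BilinForm F (Fin 3 → F), ∀ u v, β u v = f₁ u v :=
    ⟨LinearMap.mk₂ F f₁ hb₁.add_left hb₁.smul_left (fun v x y => hb₁.add_right v x y)
      (fun a v x => hb₁.smul_right a v x), fun _ _ => rfl⟩
  obtain ⟨β₂, hβ₂⟩ : ∃ β : LinearMap.BilinForm F (Fin 4 → F), ∀ u v, β u v = f₂ u v :=
    ⟨LinearMap.mk₂ F f₂ hb₂.add_left hb₂.smul_left (fun v x y => hb₂.add_right v x y)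
      (fun a v x => hb₂.smul_right a v x), fun _ _ => rfl⟩
  obtain ⟨fU, hfU⟩ : ∃ fU : LinearMap.BilinForm F (Fin 3 → F), fU = c • β₁ := ⟨_, rfl⟩
  have hU : ∀ u v, fU u v = c * f₁ u v := fun u v => by rw [hfU]; simp [hβ₁]
  have symU : Sym fU := ⟨fun x y => by rw [hU, hU, hs₁], fun x hx => by
    by_contra h0
    obtain ⟨y, hy⟩ := (hn₁ x h0).2
    exact mul_ne_zero hc hy (by rw [← hU]; exact hx y), h2⟩
  have symW : Sym β₂ := ⟨fun x y => by rw [hβ₂, hβ₂, hs₂], fun x hx => by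
    by_contra h0
    obtain ⟨y, hy⟩ := (hn₂ x h0).2
    exact hy (by rw [← hβ₂]; exact hx y), h2⟩
  have hminus : ∀ x y, β₂ x x = 0 → β₂ y y = 0 → β₂ x y = 0 → x ≠ 0 → y ∈ F ∙ x := by
    intro x y hx hy hxy hx0
    by_contra hne
    have hli : LinearIndependent F ![x, y] := (LinearIndependent.pair_iff' hx0).mpr fun t ht =>
      hne (Submodule.mem_span_singleton.2 ⟨t, ht⟩)
    refine hm ⟨Submodule.span F (Set.range ![x, y]), le_top, fun v hv => ?_, ?_⟩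
    · rw [Matrix.range_cons, Matrix.range_cons, Matrix.range_empty, Set.union_empty, Set.singleton_union,
        Submodule.mem_span_pair] at hv
      obtain ⟨s, t, rfl⟩ := hv
      show f₂ _ _ = 0
      rw [← hβ₂]
      simp [hx, hy, hxy, symW.symm y x]
    · rw [finrank_span_eq_card hli, finrank_top, Module.finrank_fin_fun]; rfl
  have hpol : ∀ u w u' w', polar ⇑Q (tenMap e P u w) (tenMap e P u' w') = fU u u' * β₂ w w' := by
    intro u w u' w'
    have hexp : ∀ {n : ℕ} (f : LinearMap.BilinForm F (Fin n → F)) (x y : Fin n → F),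
        f x y = ∑ i, ∑ j, x i * f (Pi.single i 1) (Pi.single j 1) * y j := fun {n} f x y => by
      conv_lhs => rw [← Matrix.toBilin'_toMatrix' f, Matrix.toBilin'_apply]
      simp [LinearMap.BilinForm.toMatrix'_apply]
    rw [tenMap_apply, tenMap_apply, hT, hU, mul_assoc, ← hβ₁, hexp β₁, hexp β₂]
    congr 1
    simp only [Cfsg.Geo.formOfGram, id, kroneckerMap_apply, Cfsg.Geo.gramMatrix,
      Fintype.sum_prod_type, Finset.sum_mul_sum]
    refine Finset.sum_congr rfl fun i _ => Finset.sum_congr rfl fun j _ => Finset.sum_congr rfl fun k _ =>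
      Finset.sum_congr rfl fun l _ => ?_
    rw [hβ₁, hβ₂]
    ring
  obtain ⟨a, ha0, ha, -⟩ := FormMax.OrthSL.exists_singular_conds (Q := LinearMap.BilinMap.toQuadraticMap fU) h2
    (![] : Fin 0 → Fin 3 → F) (by simp)
  obtain ⟨w₀, hw0, hw, -⟩ := FormMax.OrthSL.exists_singular_conds (Q := LinearMap.BilinMap.toQuadraticMap β₂) h2
    (![] : Fin 0 → Fin 4 → F) (by simp)
  obtain ⟨z, b, n, frU⟩ := exists_frame3 symU (Module.finrank_fin_fun F) ha0 ha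
  obtain ⟨g, b₁, b₂, n₁, n₂, frW⟩ := exists_frame4 symW (Module.finrank_fin_fun F)
    (fun x y hx hy hxy hx0 => hminus x y hx hy hxy hx0) hw0 hw
  exact ⟨{
    Q := Q
    fU := fU
    fW := β₂
    ten := tenMap e P
    H := M
    a := a
    z := z
    b := b
    n := n
    e := w₀
    g := g
    b₁ := b₁
    b₂ := b₂
    n₁ := n₁
    n₂ := n₂
    bV := tenBasis e P
    bV_eq := tenBasis_eq e P
    symU := symU
    symW := symW
    frU := frU
    frW := frW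
    minus := hminus
    polarQ := hpol
    five := h5
    le_omega := hMK
    kron := fun h hh hk => hPM ⟨mem_of_isKr hk, hh⟩ }, rfl, rfl, rfl⟩

/-- The stabiliser of a tensor decomposition `O₃ ⊗ O₄⁻` is maximal. -/
theorem isMaximalIn_tensor {F : Type*} [Field F] [Fintype F] {Q : QuadraticForm F (ι → F)}
    (hQ : (QuadraticMap.polarBilin Q).Nondegenerate) (h2 : (2 : F) ≠ 0) (h5 : 5 ≤ Fintype.card F)
    {f₁ : (Fin 3 → F) → (Fin 3 → F) → F} {f₂ : (Fin 4 → F) → (Fin 4 → F) → F}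
    {e : ι ≃ Fin 3 × Fin 4} {P : GL ι F}
    (hf₁ : Cfsg.Geo.IsSymmetricForm f₁) (hf₂ : Cfsg.Geo.IsSymmetricForm f₂)
    (hm : ¬ Cfsg.Geo.IsPlusTypeOn (fun v : Fin 4 → F => f₂ v v) ⊤)
    (hT : Cfsg.Geo.IsTensorFormStructure id (QuadraticMap.polar ⇑Q) f₁ f₂ e P) :
    Cfsg.Geo.IsMaximalIn (Cfsg.Geo.omegaGL ⇑Q)
      (Cfsg.Geo.tensorProductSubgroup 3 4 e P ⊓ Cfsg.Geo.omegaGL ⇑Q) := by
  have h5' : 5 ≤ Nat.card F := by rwa [Nat.card_eq_fintype_card]
  have hn : Fintype.card ι = 12 := by rw [Fintype.card_congr e]; simp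
  refine ⟨lt_of_le_of_ne inf_le_right fun heq =>
    MaxClass.OrthEven.not_le_tensorProductSubgroup hQ (by omega) (by omega) (by norm_num) (by norm_num) e P
      (heq.ge.trans inf_le_left), fun M hPM hMK => ?_⟩
  obtain ⟨C, hCQ, hCH, hCt⟩ := exists_ctx h2 h5' hf₁ hf₂ hm hT hPM hMK
  by_cases hN : C.NR
  · left
    refine le_antisymm (fun g hg => ⟨mem_of_isKr (hCt ▸ C.isKr_all hN (hCH.symm ▸ hg)), hMK hg⟩) hPM
  · right
    refine le_antisymm hMK ?_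
    have h := C.omega_le_of_not_NR hN
    rwa [hCQ, hCH] at h

end Cfsg.Agent.Lib.TensorThreeFour
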