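import Cfsg.Agent.Lib.TensorThreeFour.Small

/-!
Involutions of small orthogonal spaces, and operators on a three-dimensional space commuting with Siegel
maps up to scalars.
-/

set_option autoImplicit false
set_option linter.unusedSectionVars false

namespace Cfsg.Agent.Lib.TensorThreeFour

open Module

variable {F : Type*} [Field F] {V : Type*} [AddCommGroup V] [Module F V]

theorem exists_not_pm_one [Finite F] (h5 : 5 ≤ Nat.card F) : ∃ s : F, s ≠ 0 ∧ s * s ≠ 1 := by
  classical
  haveI := Fintype.ofFinite F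
  by_contra h
  push Not at h
  have hsub : (Finset.univ : Finset F) ⊆ {0, 1, -1} := fun s _ => by
    by_cases h0 : s = 0
    · simp [h0]
    · rcases mul_self_eq_one_iff.1 (h s h0) with e | e <;> simp [e]
  have := (Finset.card_le_card hsub).trans Finset.card_le_three
  rw [Finset.card_univ, ← Nat.card_eq_fintype_card] at this
  omega

section Invol

variable [FiniteDimensional F V]

/-- Trace and determinant of an involution in terms of the dimension of its negated space. -/
theorem trace_det_invol (h2 : (2 : F) ≠ 0) {α : V →ₗ[F] V} (hα : ∀ x, α (α x) = x) :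
    LinearMap.trace F V α = (finrank F V : F) - 2 * (finrank F (LinearMap.ker (α + 1)) : F) ∧
      LinearMap.det α = (-1) ^ finrank F (LinearMap.ker (α + 1)) ∧
      finrank F (LinearMap.ker (α - 1)) + finrank F (LinearMap.ker (α + 1)) = finrank F V := by
  set P := LinearMap.ker (α - 1) with hP
  set N := LinearMap.ker (α + 1) with hN
  have memP : ∀ x, x ∈ P ↔ α x = x := fun x => by
    simp [hP, LinearMap.mem_ker, sub_eq_zero]
  have memN : ∀ x, x ∈ N ↔ α x = -x := fun x => by
    simp [hN, LinearMap.mem_ker, add_eq_zero_iff_eq_neg]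
  have hc : IsCompl P N := by
    refine ⟨disjoint_iff.2 ((Submodule.eq_bot_iff _).2 fun x hx => ?_), codisjoint_iff.2 (eq_top_iff.2 fun x _ => ?_)⟩
    · have h1 := (memP x).1 hx.1
      have h3 := (memN x).1 hx.2
      have : (2 : F) • x = 0 := by rw [two_smul]; nth_rewrite 1 [← h1]; rw [h3, neg_add_cancel]
      exact (smul_eq_zero.1 this).resolve_left h2
    · refine Submodule.mem_sup.2 ⟨(2 : F)⁻¹ • (x + α x), (memP _).2 ?_, (2 : F)⁻¹ • (x - α x), (memN _).2 ?_, ?_⟩
      · rw [map_smul, map_add, hα]; module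
      · rw [map_smul, map_sub, hα]; module
      · rw [← smul_add, show x + α x + (x - α x) = (2 : F) • x by module, smul_smul, inv_mul_cancel₀ h2, one_smul]
  let e := Submodule.prodEquivOfIsCompl P N hc
  have hαe : e.symm.conj α = LinearMap.prodMap LinearMap.id (-LinearMap.id) := by
    refine LinearMap.ext fun v => ?_
    rw [LinearEquiv.conj_apply, LinearEquiv.symm_symm, LinearMap.comp_apply, LinearMap.comp_apply,
      LinearEquiv.coe_coe, LinearEquiv.coe_coe, LinearEquiv.symm_apply_eq, LinearMap.prodMap_apply,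
      LinearMap.id_apply, LinearMap.neg_apply, LinearMap.id_apply]
    simp only [e, Submodule.coe_prodEquivOfIsCompl', map_add, Submodule.coe_neg, (memP _).1 v.1.2, (memN _).1 v.2.2]
  refine ⟨?_, ?_, Submodule.finrank_add_eq_of_isCompl hc⟩
  · rw [← LinearMap.trace_conj' α e.symm, hαe, LinearMap.trace_prodMap', map_neg, LinearMap.trace_id,
      LinearMap.trace_id, ← Submodule.finrank_add_eq_of_isCompl hc]
    push_cast; ring
  · have hd : LinearMap.det (e.symm.conj α) = LinearMap.det α := LinearMap.det_conj α e.symm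
    rw [← hd, hαe, LinearMap.det_prodMap, LinearMap.det_id, one_mul, ← neg_one_smul F LinearMap.id,
      LinearMap.det_smul, LinearMap.det_id, mul_one]

theorem ker_fun_finrank {φ : V →ₗ[F] F} (hφ : φ ≠ 0) : finrank F (LinearMap.ker φ) + 1 = finrank F V := by
  have h1 := LinearMap.finrank_range_add_finrank_ker φ
  rw [LinearMap.range_eq_top.2 (LinearMap.surjective_of_ne_zero hφ), finrank_top, finrank_self] at h1
  omega

/-- An involutory isometry of determinant one of a three-space is a half turn. -/
theorem exists_axis {f : LinearMap.BilinForm F V} (hf : Sym f) (hd : finrank F V = 3) {α : V →ₗ[F] V}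
    (hα : IsIso f α) (hsq : ∀ x, α (α x) = x) (hdet : LinearMap.det α = 1) (hne : α ≠ LinearMap.id) :
    ∃ z, f z z ≠ 0 ∧ α z = z ∧ ∀ x, f z x = 0 → α x = -x := by
  obtain ⟨-, h2, h3⟩ := trace_det_invol hf.two hsq
  rw [hdet] at h2
  have hN0 : finrank F (LinearMap.ker (α + 1)) ≠ 0 := fun h0 => hne <| by
    have hP : LinearMap.ker (α - 1) = ⊤ := Submodule.eq_top_of_finrank_eq (by omega)
    refine LinearMap.ext fun x => ?_
    have : x ∈ LinearMap.ker (α - 1) := hP ▸ Submodule.mem_top
    simpa [LinearMap.mem_ker, sub_eq_zero] using this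
  have hne1 : (-1 : F) ≠ 1 := fun h => hf.two (by linear_combination -h)
  have hN2 : finrank F (LinearMap.ker (α + 1)) = 2 := by
    rcases (show finrank F (LinearMap.ker (α + 1)) = 1 ∨ finrank F (LinearMap.ker (α + 1)) = 2 ∨
      finrank F (LinearMap.ker (α + 1)) = 3 by omega) with h | h | h
    · rw [h] at h2; simp at h2; exact absurd h2.symm hne1
    · exact h
    · rw [h] at h2; norm_num at h2; exact absurd h2.symm hne1
  obtain ⟨z, hz, hz0⟩ := Submodule.exists_mem_ne_zero_of_ne_bot (p := LinearMap.ker (α - 1))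
    (fun h => by rw [h, finrank_bot] at h3; omega)
  have hz1 : α z = z := by simpa [LinearMap.mem_ker, sub_eq_zero] using hz
  have hperp : ∀ x ∈ LinearMap.ker (α + 1), f z x = 0 := fun x hx => by
    have hx' : α x = -x := by simpa [LinearMap.mem_ker, add_eq_zero_iff_eq_neg] using hx
    have h := hα z x
    rw [hz1, hx', map_neg] at h
    exact (mul_eq_zero.1 (show (2 : F) * f z x = 0 by linear_combination -h)).resolve_left hf.two
  have hfz : f z ≠ 0 := fun h => hz0 (hf.nd z fun y => by rw [h]; rfl)
  have hle : LinearMap.ker (α + 1) = LinearMap.ker (f z) :=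
    Submodule.eq_of_le_of_finrank_eq (fun x hx => LinearMap.mem_ker.2 (hperp x hx))
      (by have := ker_fun_finrank hfz; omega)
  refine ⟨z, fun hzz => ?_, hz1, fun x hx => ?_⟩
  · have : z ∈ LinearMap.ker (α + 1) := hle ▸ LinearMap.mem_ker.2 hzz
    have h' : α z = -z := by simpa [LinearMap.mem_ker, add_eq_zero_iff_eq_neg] using this
    rw [hz1] at h'
    exact hz0 ((smul_eq_zero.1 (show (2 : F) • z = 0 by rw [two_smul]; nth_rewrite 1 [h']; exact neg_add_cancel z)).resolve_left hf.two)
  · have : x ∈ LinearMap.ker (α + 1) := hle ▸ LinearMap.mem_ker.2 hx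
    simpa [LinearMap.mem_ker, add_eq_zero_iff_eq_neg] using this

/-- An involution of determinant one of a four-space is `± 1` or has trace zero. -/
theorem invol_four (h2 : (2 : F) ≠ 0) (hd : finrank F V = 4) {β : V →ₗ[F] V} (hsq : ∀ x, β (β x) = x)
    (hdet : LinearMap.det β = 1) : β = LinearMap.id ∨ β = -LinearMap.id ∨ LinearMap.trace F V β = 0 := by
  obtain ⟨ht, hdt, h3⟩ := trace_det_invol h2 hsq
  rw [hdet] at hdt
  have hne1 : (-1 : F) ≠ 1 := fun h => h2 (by linear_combination -h)
  rcases (show finrank F (LinearMap.ker (β + 1)) = 0 ∨ finrank F (LinearMap.ker (β + 1)) = 1 ∨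
      finrank F (LinearMap.ker (β + 1)) = 2 ∨ finrank F (LinearMap.ker (β + 1)) = 3 ∨
      finrank F (LinearMap.ker (β + 1)) = 4 by omega) with h | h | h | h | h
  · left
    have hP : LinearMap.ker (β - 1) = ⊤ := Submodule.eq_top_of_finrank_eq (by omega)
    refine LinearMap.ext fun x => ?_
    have : x ∈ LinearMap.ker (β - 1) := hP ▸ Submodule.mem_top
    simpa [LinearMap.mem_ker, sub_eq_zero] using this
  · rw [h] at hdt; simp at hdt; exact absurd hdt.symm hne1
  · right; right
    rw [ht, h, hd]; push_cast; ring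
  · rw [h] at hdt; norm_num at hdt; exact absurd hdt.symm hne1
  · right; left
    have hN : LinearMap.ker (β + 1) = ⊤ := Submodule.eq_top_of_finrank_eq (by omega)
    refine LinearMap.ext fun x => ?_
    have : x ∈ LinearMap.ker (β + 1) := hN ▸ Submodule.mem_top
    simpa [LinearMap.mem_ker, add_eq_zero_iff_eq_neg] using this

end Invol

section Rot

variable {f : LinearMap.BilinForm F V} (hf : Sym f)

/-- The half turn about an anisotropic vector. -/
def rotE (f : LinearMap.BilinForm F V) {z : V} (hz : f z z ≠ 0) : V ≃ₗ[F] V :=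
  (reflE f hz).trans (LinearEquiv.neg F)

theorem rotE_apply (f : LinearMap.BilinForm F V) {z : V} (hz : f z z ≠ 0) (x : V) :
    rotE f hz x = -reflL f z x := rfl

include hf

theorem rotE_iso {z : V} (hz : f z z ≠ 0) : IsIso f (rotE f hz).toLinearMap := fun x y => by
  show f (-reflL f z x) (-reflL f z y) = _
  simp [reflL_iso hf hz x y]

omit hf in
theorem rotE_self {z : V} (hz : f z z ≠ 0) : rotE f hz z = z := by rw [rotE_apply, reflL_self hz, neg_neg]

omit hf in
theorem rotE_perp {z x : V} (hz : f z z ≠ 0) (h : f z x = 0) : rotE f hz x = -x := by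
  rw [rotE_apply, reflL_fix h]

omit hf in
theorem rotE_rotE {z : V} (hz : f z z ≠ 0) (x : V) : rotE f hz (rotE f hz x) = x := by
  rw [rotE_apply, rotE_apply, map_neg, reflL_reflL hz, neg_neg]

theorem det_rotE [FiniteDimensional F V] (hd : finrank F V = 3) {z : V} (hz : f z z ≠ 0) :
    LinearMap.det (rotE f hz).toLinearMap = 1 := by
  obtain ⟨-, h2, -⟩ := trace_det_invol (α := (rotE f hz).toLinearMap) hf.two (rotE_rotE hz)
  have hker : LinearMap.ker ((rotE f hz).toLinearMap + 1) = LinearMap.ker (f z) := by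
    ext x
    simp only [LinearMap.mem_ker, LinearMap.add_apply, Module.End.one_apply, LinearEquiv.coe_coe, rotE_apply,
      reflL_apply, add_eq_zero_iff_eq_neg]
    constructor
    · intro h
      have h' : (2 / f z z * f z x) • z = 0 := by rw [← sub_eq_self (a := x)]; exact neg_inj.1 h
      have := (smul_eq_zero.1 h').resolve_right fun e => hz (by simp [e])
      simpa [hf.two, hz] using this
    · intro h; simp [h]
  have hfz : f z ≠ 0 := fun h => hz (by rw [h]; rfl)
  rw [h2, hker, show finrank F (LinearMap.ker (f z)) = 2 by have := ker_fun_finrank hfz; omega]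
  norm_num

end Rot

section Comm

variable {f : LinearMap.BilinForm F V} (hf : Sym f) {a z b : V} {n : F} (h : Frame3 f a z b n)
include hf h

/-- The Siegel map along the frame. -/
theorem sieg_frame (t : F) : siegL f a (t • z) a = a ∧ siegL f a (t • z) z = z - (t * n) • a ∧
    siegL f a (t • z) b = b + t • z - (t * t * n / 2) • a := by
  refine ⟨?_, ?_, ?_⟩
  · simp [siegL_apply, h.aa, hf.symm z a, h.az]
  · simp [siegL_apply, h.az, h.zz]
  · simp [siegL_apply, h.ab, h.zz, hf.symm z b, h.bz, mul_assoc]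

theorem coord {u v w u' v' w' : F} (e : u • a + v • z + w • b = u' • a + v' • z + w' • b) :
    u = u' ∧ v = v' ∧ w = w' := by
  refine ⟨?_, ?_, ?_⟩
  · simpa [h.ab, hf.symm b a, h.bz, h.bb] using congrArg (f b) e
  · simpa [hf.symm z a, h.az, hf.symm z b, h.bz, h.zz, h.n0] using congrArg (f z) e
  · simpa [h.aa, h.az, h.ab] using congrArg (f a) e

/-- An operator commuting with the Siegel maps of both centres is scalar. -/
theorem scalar_of_comm {L : V →ₗ[F] V}
    (ha : ∀ (t : F) x, L (siegL f a (t • z) x) = siegL f a (t • z) (L x))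
    (hb : ∀ (t : F) x, L (siegL f b (t • z) x) = siegL f b (t • z) (L x)) : ∃ c : F, L = c • LinearMap.id := by
  obtain ⟨sa, sz, sb⟩ := sieg_frame hf h 1
  obtain ⟨ma, mz, mb⟩ := sieg_frame hf h (-1)
  obtain ⟨ta, tz, tb⟩ := sieg_frame hf (h.swap hf) 1
  have e2 := hf.two
  have hn := h.n0
  -- the images of the centres
  have key : ∀ {a b : V}, Frame3 f a z b n → (∀ (t : F) x, L (siegL f a (t • z) x) = siegL f a (t • z) (L x)) →
      L a = f b (L a) • a := by
    intro a b h ha
    obtain ⟨sa, sz, sb⟩ := sieg_frame hf h 1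
    have e := ha 1 a
    rw [sa] at e
    have e' := h.expand (L a)
    rw [e', map_add, map_add, map_smul, map_smul, map_smul, sa, sz, sb] at e
    have e'' : (f b (L a)) • a + (f z (L a) / n) • z + (f a (L a)) • b =
        (f b (L a) - (f z (L a) / n) * n - f a (L a) * (n / 2)) • a + (f z (L a) / n + f a (L a)) • z + f a (L a) • b := by
      rw [e]; match_scalars <;> ring
    obtain ⟨h1, h3, -⟩ := coord hf h e''
    have hδ : f a (L a) = 0 := by linear_combination -h3
    rw [hδ] at h1
    have hγ : f z (L a) = 0 := by field_simp at h1; linear_combination (norm := (field_simp; ring)) h1 / 2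
    rw [hδ, hγ, zero_div, zero_smul, zero_smul, add_zero, add_zero] at e'
    exact e'
  have hLa := key h ha
  have hLb := key (h.swap hf) hb
  set α := f b (L a)
  set α' := f a (L b)
  have hz : ∀ t : F, t • L z - (t * t * n / 2 * α) • a = (α' * t) • z - (α' * (t * t * n / 2)) • a := by
    intro t
    obtain ⟨-, -, pb⟩ := sieg_frame hf h t
    have e := ha t b
    rw [pb, hLb, map_smul (siegL f a (t • z)), pb, map_sub, map_add, map_smul, map_smul, hLa, hLb] at e
    linear_combination (norm := module) e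
  have z1 := hz 1
  have z2 := hz (-1)
  have hαα : α = α' := by
    have e : ((1 : F) * n * (α' - α)) • a = 0 := by
      have := congrArg₂ (· + ·) z1 z2
      linear_combination (norm := (match_scalars <;> field_simp <;> ring)) this
    have hc := (smul_eq_zero.1 e).resolve_right fun e => one_ne_zero (α := F) (by rw [← h.ab, e]; simp)
    have : α' - α = 0 := by simpa [hn] using hc
    linear_combination -this
  refine ⟨α, h.ext (by rw [hLa]; rfl) ?_ (by rw [hLb, hαα]; rfl)⟩
  rw [LinearMap.smul_apply, LinearMap.id_apply]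
  rw [← hαα] at z1
  linear_combination (norm := module) z1

/-- A symmetric operator commuting up to scalars with two Siegel maps of one centre. -/
theorem form_of_symm {L : V →ₗ[F] V} (hL : ∀ x y, f (L x) y = f x (L y)) {s : F} (hs : s ≠ 0) (hs1 : s * s ≠ 1)
    (h1 : ∃ c : F, ∀ x, siegL f a ((1 : F) • z) (L x) = L (siegL f a ((1 : F) • z) x) + c • siegL f a ((1 : F) • z) x)
    (h2 : ∃ c : F, ∀ x, siegL f a (s • z) (L x) = L (siegL f a (s • z) x) + c • siegL f a (s • z) x) :
    ∃ α u : F, ∀ x, L x = α • x + (u * f a x) • a := by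
  have e2 := hf.two
  have hn := h.n0
  set α := f b (L a)
  set γ := f z (L a) / n
  set δ := f a (L a)
  set q := f z (L z) / n
  set p := f b (L z)
  set u := f b (L b)
  have hLa : L a = α • a + γ • z + δ • b := h.expand _
  have hzA : f a (L z) = n * γ := by rw [← hL a z, hf.symm (L a) z]; simp only [γ]; field_simp
  have hLz : L z = p • a + q • z + (n * γ) • b := by rw [← hzA]; exact h.expand _
  have hbz : f z (L b) = p := by rw [← hL z b, hf.symm (L z) b]
  have hba : f a (L b) = α := by rw [← hL a b, hf.symm (L a) b]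
  have hLb : L b = u • a + (p / n) • z + α • b := by rw [← hbz, ← hba]; exact h.expand _
  have key : ∀ t : F, t ≠ 0 →
      (∃ c : F, ∀ x, siegL f a (t • z) (L x) = L (siegL f a (t • z) x) + c • siegL f a (t • z) x) →
      δ = 0 ∧ q = α + 3 / 2 * (-(t * n * γ)) ∧ 3 * (n * γ) = 0 ∧ -2 * p = t * t * n * n * γ / 2 := by
    rintro t ht ⟨c, hc⟩
    obtain ⟨sa, sz, sb⟩ := sieg_frame hf h t
    have ea := hc a
    rw [sa, hLa, map_add, map_add, map_smul, map_smul, map_smul, sa, sz, sb] at ea
    have ea' : (α - γ * (t * n) - δ * (t * t * n / 2)) • a + (γ + δ * t) • z + δ • b =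
        (α + c) • a + γ • z + δ • b := by linear_combination (norm := module) ea
    obtain ⟨a1, a2, -⟩ := coord hf h ea'
    have hδ : δ = 0 := (mul_eq_zero.1 (show δ * t = 0 by linear_combination a2)).resolve_right ht
    rw [hδ] at a1
    have hc' : c = -(t * n * γ) := by linear_combination -a1
    have ez := hc z
    rw [sz, map_sub, map_smul L, hLz, hLa, map_add, map_add, map_smul, map_smul, map_smul, sa, sz, sb, hδ] at ez
    have ez' : (p - q * (t * n) - n * γ * (t * t * n / 2)) • a + (q + n * γ * t) • z + (n * γ) • b =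
        (p - t * n * α - c * (t * n)) • a + (q - t * n * γ + c) • z + (n * γ) • b := by
      linear_combination (norm := module) ez
    obtain ⟨z1, z2, -⟩ := coord hf h ez'
    rw [hc'] at z1 z2
    have h3 : 3 * (n * γ) = 0 := (mul_eq_zero.1 (show t * (3 * (n * γ)) = 0 by linear_combination z2)).resolve_left ht
    have hq : q = α + 3 / 2 * (-(t * n * γ)) := by
      refine mul_left_cancel₀ (mul_ne_zero ht hn) ?_
      linear_combination (norm := (field_simp; ring)) -z1
    refine ⟨hδ, hq, h3, ?_⟩
    have hq' : q = α := by rw [hq]; linear_combination (-t / 2) * h3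
    have eb := hc b
    rw [sb, map_sub, map_add, map_smul L, map_smul L, hLb, hLz, hLa, map_add, map_add, map_smul, map_smul,
      map_smul, sa, sz, sb, hδ, hq'] at eb
    have eb' : (u - p / n * (t * n) - α * (t * t * n / 2)) • a + (p / n + α * t) • z + α • b =
        (u + t * p - t * t * n / 2 * α - c * (t * t * n / 2)) • a + (p / n + t * α - t * t * n / 2 * γ + c * t) • z +
          (α + t * (n * γ) + c) • b := by linear_combination (norm := module) eb
    obtain ⟨b1, -, -⟩ := coord hf h eb'
    rw [hc'] at b1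
    refine mul_left_cancel₀ ht ?_
    have hpn : p / n * (t * n) = p * t := by field_simp
    linear_combination b1 + hpn
  obtain ⟨hδ, hq, h3, hp1⟩ := key 1 one_ne_zero h1
  obtain ⟨-, -, -, hp2⟩ := key s hs h2
  have hγ : γ = 0 := by
    have e : (1 - s * s) * (n * n * γ) = 0 := by
      field_simp at hp1 hp2
      linear_combination hp2 - hp1
    have := (mul_eq_zero.1 e).resolve_left (sub_ne_zero.2 (Ne.symm hs1))
    simpa [hn] using this
  rw [hγ] at hp1 hq
  have hp0 : p = 0 := by simpa [e2] using hp1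
  refine ⟨α, u, fun x => ?_⟩
  conv_rhs => arg 1; rw [h.expand x]
  conv_lhs => rw [h.expand x]
  rw [map_add, map_add, map_smul, map_smul, map_smul, hLa, hLz, hLb, hγ, hδ, hq, hp0]
  match_scalars <;> field_simp <;> ring

end Comm

section Skew

/-- The skew operator of a pair of vectors. -/
def wedgeL (f : LinearMap.BilinForm F V) (u v : V) : V →ₗ[F] V := (f v).smulRight u - (f u).smulRight v

theorem wedgeL_apply (f : LinearMap.BilinForm F V) (u v x : V) : wedgeL f u v x = f v x • u - f u x • v := by
  simp [wedgeL]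

theorem wedgeL_add_left (f : LinearMap.BilinForm F V) (u u' v : V) :
    wedgeL f (u + u') v = wedgeL f u v + wedgeL f u' v := LinearMap.ext fun x => by
  simp only [wedgeL_apply, map_add, LinearMap.add_apply]; module

theorem wedgeL_smul_left (f : LinearMap.BilinForm F V) (c : F) (u v : V) :
    wedgeL f (c • u) v = c • wedgeL f u v := LinearMap.ext fun x => by
  simp only [wedgeL_apply, map_smul, LinearMap.smul_apply, smul_eq_mul]; module

theorem wedgeL_anti (f : LinearMap.BilinForm F V) (u v : V) : wedgeL f v u = -wedgeL f u v :=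
  LinearMap.ext fun x => by simp [wedgeL_apply]

theorem wedgeL_self (f : LinearMap.BilinForm F V) (u : V) : wedgeL f u u = 0 :=
  LinearMap.ext fun x => by simp [wedgeL_apply]

theorem wedgeL_conj {f : LinearMap.BilinForm F V} {β : V ≃ₗ[F] V} (hβ : IsIso f β.toLinearMap) (u v x : V) :
    β (wedgeL f u v x) = wedgeL f (β u) (β v) (β x) := by
  have h : ∀ u v, f (β u) (β v) = f u v := hβ
  simp [wedgeL_apply, h]

variable {f : LinearMap.BilinForm F V} (hf : Sym f) {a z b : V} {n : F} (h : Frame3 f a z b n)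
include hf h

/-- The coordinates of a skew operator. -/
theorem skew_coords {Z : V →ₗ[F] V} (hZ : ∀ x y, f (Z x) y = -f x (Z y)) :
    Z a = f b (Z a) • a + (f z (Z a) / n) • z ∧ Z z = -(f z (Z b)) • a + -(f z (Z a)) • b ∧
      Z b = (f z (Z b) / n) • z + -(f b (Z a)) • b := by
  have self : ∀ x, f x (Z x) = 0 := fun x => by
    have e := hZ x x
    rw [hf.symm (Z x) x] at e
    exact (mul_eq_zero.1 (show (2 : F) * f x (Z x) = 0 by linear_combination e)).resolve_left hf.two
  have sw : ∀ x y, f x (Z y) = -f y (Z x) := fun x y => by rw [← hf.symm (Z y) x, hZ y x]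
  refine ⟨?_, ?_, ?_⟩
  · conv_lhs => rw [h.expand (Z a)]
    rw [self a, zero_smul, add_zero]
  · conv_lhs => rw [h.expand (Z z)]
    rw [self z, zero_div, zero_smul, add_zero, sw b z, sw a z]
  · conv_lhs => rw [h.expand (Z b)]
    rw [self b, zero_smul, zero_add, sw a b]

/-- A non-zero skew operator leads to a multiple of `a ∧ z`. -/
theorem wedge_of_skew {S : Set (V →ₗ[F] V)} (hskew : ∀ Z ∈ S, ∀ x y, f (Z x) y = -f x (Z y))
    (hD : ∀ Z ∈ S, ∃ D ∈ S, ∀ x, D x = siegL f a ((1 : F) • z) (Z (siegL f a ((-1 : F) • z) x)) - Z x)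
    {Z : V →ₗ[F] V} (hZ : Z ∈ S) (hZ0 : Z ≠ 0) : ∃ c : F, c ≠ 0 ∧ wedgeL f (c • a) z ∈ S := by
  obtain ⟨sa, sz, sb⟩ := sieg_frame hf h 1
  obtain ⟨ma, mz, mb⟩ := sieg_frame hf h (-1)
  have e2 := hf.two
  have hn := h.n0
  have hWa : ∀ c : F, wedgeL f (c • a) z a = 0 := fun c => by
    simp [wedgeL_apply, hf.symm z a, h.az, h.aa]
  have hWb : ∀ c : F, wedgeL f (c • a) z b = -(c • z) := fun c => by
    simp [wedgeL_apply, hf.symm z b, h.bz, h.ab]
  have hWz : ∀ c : F, wedgeL f (c • a) z z = (n * c) • a := fun c => by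
    simp [wedgeL_apply, h.zz, h.az, smul_smul]
  -- operators without `z` component in the image of the centre
  have last : ∀ Z ∈ S, f z (Z a) = 0 → f b (Z a) ≠ 0 ∨ (f b (Z a) = 0 ∧ f z (Z b) ≠ 0) →
      ∃ c : F, c ≠ 0 ∧ wedgeL f (c • a) z ∈ S := by
    intro Z hZ hg hcase
    obtain ⟨za, zz, zb⟩ := skew_coords hf h (hskew Z hZ)
    rw [hg, zero_div, zero_smul, add_zero] at za
    rw [hg, neg_zero, zero_smul, add_zero] at zz
    obtain ⟨A, hA⟩ : ∃ A, f b (Z a) = A := ⟨_, rfl⟩
    obtain ⟨C, hC⟩ : ∃ C, f z (Z b) = C := ⟨_, rfl⟩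
    rw [hA] at za zb hcase
    rw [hC] at zz zb hcase
    rcases hcase with hα | ⟨hα, hv⟩
    · obtain ⟨D, hDS, hDx⟩ := hD Z hZ
      refine ⟨A, hα, ?_⟩
      convert hDS using 1
      refine h.ext ?_ ?_ ?_
      · rw [hWa, hDx, ma, za, map_smul, sa, sub_self]
      · rw [hWz, hDx, mz, map_sub, map_smul, za, zz]
        simp only [map_sub, map_smul, sa, sz]
        match_scalars <;> ring
      · rw [hWb, hDx, mb, map_sub, map_add, map_smul, map_smul, za, zz, zb]
        simp only [map_sub, map_add, map_smul, sa, sz, sb]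
        match_scalars <;> field_simp <;> ring
    · refine ⟨-(C / n), by simp [hv, hn], ?_⟩
      convert hZ using 1
      refine h.ext ?_ ?_ ?_
      · rw [hWa, za, hα, zero_smul]
      · rw [hWz, zz]; congr 1; field_simp
      · rw [hWb, zb, hα, neg_zero, zero_smul, add_zero, neg_smul, neg_neg]
  obtain ⟨za, zz, zb⟩ := skew_coords hf h (hskew Z hZ)
  by_cases hg : f z (Z a) = 0
  · refine last Z hZ hg ?_
    by_cases hα : f b (Z a) = 0
    · refine Or.inr ⟨hα, fun hv => hZ0 (h.ext ?_ ?_ ?_)⟩
      · rw [za, hα, hg]; simp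
      · rw [zz, hv, hg]; simp
      · rw [zb, hv, hα]; simp
    · exact Or.inl hα
  · obtain ⟨D, hDS, hDx⟩ := hD Z hZ
    have hDa : D a = -(f z (Z a)) • a := by
      obtain ⟨A, hA⟩ : ∃ A, f b (Z a) = A := ⟨_, rfl⟩
      obtain ⟨G, hG⟩ : ∃ G, f z (Z a) = G := ⟨_, rfl⟩
      rw [hA, hG] at za
      rw [hDx, ma, hG, za, map_add, map_smul, map_smul, sa, sz]
      match_scalars <;> field_simp <;> ring
    refine last D hDS ?_ (Or.inl ?_)
    · rw [hDa, map_smul, hf.symm z a, h.az, smul_zero]
    · rw [hDa, map_smul, hf.symm b a, h.ab]; simpa using hg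

end Skew

end Cfsg.Agent.Lib.TensorThreeFour
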