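import Cfsg.Agent.Lib.TensorThreeFour.Kr

/-!
The radical of the stabiliser of `S = U ⊗ e` met with the overgroup: either it consists of Kronecker Siegel
elements, or it has a central element.
-/

set_option autoImplicit false
set_option linter.unusedSectionVars false

namespace Cfsg.Agent.Lib.TensorThreeFour

open Module QuadraticMap Matrix Cfsg.Agent.Lib

variable {ι : Type} [Fintype ι] [DecidableEq ι] {F : Type*} [Field F]

namespace Ctx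

variable (C : Ctx F ι)
include C

/-- Acting trivially on the factors of `0 < U ⊗ e < U ⊗ e^⊥ < V`. -/
def RD (x : GL ι F) : Prop :=
  C.Isom x ∧ (∀ u, av x (C.ten u C.e) = C.ten u C.e) ∧
    ∀ u c, C.fW C.e c = 0 → ∃ r, av x (C.ten u c) = C.ten u c + C.ten r C.e

/-- The middle component. -/
noncomputable def Lm (x : GL ι F) (c : Fin 4 → F) : (Fin 3 → F) →ₗ[F] (Fin 3 → F) :=
  (C.co C.g).comp ((avL x - LinearMap.id).comp (C.ten.flip c))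

theorem Lm_apply (x : GL ι F) (c : Fin 4 → F) (u : Fin 3 → F) :
    C.Lm x c u = C.co C.g (av x (C.ten u c)) - C.co C.g (C.ten u c) := by
  simp [Lm, av]

/-- The dual component. -/
noncomputable def Tm (x : GL ι F) (c : Fin 4 → F) : (Fin 3 → F) →ₗ[F] (Fin 3 → F) :=
  (C.co c).comp ((avL x).comp (C.ten.flip C.g))

theorem Tm_apply (x : GL ι F) (c : Fin 4 → F) (u : Fin 3 → F) : C.Tm x c u = C.co c (av x (C.ten u C.g)) :=
  rfl

/-- The corner component. -/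
noncomputable def Zm (x : GL ι F) : (Fin 3 → F) →ₗ[F] (Fin 3 → F) := C.Tm x C.g

theorem Zm_apply (x : GL ι F) (u : Fin 3 → F) : C.Zm x u = C.co C.g (av x (C.ten u C.g)) := rfl

theorem co_g_ten_e (r : Fin 3 → F) : C.co C.g (C.ten r C.e) = r := by
  rw [co_ten, C.frW.eg, one_smul]

theorem mid_eq {x : GL ι F} (hx : C.RD x) {c : Fin 4 → F} (hc : C.fW C.e c = 0) (u : Fin 3 → F) :
    av x (C.ten u c) = C.ten u c + C.ten (C.Lm x c u) C.e := by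
  obtain ⟨r, hr⟩ := hx.2.2 u c hc
  rw [Lm_apply, hr, map_add, co_g_ten_e, add_sub_cancel_left]

theorem rd_one : C.RD 1 :=
  ⟨fun v => by rw [av_one], fun u => av_one _, fun u c _ => ⟨0, by rw [av_one]; simp⟩⟩

theorem rd_mul {x y : GL ι F} (hx : C.RD x) (hy : C.RD y) : C.RD (x * y) := by
  refine ⟨C.isom_mul hx.1 hy.1, fun u => by rw [av_mul, hy.2.1, hx.2.1], fun u c hc => ?_⟩
  refine ⟨C.Lm x c u + C.Lm y c u, ?_⟩
  rw [av_mul, C.mid_eq hy hc, av, mulVec_add]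
  show av x _ + av x _ = _
  rw [C.mid_eq hx hc, hx.2.1, map_add, LinearMap.add_apply, add_assoc]

theorem rd_inv {x : GL ι F} (hx : C.RD x) : C.RD x⁻¹ := by
  have hf : ∀ u, av x⁻¹ (C.ten u C.e) = C.ten u C.e := fun u => by
    conv_lhs => rw [← hx.2.1 u]
    exact av_inv_av _ _
  refine ⟨C.isom_inv hx.1, hf, fun u c hc => ⟨-C.Lm x c u, ?_⟩⟩
  have h := congrArg (av x⁻¹) (C.mid_eq hx hc u)
  rw [av_inv_av] at h
  rw [eq_comm, show ∀ p q, av x⁻¹ (p + q) = av x⁻¹ p + av x⁻¹ q from fun p q => mulVec_add _ _ _, hf] at h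
  rw [map_neg, LinearMap.neg_apply, eq_add_neg_iff_add_eq, h]

theorem Lm_mul {x y : GL ι F} (hx : C.RD x) (hy : C.RD y) {c : Fin 4 → F} (hc : C.fW C.e c = 0) :
    C.Lm (x * y) c = C.Lm x c + C.Lm y c := LinearMap.ext fun u => by
  rw [Lm_apply, av_mul, C.mid_eq hy hc, av, mulVec_add]
  show C.co C.g (av x _ + av x _) - _ = _
  rw [C.mid_eq hx hc, hx.2.1, map_add, map_add, co_g_ten_e, co_g_ten_e, LinearMap.add_apply]
  abel

theorem Lm_one (c : Fin 4 → F) : C.Lm 1 c = 0 := LinearMap.ext fun u => by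
  rw [Lm_apply, av_one, sub_self]; rfl

theorem Lm_inv {x : GL ι F} (hx : C.RD x) {c : Fin 4 → F} (hc : C.fW C.e c = 0) :
    C.Lm x⁻¹ c = -C.Lm x c := by
  rw [eq_neg_iff_add_eq_zero, ← C.Lm_mul (C.rd_inv hx) hx hc, inv_mul_cancel, Lm_one]

theorem top_eq {x : GL ι F} (hx : C.RD x) (u : Fin 3 → F) :
    av x (C.ten u C.g) = C.ten (C.Zm x u) C.e + C.n₁⁻¹ • C.ten (C.Tm x C.b₁ u) C.b₁ +
      C.n₂⁻¹ • C.ten (C.Tm x C.b₂ u) C.b₂ + C.ten u C.g := by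
  have he : C.co C.e (av x (C.ten u C.g)) = u := C.symU.ext fun v => by
    rw [fU_co, ← hx.2.1 v, C.polar_isom hx.1, C.polarQ, C.symW.symm C.g C.e, C.frW.eg, mul_one]
  conv_lhs => rw [C.decompW (av x (C.ten u C.g)), he]
  rfl

theorem Tm_adj {x : GL ι F} (hx : C.RD x) {c : Fin 4 → F} (hc : C.fW C.e c = 0) (hg : C.fW C.g c = 0)
    (u v : Fin 3 → F) : C.fU (C.Tm x c u) v = -C.fU u (C.Lm x c v) := by
  rw [Tm_apply, fU_co]
  have h := C.polar_isom hx.1 (C.ten u C.g) (C.ten v c)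
  rw [C.mid_eq hx hc, polar_add_right, C.polarQ, hg, mul_zero] at h
  rw [eq_neg_iff_add_eq_zero, ← h]
  congr 1
  conv_rhs => rw [← hx.2.1 (C.Lm x c v), C.polar_isom hx.1, C.polarQ, C.symW.symm C.g C.e, C.frW.eg, mul_one]

theorem Zm_mul {x y : GL ι F} (hx : C.RD x) (hy : C.RD y) :
    C.Zm (x * y) = C.Zm x + C.Zm y + C.n₁⁻¹ • (C.Lm x C.b₁).comp (C.Tm y C.b₁) +
      C.n₂⁻¹ • (C.Lm x C.b₂).comp (C.Tm y C.b₂) := LinearMap.ext fun u => by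
  rw [Zm_apply, av_mul, C.top_eq hy]
  simp only [av, mulVec_add, mulVec_smul]
  show C.co C.g (av x _ + C.n₁⁻¹ • av x _ + C.n₂⁻¹ • av x _ + av x _) = _
  rw [hx.2.1, C.mid_eq hx C.frW.eb₁, C.mid_eq hx C.frW.eb₂]
  simp only [map_add, map_smul, co_g_ten_e, co_ten, C.symW.symm C.b₁ C.g, C.frW.gb₁, C.symW.symm C.b₂ C.g,
    C.frW.gb₂, C.frW.eg, one_smul, zero_smul, zero_add, LinearMap.add_apply, LinearMap.smul_apply, LinearMap.comp_apply]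
  show _ + _ + _ + C.Zm x u = _
  abel

/-- Central elements. -/
def IsZ (x : GL ι F) : Prop := C.RD x ∧ C.Lm x C.b₁ = 0 ∧ C.Lm x C.b₂ = 0

theorem Tm_zero {x : GL ι F} (hx : C.RD x) {c : Fin 4 → F} (hc : C.fW C.e c = 0) (hg : C.fW C.g c = 0)
    (h : C.Lm x c = 0) : C.Tm x c = 0 := LinearMap.ext fun u => C.symU.ext fun v => by
  rw [C.Tm_adj hx hc hg, h]; simp

theorem isZ_top {x : GL ι F} (hx : C.IsZ x) (u : Fin 3 → F) :
    av x (C.ten u C.g) = C.ten (C.Zm x u) C.e + C.ten u C.g := by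
  rw [C.top_eq hx.1, C.Tm_zero hx.1 C.frW.eb₁ C.frW.gb₁ hx.2.1, C.Tm_zero hx.1 C.frW.eb₂ C.frW.gb₂ hx.2.2]
  simp

theorem isZ_ext {x y : GL ι F} (hx : C.IsZ x) (hy : C.IsZ y) (h : C.Zm x = C.Zm y) : x = y := by
  refine C.gl_ext fun u w => ?_
  have e := C.frW.expand w
  rw [e]
  simp only [map_add, map_smul, av, mulVec_add, mulVec_smul]
  show _ • av x _ + _ • av x _ + _ • av x _ + _ • av x _ =
    _ • av y _ + _ • av y _ + _ • av y _ + _ • av y _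
  rw [hx.1.2.1, hy.1.2.1, C.mid_eq hx.1 C.frW.eb₁, C.mid_eq hy.1 C.frW.eb₁, C.mid_eq hx.1 C.frW.eb₂,
    C.mid_eq hy.1 C.frW.eb₂, hx.2.1, hx.2.2, hy.2.1, hy.2.2, C.isZ_top hx, C.isZ_top hy, h]

theorem isZ_one : C.IsZ 1 := ⟨C.rd_one, C.Lm_one _, C.Lm_one _⟩

theorem Zm_one : C.Zm 1 = 0 := LinearMap.ext fun u => by
  rw [Zm_apply, av_one, co_ten, C.frW.gg, zero_smul]; rfl

theorem isZ_mul {x y : GL ι F} (hx : C.IsZ x) (hy : C.IsZ y) : C.IsZ (x * y) :=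
  ⟨C.rd_mul hx.1 hy.1, by rw [C.Lm_mul hx.1 hy.1 C.frW.eb₁, hx.2.1, hy.2.1, add_zero],
    by rw [C.Lm_mul hx.1 hy.1 C.frW.eb₂, hx.2.2, hy.2.2, add_zero]⟩

theorem isZ_inv {x : GL ι F} (hx : C.IsZ x) : C.IsZ x⁻¹ :=
  ⟨C.rd_inv hx.1, by rw [C.Lm_inv hx.1 C.frW.eb₁, hx.2.1, neg_zero],
    by rw [C.Lm_inv hx.1 C.frW.eb₂, hx.2.2, neg_zero]⟩

theorem Zm_mulZ {x y : GL ι F} (hx : C.IsZ x) (hy : C.RD y) : C.Zm (x * y) = C.Zm x + C.Zm y := by
  rw [C.Zm_mul hx.1 hy, hx.2.1, hx.2.2]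
  simp

theorem Zm_inv {x : GL ι F} (hx : C.IsZ x) : C.Zm x⁻¹ = -C.Zm x := by
  rw [eq_neg_iff_add_eq_zero, ← C.Zm_mulZ (C.isZ_inv hx) hx.1, inv_mul_cancel, Zm_one]

theorem Zm_skew {x : GL ι F} (hx : C.IsZ x) (u v : Fin 3 → F) :
    C.fU (C.Zm x u) v = -C.fU u (C.Zm x v) := by
  have h := C.polar_isom hx.1.1 (C.ten u C.g) (C.ten v C.g)
  rw [C.isZ_top hx, C.isZ_top hx] at h
  simp only [polar_add_left, polar_add_right, C.polarQ, C.frW.ee, C.frW.eg, C.frW.gg, C.symW.symm C.g C.e,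
    mul_zero, mul_one, zero_add, add_zero] at h
  linear_combination h

theorem comm_isZ {x y : GL ι F} (hx : C.RD x) (hy : C.RD y) : C.IsZ (x * y * (y * x)⁻¹) := by
  refine ⟨C.rd_mul (C.rd_mul hx hy) (C.rd_inv (C.rd_mul hy hx)), ?_, ?_⟩
  · rw [C.Lm_mul (C.rd_mul hx hy) (C.rd_inv (C.rd_mul hy hx)) C.frW.eb₁,
      C.Lm_inv (C.rd_mul hy hx) C.frW.eb₁, C.Lm_mul hx hy C.frW.eb₁, C.Lm_mul hy hx C.frW.eb₁]
    abel
  · rw [C.Lm_mul (C.rd_mul hx hy) (C.rd_inv (C.rd_mul hy hx)) C.frW.eb₂,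
      C.Lm_inv (C.rd_mul hy hx) C.frW.eb₂, C.Lm_mul hx hy C.frW.eb₂, C.Lm_mul hy hx C.frW.eb₂]
    abel

theorem comm_Zm {x y : GL ι F} (hx : C.RD x) (hy : C.RD y) :
    C.Zm (x * y * (y * x)⁻¹) =
      C.n₁⁻¹ • ((C.Lm x C.b₁).comp (C.Tm y C.b₁) - (C.Lm y C.b₁).comp (C.Tm x C.b₁)) +
      C.n₂⁻¹ • ((C.Lm x C.b₂).comp (C.Tm y C.b₂) - (C.Lm y C.b₂).comp (C.Tm x C.b₂)) := by
  have h := C.Zm_mulZ (C.comm_isZ hx hy) (C.rd_mul hy hx)
  rw [inv_mul_cancel_right, C.Zm_mul hx hy, C.Zm_mul hy hx] at h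
  rw [eq_sub_of_add_eq h.symm]
  module

/-- Conjugation by a Kronecker element fixing the line of `e`. -/
theorem rd_conj {x : GL ι F} (hx : C.RD x) {A : (Fin 3 → F) ≃ₗ[F] (Fin 3 → F)}
    {B : (Fin 4 → F) ≃ₗ[F] (Fin 4 → F)} (hA : IsIso C.fU A.toLinearMap) (hB : IsIso C.fW B.toLinearMap)
    {l : F} (hl : l ≠ 0) (he : B C.e = l • C.e) : C.RD (C.kr A B * x * (C.kr A B)⁻¹) := by
  have he' : B⁻¹ C.e = l⁻¹ • C.e := by
    show B.symm C.e = _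
    rw [LinearEquiv.symm_apply_eq, map_smul, he, smul_smul, inv_mul_cancel₀ hl, one_smul]
  refine ⟨C.isom_mul (C.isom_mul (C.isom_kr hA hB) hx.1) (C.isom_inv (C.isom_kr hA hB)), fun u => ?_,
    fun u c hc => ?_⟩
  · rw [av_mul, av_mul, kr_inv, kr_ten, he', map_smul]
    simp only [av, mulVec_smul]
    show l⁻¹ • av _ (av x _) = _
    rw [hx.2.1, kr_ten, he, map_smul, smul_smul, inv_mul_cancel₀ hl, one_smul]
    exact congrArg (fun v => C.ten v C.e) (A.apply_symm_apply u)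
  · have hc' : C.fW C.e (B⁻¹ c) = 0 := by
      have h := hB C.e (B⁻¹ c)
      rw [LinearEquiv.coe_coe, he, show B (B⁻¹ c) = c from B.apply_symm_apply c, map_smul,
        LinearMap.smul_apply, hc, smul_zero] at h
      exact h.symm
    refine ⟨l • A (C.Lm x (B⁻¹ c) (A⁻¹ u)), ?_⟩
    rw [av_mul, av_mul, kr_inv, kr_ten, C.mid_eq hx hc']
    simp only [av, mulVec_add]
    show av _ _ + av _ _ = _
    rw [kr_ten, kr_ten, he, map_smul, map_smul, LinearMap.smul_apply,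
      show B (B⁻¹ c) = c from B.apply_symm_apply c, show A (A⁻¹ u) = u from A.apply_symm_apply u]

theorem Lm_conj {x : GL ι F} (hx : C.RD x) {A : (Fin 3 → F) ≃ₗ[F] (Fin 3 → F)}
    {c : Fin 4 → F} (hc : C.fW C.e c = 0) :
    C.Lm (C.kr A 1 * x * (C.kr A 1)⁻¹) c = A.conj (C.Lm x c) := LinearMap.ext fun u => by
  rw [Lm_apply, av_mul, av_mul, kr_inv, kr_ten, inv_one, LinearEquiv.coe_one, id_eq, C.mid_eq hx hc]
  simp only [av, mulVec_add]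
  show C.co C.g (av _ _ + av _ _) - _ = _
  rw [kr_ten, kr_ten, LinearEquiv.coe_one, id_eq, id_eq, map_add, co_g_ten_e,
    show A (A⁻¹ u) = u from A.apply_symm_apply u, add_sub_cancel_left]
  rfl

theorem Zm_conj {x : GL ι F} (hx : C.IsZ x) {A : (Fin 3 → F) ≃ₗ[F] (Fin 3 → F)} :
    C.Zm (C.kr A 1 * x * (C.kr A 1)⁻¹) = A.conj (C.Zm x) := LinearMap.ext fun u => by
  rw [Zm_apply, av_mul, av_mul, kr_inv, kr_ten, inv_one, LinearEquiv.coe_one, id_eq, C.isZ_top hx]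
  simp only [av, mulVec_add]
  show C.co C.g (av _ _ + av _ _) = _
  rw [kr_ten, kr_ten, LinearEquiv.coe_one, id_eq, id_eq, map_add, co_g_ten_e, co_ten, C.frW.gg, zero_smul,
    add_zero]
  rfl

theorem isZ_conj {x : GL ι F} (hx : C.IsZ x) {A : (Fin 3 → F) ≃ₗ[F] (Fin 3 → F)} (hA : IsIso C.fU A.toLinearMap) :
    C.IsZ (C.kr A 1 * x * (C.kr A 1)⁻¹) :=
  ⟨C.rd_conj hx.1 hA (fun _ _ => rfl) one_ne_zero (one_smul F C.e).symm,
    by rw [C.Lm_conj hx.1 C.frW.eb₁, hx.2.1, map_zero], by rw [C.Lm_conj hx.1 C.frW.eb₂, hx.2.2, map_zero]⟩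

/-- The Siegel element of the second factor with centre `e`. -/
noncomputable def yc {c : Fin 4 → F} (hc : C.fW C.e c = 0) : GL ι F :=
  C.kr 1 (siegE C.symW C.frW.ee hc)

theorem yc_ten {c : Fin 4 → F} (hc : C.fW C.e c = 0) (u : Fin 3 → F) (w : Fin 4 → F) :
    av (C.yc hc) (C.ten u w) = C.ten u (siegL C.fW C.e c w) := C.kr_ten _ _ u w

theorem siegL_mid {c d : Fin 4 → F} (hd : C.fW C.e d = 0) :
    siegL C.fW C.e c d = d - C.fW c d • C.e := by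
  rw [siegL_apply, hd, mul_zero, add_zero, zero_smul, add_zero]

theorem rd_yc {c : Fin 4 → F} (hc : C.fW C.e c = 0) : C.RD (C.yc hc) := by
  refine ⟨C.isom_kr (fun _ _ => rfl) (siegL_iso C.symW C.frW.ee hc), fun u => ?_,
    fun u d hd => ⟨-(C.fW c d) • u, ?_⟩⟩
  · rw [yc_ten, C.siegL_mid C.frW.ee, C.symW.symm c C.e, hc, zero_smul, sub_zero]
  · rw [yc_ten, C.siegL_mid hd, map_sub, map_smul, map_smul, LinearMap.smul_apply, neg_smul, sub_eq_add_neg]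

theorem Lm_yc {c d : Fin 4 → F} (hc : C.fW C.e c = 0) (hd : C.fW C.e d = 0) :
    C.Lm (C.yc hc) d = -(C.fW c d) • LinearMap.id := LinearMap.ext fun u => by
  rw [Lm_apply, yc_ten, C.siegL_mid hd, map_sub, map_sub, map_smul, map_smul, co_g_ten_e,
    LinearMap.smul_apply, LinearMap.id_apply]
  module

theorem Tm_yc {c d : Fin 4 → F} (hc : C.fW C.e c = 0) (hd : C.fW C.e d = 0) (hg : C.fW C.g d = 0) :
    C.Tm (C.yc hc) d = C.fW c d • LinearMap.id := LinearMap.ext fun u => C.symU.ext fun v => by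
  rw [C.Tm_adj (C.rd_yc hc) hd hg, C.Lm_yc hc hd]
  simp

theorem comm_yc {x : GL ι F} (hx : C.RD x) (h : x * C.yc C.frW.eb₁ * (C.yc C.frW.eb₁ * x)⁻¹ = 1)
    (h' : x * C.yc C.frW.eb₂ * (C.yc C.frW.eb₂ * x)⁻¹ = 1) :
    ∀ i : Fin 2, C.Tm x (![C.b₁, C.b₂] i) = -C.Lm x (![C.b₁, C.b₂] i) := by
  have e12 := C.frW.b₁b₂
  have e21 : C.fW C.b₂ C.b₁ = 0 := by rw [C.symW.symm, e12]
  have hn1 := C.frW.n₁0
  have hn2 := C.frW.n₂0
  intro i
  fin_cases i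
  · have e := C.comm_Zm hx (C.rd_yc C.frW.eb₁)
    rw [h, Zm_one, C.Tm_yc C.frW.eb₁ C.frW.eb₁ C.frW.gb₁, C.Tm_yc C.frW.eb₁ C.frW.eb₂ C.frW.gb₂,
      C.Lm_yc C.frW.eb₁ C.frW.eb₁, C.Lm_yc C.frW.eb₁ C.frW.eb₂, C.frW.b₁b₁, e12] at e
    refine eq_neg_of_add_eq_zero_left (e.trans ?_).symm
    simp only [zero_smul, neg_zero, LinearMap.comp_zero, LinearMap.zero_comp, sub_zero, smul_zero, add_zero,
      LinearMap.comp_smul, LinearMap.smul_comp, LinearMap.comp_id, LinearMap.id_comp, Fin.zero_eta,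
      Matrix.cons_val_zero]
    match_scalars <;> field_simp
  · have e := C.comm_Zm hx (C.rd_yc C.frW.eb₂)
    rw [h', Zm_one, C.Tm_yc C.frW.eb₂ C.frW.eb₁ C.frW.gb₁, C.Tm_yc C.frW.eb₂ C.frW.eb₂ C.frW.gb₂,
      C.Lm_yc C.frW.eb₂ C.frW.eb₁, C.Lm_yc C.frW.eb₂ C.frW.eb₂, C.frW.b₂b₂, e21] at e
    refine eq_neg_of_add_eq_zero_left (e.trans ?_).symm
    simp only [zero_smul, neg_zero, LinearMap.comp_zero, LinearMap.zero_comp, sub_zero, smul_zero, zero_add,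
      LinearMap.comp_smul, LinearMap.smul_comp, LinearMap.comp_id, LinearMap.id_comp, Fin.mk_one,
      Matrix.cons_val_one, Matrix.cons_val_zero]
    match_scalars <;> field_simp

theorem rd_of_scalar {x : GL ι F} (hx : C.RD x) {l₁ l₂ : F} (h1 : C.Lm x C.b₁ = l₁ • LinearMap.id)
    (h2 : C.Lm x C.b₂ = l₂ • LinearMap.id) :
    ∃ c, ∃ hc : C.fW C.e c = 0, C.IsZ (x * (C.yc hc)⁻¹) := by
  obtain ⟨c, hcdef⟩ : ∃ c, c = (-(l₁ / C.n₁)) • C.b₁ + (-(l₂ / C.n₂)) • C.b₂ := ⟨_, rfl⟩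
  have hc : C.fW C.e c = 0 := by simp [hcdef, C.frW.eb₁, C.frW.eb₂]
  have c1 : C.fW c C.b₁ = -l₁ := by
    simp [hcdef, C.frW.b₁b₁, C.symW.symm C.b₂ C.b₁, C.frW.b₁b₂, C.frW.n₁0]
  have c2 : C.fW c C.b₂ = -l₂ := by simp [hcdef, C.frW.b₂b₂, C.frW.b₁b₂, C.frW.n₂0]
  have hy := C.rd_yc hc
  refine ⟨c, hc, C.rd_mul hx (C.rd_inv hy), ?_, ?_⟩
  · rw [C.Lm_mul hx (C.rd_inv hy) C.frW.eb₁, C.Lm_inv hy C.frW.eb₁, C.Lm_yc hc C.frW.eb₁, c1, h1, neg_neg,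
      add_neg_cancel]
  · rw [C.Lm_mul hx (C.rd_inv hy) C.frW.eb₂, C.Lm_inv hy C.frW.eb₂, C.Lm_yc hc C.frW.eb₂, c2, h2, neg_neg,
      add_neg_cancel]

variable [Finite F]

theorem yc_mem {c : Fin 4 → F} (hc : C.fW C.e c = 0) : C.yc hc ∈ C.H := C.siegW_mem _ _

/-- Every radical element of the overgroup is a Kronecker Siegel element. -/
def NR : Prop := ∀ x ∈ C.H, C.RD x → ∃ c, ∃ hc : C.fW C.e c = 0, x = C.yc hc

theorem isZ_eq_one_of_NR (hN : C.NR) {x : GL ι F} (hxH : x ∈ C.H) (hx : C.IsZ x) : x = 1 := by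
  obtain ⟨c, hc, rfl⟩ := hN x hxH hx.1
  refine C.isZ_ext hx C.isZ_one ?_
  have h1 := hx.2.1
  have h2 := hx.2.2
  rw [C.Lm_yc hc C.frW.eb₁] at h1
  rw [C.Lm_yc hc C.frW.eb₂] at h2
  have k : ∀ t : F, -t • (LinearMap.id : (Fin 3 → F) →ₗ[F] (Fin 3 → F)) = 0 → t = 0 := fun t h => by
    have e := LinearMap.congr_fun h C.a
    rw [LinearMap.smul_apply, LinearMap.id_apply, LinearMap.zero_apply] at e
    exact neg_eq_zero.1 ((smul_eq_zero.1 e).resolve_right C.a_ne)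
  have e := C.frW.expand c
  rw [C.symW.symm C.b₁ c, k _ h1, C.symW.symm C.b₂ c, k _ h2, hc] at e
  simp only [zero_div, zero_smul, add_zero] at e
  refine LinearMap.ext fun u => ?_
  rw [Zm_one, Zm_apply, yc_ten, siegL_apply, C.frW.eg]
  generalize C.fW C.g c = t at e
  simp [e, co_ten, C.frW.gg, C.frW.eg, C.frW.ee]

/-- The step of the descent. -/
theorem conj_step {x : GL ι F} (hxH : x ∈ C.H) (hx : C.RD x) {A : (Fin 3 → F) ≃ₗ[F] (Fin 3 → F)}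
    (hA : IsIso C.fU A.toLinearMap) (hAH : C.kr A 1 ∈ C.H) :
    ∃ y ∈ C.H, C.RD y ∧ ∀ c, C.fW C.e c = 0 → C.Lm y c = A.conj (C.Lm x c) - C.Lm x c := by
  have h := C.rd_conj hx hA (B := 1) (fun _ _ => rfl) one_ne_zero (one_smul F C.e).symm
  refine ⟨_, C.H.mul_mem (C.H.mul_mem (C.H.mul_mem hAH hxH) (C.H.inv_mem hAH)) (C.H.inv_mem hxH),
    C.rd_mul h (C.rd_inv hx), fun c hc => ?_⟩
  rw [C.Lm_mul h (C.rd_inv hx) hc, C.Lm_inv hx hc, C.Lm_conj hx hc, sub_eq_add_neg]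

/-- Descent until the difference with the conjugate by a Siegel map is scalar. -/
theorem descend {A : (Fin 3 → F) ≃ₗ[F] (Fin 3 → F)} (hA : IsIso C.fU A.toLinearMap) (hAH : C.kr A 1 ∈ C.H)
    {p : ℕ} [Fact p.Prime] [CharP F p] (hAp : A ^ p = 1)
    {P : ((Fin 3 → F) →ₗ[F] (Fin 3 → F)) → Prop} (hP : ∀ L, P L → P (A.conj L - L)) {x : GL ι F} (hxH : x ∈ C.H)
    (hx : C.RD x) (hP₁ : P (C.Lm x C.b₁)) (hP₂ : P (C.Lm x C.b₂))
    (hns : ¬ ((∃ l : F, C.Lm x C.b₁ = l • LinearMap.id) ∧ ∃ l : F, C.Lm x C.b₂ = l • LinearMap.id)) :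
    ∃ y ∈ C.H, C.RD y ∧ P (C.Lm y C.b₁) ∧ P (C.Lm y C.b₂) ∧
      ¬ ((∃ l : F, C.Lm y C.b₁ = l • LinearMap.id) ∧ ∃ l : F, C.Lm y C.b₂ = l • LinearMap.id) ∧
      (∃ l : F, A.conj (C.Lm y C.b₁) - C.Lm y C.b₁ = l • LinearMap.id) ∧
      ∃ l : F, A.conj (C.Lm y C.b₂) - C.Lm y C.b₂ = l • LinearMap.id := by
  obtain ⟨Φ, hΦ⟩ : ∃ Φ : Module.End F (Module.End F (Fin 3 → F)), Φ = A.conj.toLinearMap := ⟨_, rfl⟩
  obtain ⟨D, hD⟩ : ∃ D : Module.End F (Module.End F (Fin 3 → F)), D = Φ - 1 := ⟨_, rfl⟩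
  have hDa : ∀ L, D L = A.conj L - L := fun L => by rw [hD, hΦ]; rfl
  have hDp : D ^ p = 0 := by
    have : Nontrivial (Module.End F (Fin 3 → F)) :=
      ⟨LinearMap.id, 0, fun h => C.a_ne (LinearMap.congr_fun h C.a)⟩
    haveI : CharP (Module.End F (Module.End F (Fin 3 → F))) p :=
      charP_of_injective_algebraMap (algebraMap F (Module.End F (Module.End F (Fin 3 → F)))).injective p
    rw [hD, sub_pow_char_of_commute (R := Module.End F (Module.End F (Fin 3 → F))) (p := p) (Commute.one_right Φ), one_pow, sub_eq_zero, hΦ]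
    refine LinearMap.ext fun L => ?_
    have : ∀ k : ℕ, (A.conj.toLinearMap ^ k : Module.End F (Module.End F (Fin 3 → F))) L = (A ^ k).conj L := by
      intro k
      induction k with
      | zero => rfl
      | succ k ih => rw [pow_succ', Module.End.mul_apply, ih, pow_succ']; rfl
    rw [this, hAp]; rfl
  suffices ∀ (k : ℕ) (x : GL ι F), x ∈ C.H → C.RD x → P (C.Lm x C.b₁) → P (C.Lm x C.b₂) →
      ¬ ((∃ l : F, C.Lm x C.b₁ = l • LinearMap.id) ∧ ∃ l : F, C.Lm x C.b₂ = l • LinearMap.id) →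
      (D ^ k) (C.Lm x C.b₁) = 0 → (D ^ k) (C.Lm x C.b₂) = 0 →
      ∃ y ∈ C.H, C.RD y ∧ P (C.Lm y C.b₁) ∧ P (C.Lm y C.b₂) ∧
      ¬ ((∃ l : F, C.Lm y C.b₁ = l • LinearMap.id) ∧ ∃ l : F, C.Lm y C.b₂ = l • LinearMap.id) ∧
      (∃ l : F, A.conj (C.Lm y C.b₁) - C.Lm y C.b₁ = l • LinearMap.id) ∧
      ∃ l : F, A.conj (C.Lm y C.b₂) - C.Lm y C.b₂ = l • LinearMap.id from
    this p x hxH hx hP₁ hP₂ hns (by rw [hDp]; rfl) (by rw [hDp]; rfl)
  intro k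
  induction k with
  | zero => intro x _ _ _ _ hns h1 h2; exact absurd ⟨⟨0, by simpa using h1⟩, ⟨0, by simpa using h2⟩⟩ hns
  | succ k ih =>
    intro x hxH hx hP₁ hP₂ hns h1 h2
    by_cases hs : (∃ l : F, A.conj (C.Lm x C.b₁) - C.Lm x C.b₁ = l • LinearMap.id) ∧
        ∃ l : F, A.conj (C.Lm x C.b₂) - C.Lm x C.b₂ = l • LinearMap.id
    · exact ⟨x, hxH, hx, hP₁, hP₂, hns, hs⟩
    obtain ⟨y, hyH, hy, hL⟩ := C.conj_step hxH hx hA hAH
    rw [pow_succ, Module.End.mul_apply, hDa, ← hL _ C.frW.eb₁] at h1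
    rw [pow_succ, Module.End.mul_apply, hDa, ← hL _ C.frW.eb₂] at h2
    exact ih y hyH hy (hL _ C.frW.eb₁ ▸ hP _ hP₁) (hL _ C.frW.eb₂ ▸ hP _ hP₂)
      (by rwa [hL _ C.frW.eb₁, hL _ C.frW.eb₂]) h1 h2

/-- A radical element outside the Kronecker elements gives a central one. -/
theorem exists_isZ (hN : ¬ C.NR) : ∃ x ∈ C.H, C.IsZ x ∧ C.Zm x ≠ 0 := by
  by_contra hno
  push Not at hno
  have hone : ∀ x ∈ C.H, C.IsZ x → x = 1 := fun x hxH hx =>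
    C.isZ_ext hx C.isZ_one (by rw [hno x hxH hx, Zm_one])
  have hsym : ∀ x ∈ C.H, C.RD x → C.Tm x C.b₁ = -C.Lm x C.b₁ ∧ C.Tm x C.b₂ = -C.Lm x C.b₂ := by
    intro x hxH hx
    have h := C.comm_yc hx
      (hone _ (C.H.mul_mem (C.H.mul_mem hxH (C.yc_mem _)) (C.H.inv_mem (C.H.mul_mem (C.yc_mem _) hxH)))
        (C.comm_isZ hx (C.rd_yc _)))
      (hone _ (C.H.mul_mem (C.H.mul_mem hxH (C.yc_mem _)) (C.H.inv_mem (C.H.mul_mem (C.yc_mem _) hxH)))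
        (C.comm_isZ hx (C.rd_yc _)))
    exact ⟨h 0, h 1⟩
  refine hN fun x hxH hx => ?_
  by_cases hsc : (∃ l : F, C.Lm x C.b₁ = l • LinearMap.id) ∧ ∃ l : F, C.Lm x C.b₂ = l • LinearMap.id
  · obtain ⟨⟨l₁, h1⟩, l₂, h2⟩ := hsc
    obtain ⟨c, hc, hz⟩ := C.rd_of_scalar hx h1 h2
    exact ⟨c, hc, mul_inv_eq_one.1 (hone _ (C.H.mul_mem hxH (C.H.inv_mem (C.yc_mem hc))) hz)⟩
  exfalso
  obtain ⟨p, hp, -, hchar⟩ := C.exists_char
  haveI := Fact.mk hp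
  have fr := C.frU
  obtain ⟨s, hs0, hs1⟩ := exists_not_pm_one (F := F) C.five
  have haz : ∀ t : F, C.fU C.a (t • C.z) = 0 := fun t => by rw [map_smul, fr.az, smul_zero]
  obtain ⟨σ, hσdef⟩ : ∃ σ : F → ((Fin 3 → F) ≃ₗ[F] (Fin 3 → F)),
      σ = fun t => siegE C.symU fr.aa (haz t) := ⟨_, rfl⟩
  have hσ : ∀ t u, σ t u = siegL C.fU C.a (t • C.z) u := fun t u => by rw [hσdef]; rfl
  have hσi : ∀ t, IsIso C.fU (σ t).toLinearMap := fun t => by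
    rw [hσdef]; exact siegL_iso C.symU fr.aa (haz t)
  have hσH : ∀ t, C.kr (σ t) 1 ∈ C.H := fun t => by rw [hσdef]; exact C.siegU_mem _ _
  have hσp : ∀ t, σ t ^ p = 1 := fun t => by rw [hσdef]; exact C.siegE_pow_char C.symU _ _ p
  have hcomm : σ 1 * σ s = σ s * σ 1 := LinearEquiv.ext fun u => by
    rw [LinearEquiv.mul_apply, LinearEquiv.mul_apply, hσ, hσ, hσ, hσ, siegL_add C.symU fr.aa (haz _) (haz _),
      siegL_add C.symU fr.aa (haz _) (haz _), add_comm]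
  obtain ⟨y, hyH, hy, -, -, hyns, hy1, hy2⟩ :=
    C.descend (hσi 1) (hσH 1) (hσp 1) (P := fun _ => True) (fun _ _ => trivial) hxH hx trivial trivial hsc
  obtain ⟨w, hwH, hw, hw1, hw2, hwns, hw1', hw2'⟩ :=
    C.descend (hσi s) (hσH s) (hσp s) (P := fun L => ∃ l : F, (σ 1).conj L - L = l • LinearMap.id)
      (fun L ⟨l, hl⟩ => ⟨0, by
        have e : (σ 1).conj ((σ s).conj L) = (σ s).conj ((σ 1).conj L) := by
          show (σ 1 * σ s).conj L = (σ s * σ 1).conj L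
          rw [hcomm]
        rw [sub_eq_iff_eq_add] at hl
        rw [map_sub, e, hl, map_add, map_smul, LinearEquiv.conj_id, zero_smul]
        abel⟩) hyH hy hy1 hy2 hyns
  -- the two components
  have hform : ∀ d, C.Tm w d = -C.Lm w d → C.fW C.e d = 0 → C.fW C.g d = 0 →
      (∃ l : F, (σ 1).conj (C.Lm w d) - C.Lm w d = l • LinearMap.id) →
      (∃ l : F, (σ s).conj (C.Lm w d) - C.Lm w d = l • LinearMap.id) →
      ∃ α u : F, ∀ v, C.Lm w d v = α • v + (u * C.fU C.a v) • C.a := by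
    intro d hTd hed hgd h1 h2
    have hsy : ∀ u v, C.fU (C.Lm w d u) v = C.fU u (C.Lm w d v) := fun u v => by
      have e := C.Tm_adj hw hed hgd u v
      rw [hTd, LinearMap.neg_apply, map_neg, LinearMap.neg_apply] at e
      exact neg_inj.1 e
    have hh : ∀ t : F, (∃ l : F, (σ t).conj (C.Lm w d) - C.Lm w d = l • LinearMap.id) →
        ∃ c : F, ∀ x, siegL C.fU C.a (t • C.z) (C.Lm w d x) =
          C.Lm w d (siegL C.fU C.a (t • C.z) x) + c • siegL C.fU C.a (t • C.z) x := by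
      rintro t ⟨l, hl⟩
      refine ⟨l, fun v => ?_⟩
      have e := LinearMap.congr_fun hl (σ t v)
      rw [LinearMap.sub_apply, LinearEquiv.conj_apply_apply, LinearEquiv.symm_apply_apply, LinearMap.smul_apply,
        LinearMap.id_apply, sub_eq_iff_eq_add] at e
      rw [← hσ, ← hσ, e, add_comm]
    exact form_of_symm C.symU fr hsy hs0 hs1 (hh 1 h1) (hh s h2)
  obtain ⟨hT1, hT2⟩ := hsym w hwH hw
  obtain ⟨α₁, u₁, e1⟩ := hform _ hT1 C.frW.eb₁ C.frW.gb₁ hw1 hw1'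
  obtain ⟨α₂, u₂, e2⟩ := hform _ hT2 C.frW.eb₂ C.frW.gb₂ hw2 hw2'
  obtain ⟨A, hAi, hAH, hAa, hAb, -⟩ := C.exists_flip
  have hw' := C.rd_conj hw hAi (B := 1) (fun _ _ => rfl) one_ne_zero (one_smul F C.e).symm
  have hw'H := C.H.mul_mem (C.H.mul_mem hAH hwH) (C.H.inv_mem hAH)
  have hz := hone _ (C.H.mul_mem (C.H.mul_mem hwH hw'H) (C.H.inv_mem (C.H.mul_mem hw'H hwH))) (C.comm_isZ hw hw')
  have hk := C.comm_Zm hw hw'
  rw [hz, Zm_one, hT1, hT2, (hsym _ hw'H hw').1, (hsym _ hw'H hw').2, C.Lm_conj hw C.frW.eb₁,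
    C.Lm_conj hw C.frW.eb₂] at hk
  have ha' : A.symm C.a = C.b := by rw [LinearEquiv.symm_apply_eq, hAb]
  have hb' : A.symm C.b = C.a := by rw [LinearEquiv.symm_apply_eq, hAa]
  have hkb := congrArg (fun t => C.fU C.b t) (LinearMap.congr_fun hk C.a)
  simp only [LinearMap.add_apply, LinearMap.smul_apply, LinearMap.sub_apply, LinearMap.comp_apply,
    LinearMap.neg_apply, LinearMap.zero_apply, map_zero, LinearEquiv.conj_apply_apply, map_neg, e1, e2, ha', hb',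
    map_add, map_smul, hAa, hAb, fr.aa, fr.ab, mul_zero, zero_smul, add_zero, mul_one, map_sub,
    C.symU.symm C.b C.a, smul_eq_mul, fr.bb] at hkb
  have hn1 := C.frW.n₁0
  have hn2 := C.frW.n₂0
  have hq : (u₁ / C.n₁) * (u₁ / C.n₁) * C.n₁ + (u₂ / C.n₂) * (u₂ / C.n₂) * C.n₂ = 0 := by
    linear_combination (norm := (field_simp; ring)) hkb
  obtain ⟨z1, z2⟩ := C.frW.aniso _ _ hq
  rw [div_eq_zero_iff, or_iff_left hn1] at z1
  rw [div_eq_zero_iff, or_iff_left hn2] at z2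
  exact hwns ⟨⟨α₁, LinearMap.ext fun v => by simp [e1, z1]⟩, ⟨α₂, LinearMap.ext fun v => by simp [e2, z2]⟩⟩

end Ctx

end Cfsg.Agent.Lib.TensorThreeFour
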