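import Cfsg.Agent.Lib.TensorThreeFour.Operators
import Cfsg.Agent.Lib.SingMax.Basic
import Cfsg.Agent.Lib.Similarity.SpinorProduct

/-!
The tensor product `U ⊗ W` of a three-dimensional and an elliptic four-dimensional orthogonal space inside
`Ω₁₂⁻`: Kronecker elements, which of them lie in `Ω`, and their normal form.
-/

set_option autoImplicit false
set_option linter.unusedSectionVars false

namespace Cfsg.Agent.Lib.TensorThreeFour

open Module QuadraticMap Matrix Cfsg.Agent.Lib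

/-- The action on column vectors. -/
abbrev av {ι : Type} [Fintype ι] [DecidableEq ι] {F : Type*} [Field F] (g : GL ι F) (v : ι → F) : ι → F :=
  (g : Matrix ι ι F) *ᵥ v

/-- A Kronecker element for a bilinear product map. -/
def IsKr {ι : Type} [Fintype ι] [DecidableEq ι] {F : Type*} [Field F]
    (ten : (Fin 3 → F) →ₗ[F] (Fin 4 → F) →ₗ[F] (ι → F)) (g : GL ι F) : Prop :=
  ∃ (A : (Fin 3 → F) ≃ₗ[F] (Fin 3 → F)) (B : (Fin 4 → F) ≃ₗ[F] (Fin 4 → F)),
    ∀ u w, av g (ten u w) = ten (A u) (B w)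

/-- The data: the forms, frames, the product map, and an overgroup of the Kronecker elements in `Ω`. -/
structure Ctx (F : Type*) [Field F] (ι : Type) [Fintype ι] [DecidableEq ι] where
  Q : QuadraticForm F (ι → F)
  fU : LinearMap.BilinForm F (Fin 3 → F)
  fW : LinearMap.BilinForm F (Fin 4 → F)
  ten : (Fin 3 → F) →ₗ[F] (Fin 4 → F) →ₗ[F] (ι → F)
  H : Subgroup (GL ι F)
  a : Fin 3 → F
  z : Fin 3 → F
  b : Fin 3 → F
  n : F
  e : Fin 4 → F
  g : Fin 4 → F
  b₁ : Fin 4 → F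
  b₂ : Fin 4 → F
  n₁ : F
  n₂ : F
  bV : Basis (Fin 3 × Fin 4) F (ι → F)
  bV_eq : ∀ i j, bV (i, j) = ten (Pi.single i 1) (Pi.single j 1)
  symU : Sym fU
  symW : Sym fW
  frU : Frame3 fU a z b n
  frW : Frame4 fW e g b₁ b₂ n₁ n₂
  minus : ∀ x y, fW x x = 0 → fW y y = 0 → fW x y = 0 → x ≠ 0 → y ∈ F ∙ x
  polarQ : ∀ u w u' w', polar ⇑Q (ten u w) (ten u' w') = fU u u' * fW w w'
  five : 5 ≤ Nat.card F
  le_omega : H ≤ Cfsg.Geo.omegaGL ⇑Q
  kron : ∀ h ∈ Cfsg.Geo.omegaGL ⇑Q, IsKr ten h → h ∈ H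

variable {ι : Type} [Fintype ι] [DecidableEq ι] {F : Type*} [Field F]

namespace Ctx

variable (C : Ctx F ι)
include C

theorem two : (2 : F) ≠ 0 := C.symU.two

theorem ext_ten {W : Type*} [AddCommGroup W] [Module F W] {L L' : (ι → F) →ₗ[F] W}
    (h : ∀ u w, L (C.ten u w) = L' (C.ten u w)) : L = L' :=
  C.bV.ext fun ⟨i, j⟩ => by rw [C.bV_eq]; exact h _ _

theorem gl_ext {x y : GL ι F} (h : ∀ u w, av x (C.ten u w) = av y (C.ten u w)) : x = y := by
  refine SingMax.gl_ext' fun v => ?_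
  exact LinearMap.congr_fun (C.ext_ten (L := Matrix.mulVecLin (x : Matrix ι ι F))
    (L' := Matrix.mulVecLin (y : Matrix ι ι F)) h) v

theorem nondegQ : (QuadraticMap.polarBilin C.Q).Nondegenerate := by
  have hs : ∀ x, (∀ y, polar ⇑C.Q x y = 0) → x = 0 := by
    intro x hx
    have hrep := C.bV.sum_repr x
    refine C.bV.repr.injective ?_
    ext ⟨i, j⟩
    -- pair with the dual vectors
    obtain ⟨u, hu⟩ : ∃ u, ∀ v, C.fU v u = v i := by
      have hinj : Function.Injective C.fU := fun x y e => C.symU.ext fun w => by rw [e]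
      obtain ⟨u, hu⟩ := (LinearMap.injective_iff_surjective_of_finrank_eq_finrank
        (Subspace.dual_finrank_eq (K := F) (V := Fin 3 → F)).symm).1 hinj (LinearMap.proj i)
      exact ⟨u, fun v => by rw [C.symU.symm v u, hu]; rfl⟩
    obtain ⟨w, hw⟩ : ∃ w, ∀ v, C.fW v w = v j := by
      have hinj : Function.Injective C.fW := fun x y e => C.symW.ext fun w => by rw [e]
      obtain ⟨u, hu⟩ := (LinearMap.injective_iff_surjective_of_finrank_eq_finrank
        (Subspace.dual_finrank_eq (K := F) (V := Fin 4 → F)).symm).1 hinj (LinearMap.proj j)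
      exact ⟨u, fun v => by rw [C.symW.symm v u, hu]; rfl⟩
    have h := hx (C.ten u w)
    rw [← hrep, ← QuadraticMap.polarBilin_apply_apply, map_sum, LinearMap.sum_apply,
      Finset.sum_eq_single (i, j) (fun ⟨i', j'⟩ _ hne => by
        rw [map_smul, LinearMap.smul_apply, QuadraticMap.polarBilin_apply_apply, C.bV_eq, C.polarQ, hu, hw,
          smul_eq_mul]
        by_cases hi : i' = i
        · have hj : j ≠ j' := fun e => hne (by rw [hi, e])
          simp [hj]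
        · simp [Ne.symm hi]) (by simp)] at h
    rw [map_smul, LinearMap.smul_apply, QuadraticMap.polarBilin_apply_apply, C.bV_eq, C.polarQ, hu, hw] at h
    simpa using h
  exact ⟨hs, fun y hy => hs y fun x => by rw [polar_comm]; exact hy x⟩

theorem card_eq : Fintype.card ι = 12 := by
  rw [← Module.finrank_fintype_fun_eq_card F, Module.finrank_eq_card_basis C.bV]
  rfl

theorem Q_pure (u : Fin 3 → F) (w : Fin 4 → F) : C.Q (C.ten u w) = C.fU u u * C.fW w w / 2 := by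
  rw [eq_div_iff C.two, ← C.polarQ, polar_self, two_nsmul, mul_two]

/-- Preserving the quadratic form. -/
def Isom (x : GL ι F) : Prop := ∀ v, C.Q (av x v) = C.Q v

theorem isom_of_mem {x : GL ι F} (hx : x ∈ C.H) : C.Isom x := by
  obtain ⟨k, -, rfl⟩ := C.le_omega hx
  exact Orth.mem_isometryGroup_iff.1 k.2

theorem isom_mul {x y : GL ι F} (hx : C.Isom x) (hy : C.Isom y) : C.Isom (x * y) := fun v => by
  rw [av, Units.val_mul, ← mulVec_mulVec]; exact (hx _).trans (hy v)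

theorem isom_inv {x : GL ι F} (hx : C.Isom x) : C.Isom x⁻¹ := fun v => by
  conv_rhs => rw [← one_mulVec v, ← Units.val_one, ← mul_inv_cancel x, Units.val_mul, ← mulVec_mulVec]
  exact (hx _).symm

theorem polar_isom {x : GL ι F} (hx : C.Isom x) (v w : ι → F) :
    polar ⇑C.Q (av x v) (av x w) = polar ⇑C.Q v w := SingMax.polar_of_iso hx v w

theorem isom_of_ten {x : GL ι F}
    (h : ∀ u w u' w', polar ⇑C.Q (av x (C.ten u w)) (av x (C.ten u' w')) = C.fU u u' * C.fW w w') :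
    C.Isom x := by
  have e : (QuadraticMap.polarBilin C.Q).compl₁₂ (Matrix.mulVecLin (x : Matrix ι ι F))
      (Matrix.mulVecLin (x : Matrix ι ι F)) = QuadraticMap.polarBilin C.Q :=
    C.ext_ten fun u w => C.ext_ten fun u' w' => by
      show polar ⇑C.Q (av x (C.ten u w)) (av x (C.ten u' w')) = polar ⇑C.Q (C.ten u w) (C.ten u' w')
      rw [h, C.polarQ]
  intro v
  have h' := LinearMap.congr_fun (LinearMap.congr_fun e v) v
  simp only [LinearMap.compl₁₂_apply, QuadraticMap.polarBilin_apply_apply, polar_self,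
    Matrix.mulVecLin_apply, two_nsmul, ← two_mul] at h'
  exact mul_left_cancel₀ C.two h'

/-! Kronecker elements. -/

/-- The linear map of a pair. -/
noncomputable def krL (A : (Fin 3 → F) →ₗ[F] (Fin 3 → F)) (B : (Fin 4 → F) →ₗ[F] (Fin 4 → F)) :
    (ι → F) →ₗ[F] (ι → F) :=
  C.bV.constr F fun ij => C.ten (A (Pi.single ij.1 1)) (B (Pi.single ij.2 1))

theorem krL_ten (A : (Fin 3 → F) →ₗ[F] (Fin 3 → F)) (B : (Fin 4 → F) →ₗ[F] (Fin 4 → F)) (u : Fin 3 → F)
    (w : Fin 4 → F) : C.krL A B (C.ten u w) = C.ten (A u) (B w) := by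
  suffices (C.ten.compr₂ (C.krL A B)) = C.ten.compl₁₂ A B from
    LinearMap.congr_fun (LinearMap.congr_fun this u) w
  refine (Pi.basisFun F (Fin 3)).ext fun i => (Pi.basisFun F (Fin 4)).ext fun j => ?_
  simp only [LinearMap.compr₂_apply, LinearMap.compl₁₂_apply, Pi.basisFun_apply]
  rw [← C.bV_eq, krL, Basis.constr_basis]

omit C in
theorem toMatrix'_mul {f g : (ι → F) →ₗ[F] (ι → F)} (h : f.comp g = LinearMap.id) :
    LinearMap.toMatrix' f * LinearMap.toMatrix' g = 1 := by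
  rw [← LinearMap.toMatrix'_comp, h, LinearMap.toMatrix'_id]

/-- The Kronecker element of a pair. -/
noncomputable def kr (A : (Fin 3 → F) ≃ₗ[F] (Fin 3 → F)) (B : (Fin 4 → F) ≃ₗ[F] (Fin 4 → F)) : GL ι F :=
  ⟨LinearMap.toMatrix' (C.krL A.toLinearMap B.toLinearMap),
    LinearMap.toMatrix' (C.krL A.symm.toLinearMap B.symm.toLinearMap),
    toMatrix'_mul (C.ext_ten fun u w => by simp [krL_ten]),
    toMatrix'_mul (C.ext_ten fun u w => by simp [krL_ten])⟩

theorem kr_ten (A : (Fin 3 → F) ≃ₗ[F] (Fin 3 → F)) (B : (Fin 4 → F) ≃ₗ[F] (Fin 4 → F)) (u : Fin 3 → F)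
    (w : Fin 4 → F) : av (C.kr A B) (C.ten u w) = C.ten (A u) (B w) := by
  show LinearMap.toMatrix' _ *ᵥ _ = _
  rw [LinearMap.toMatrix'_mulVec, krL_ten]
  rfl

theorem kr_mul (A A' : (Fin 3 → F) ≃ₗ[F] (Fin 3 → F)) (B B' : (Fin 4 → F) ≃ₗ[F] (Fin 4 → F)) :
    C.kr A B * C.kr A' B' = C.kr (A * A') (B * B') := C.gl_ext fun u w => by
  rw [av, Units.val_mul, ← mulVec_mulVec]
  show av _ (av _ _) = _
  rw [kr_ten, kr_ten, kr_ten]; rfl

theorem kr_one : C.kr 1 1 = 1 := C.gl_ext fun u w => by rw [kr_ten]; simp [av]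

/-- The Kronecker homomorphism. -/
noncomputable def krHom :
    ((Fin 3 → F) ≃ₗ[F] (Fin 3 → F)) × ((Fin 4 → F) ≃ₗ[F] (Fin 4 → F)) →* GL ι F where
  toFun p := C.kr p.1 p.2
  map_one' := C.kr_one
  map_mul' p q := (C.kr_mul _ _ _ _).symm

theorem kr_inv (A : (Fin 3 → F) ≃ₗ[F] (Fin 3 → F)) (B : (Fin 4 → F) ≃ₗ[F] (Fin 4 → F)) :
    (C.kr A B)⁻¹ = C.kr A⁻¹ B⁻¹ := (map_inv C.krHom (A, B)).symm

theorem kr_pow (A : (Fin 3 → F) ≃ₗ[F] (Fin 3 → F)) (B : (Fin 4 → F) ≃ₗ[F] (Fin 4 → F)) (k : ℕ) :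
    C.kr A B ^ k = C.kr (A ^ k) (B ^ k) := (map_pow C.krHom (A, B) k).symm

theorem isKr_kr (A : (Fin 3 → F) ≃ₗ[F] (Fin 3 → F)) (B : (Fin 4 → F) ≃ₗ[F] (Fin 4 → F)) :
    IsKr C.ten (C.kr A B) := ⟨A, B, C.kr_ten A B⟩

theorem eq_kr {x : GL ι F} {A : (Fin 3 → F) ≃ₗ[F] (Fin 3 → F)} {B : (Fin 4 → F) ≃ₗ[F] (Fin 4 → F)}
    (h : ∀ u w, av x (C.ten u w) = C.ten (A u) (B w)) : x = C.kr A B :=
  C.gl_ext fun u w => by rw [h, kr_ten]

theorem isKr_mul {x y : GL ι F} (hx : IsKr C.ten x) (hy : IsKr C.ten y) : IsKr C.ten (x * y) := by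
  obtain ⟨A, B, h⟩ := hx
  obtain ⟨A', B', h'⟩ := hy
  rw [C.eq_kr h, C.eq_kr h', kr_mul]
  exact C.isKr_kr _ _

theorem isKr_inv {x : GL ι F} (hx : IsKr C.ten x) : IsKr C.ten x⁻¹ := by
  obtain ⟨A, B, h⟩ := hx
  rw [C.eq_kr h, kr_inv]
  exact C.isKr_kr _ _

theorem isom_kr {A : (Fin 3 → F) ≃ₗ[F] (Fin 3 → F)} {B : (Fin 4 → F) ≃ₗ[F] (Fin 4 → F)}
    (hA : IsIso C.fU A.toLinearMap) (hB : IsIso C.fW B.toLinearMap) : C.Isom (C.kr A B) := by
  refine C.isom_of_ten fun u w u' w' => ?_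
  rw [kr_ten, kr_ten, C.polarQ]
  exact congrArg₂ (· * ·) (hA u u') (hB w w')

/-! Coordinates. -/

/-- Contraction with a vector of `W`. -/
noncomputable def co (w : Fin 4 → F) : (ι → F) →ₗ[F] (Fin 3 → F) :=
  (((QuadraticMap.polarBilin C.Q).flip) (C.ten C.b w)).smulRight C.a +
    (C.n⁻¹ • ((QuadraticMap.polarBilin C.Q).flip) (C.ten C.z w)).smulRight C.z +
    (((QuadraticMap.polarBilin C.Q).flip) (C.ten C.a w)).smulRight C.b

theorem co_ten (c : Fin 4 → F) (u : Fin 3 → F) (w : Fin 4 → F) :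
    C.co c (C.ten u w) = C.fW w c • u := by
  conv_rhs => rw [C.frU.expand u]
  simp only [co, LinearMap.add_apply, LinearMap.smulRight_apply, LinearMap.flip_apply, LinearMap.smul_apply,
    QuadraticMap.polarBilin_apply_apply, C.polarQ, C.symU.symm u C.b, C.symU.symm u C.z, C.symU.symm u C.a,
    smul_eq_mul]
  module

theorem fU_co (c : Fin 4 → F) (v : ι → F) (u : Fin 3 → F) :
    C.fU (C.co c v) u = polar ⇑C.Q v (C.ten u c) := by
  refine LinearMap.congr_fun (C.ext_ten (L := ((C.fU.flip u).comp (C.co c)))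
    (L' := (QuadraticMap.polarBilin C.Q).flip (C.ten u c)) fun x w => ?_) v
  simp [co_ten, C.polarQ, mul_comm]

/-- Contraction with a vector of `U`. -/
noncomputable def ro (u : Fin 3 → F) : (ι → F) →ₗ[F] (Fin 4 → F) :=
  (((QuadraticMap.polarBilin C.Q).flip) (C.ten u C.g)).smulRight C.e +
    (C.n₁⁻¹ • ((QuadraticMap.polarBilin C.Q).flip) (C.ten u C.b₁)).smulRight C.b₁ +
    (C.n₂⁻¹ • ((QuadraticMap.polarBilin C.Q).flip) (C.ten u C.b₂)).smulRight C.b₂ +
    (((QuadraticMap.polarBilin C.Q).flip) (C.ten u C.e)).smulRight C.g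

theorem ro_ten (u x : Fin 3 → F) (w : Fin 4 → F) : C.ro u (C.ten x w) = C.fU x u • w := by
  conv_rhs => rw [C.frW.expand w]
  simp only [ro, LinearMap.add_apply, LinearMap.smulRight_apply, LinearMap.flip_apply, LinearMap.smul_apply,
    QuadraticMap.polarBilin_apply_apply, C.polarQ, C.symW.symm w C.g, C.symW.symm w C.b₁, C.symW.symm w C.b₂,
    C.symW.symm w C.e, smul_eq_mul]
  module

theorem decompW (v : ι → F) : v = C.ten (C.co C.g v) C.e + C.n₁⁻¹ • C.ten (C.co C.b₁ v) C.b₁ +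
    C.n₂⁻¹ • C.ten (C.co C.b₂ v) C.b₂ + C.ten (C.co C.e v) C.g := by
  refine LinearMap.congr_fun (C.ext_ten (L := LinearMap.id)
    (L' := (C.ten.flip C.e).comp (C.co C.g) + C.n₁⁻¹ • (C.ten.flip C.b₁).comp (C.co C.b₁) +
      C.n₂⁻¹ • (C.ten.flip C.b₂).comp (C.co C.b₂) + (C.ten.flip C.g).comp (C.co C.e)) fun u w => ?_) v
  conv_lhs => rw [LinearMap.id_apply, C.frW.expand w]
  simp only [LinearMap.add_apply, LinearMap.smul_apply, LinearMap.comp_apply, LinearMap.flip_apply, co_ten,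
    map_add, map_smul, C.symW.symm w C.g, C.symW.symm w C.b₁, C.symW.symm w C.b₂, C.symW.symm w C.e]
  module

/-! Membership in `Ω`. -/

variable [Finite F]

theorem mem_omega_of_pow_odd {x : GL ι F} (hx : C.Isom x) {k : ℕ} (hk : Odd k) (h1 : x ^ k = 1) :
    x ∈ Cfsg.Geo.omegaGL ⇑C.Q := by
  refine ⟨⟨x, Orth.mem_isometryGroup_iff.2 hx⟩, ?_, rfl⟩
  have hk1 : (⟨x, Orth.mem_isometryGroup_iff.2 hx⟩ : ↥(Cfsg.isometryGroup F ⇑C.Q)) ^ k = 1 :=
    Subtype.ext (by simpa using h1)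
  have hu : ∀ (χ : ↥(Cfsg.isometryGroup F ⇑C.Q) →* ℤˣ), χ ⟨x, Orth.mem_isometryGroup_iff.2 hx⟩ = 1 := by
    intro χ
    have h := congrArg χ hk1
    rw [map_pow, map_one] at h
    obtain ⟨m, rfl⟩ := hk
    rwa [pow_succ, pow_mul, Int.units_sq, one_pow, one_mul] at h
  exact (Orth.mem_omega_iff C.two C.nondegQ (by rw [C.card_eq]; norm_num) _).2 ⟨hu _, hu _⟩

/-- A reflection of the small space, as an isometry of the product. -/
noncomputable def reflIso {u : Fin 3 → F} (hu : C.fU u u ≠ 0) : ↥(Cfsg.isometryGroup F ⇑C.Q) :=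
  ⟨C.kr (reflE C.fU hu) 1, Orth.mem_isometryGroup_iff.2 (C.isom_kr (reflL_iso C.symU hu) fun _ _ => rfl)⟩

theorem signs_refl {u : Fin 3 → F} (hu : C.fU u u ≠ 0) :
    Orth.detSign C.Q C.two C.nondegQ (C.reflIso hu) = 1 ∧ Orth.spinor C.Q (C.reflIso hu) = -1 := by
  classical
  haveI := Fintype.ofFinite F
  have h2 := C.two
  have fr := C.frW
  have hn1 := fr.n₁0
  have hn2 := fr.n₂0
  obtain ⟨w, hw⟩ : ∃ w : Fin 4 → (Fin 4 → F), w = ![C.b₁, C.b₂, C.e + C.g, C.e - C.g] := ⟨_, rfl⟩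
  have horth : ∀ i j, i ≠ j → C.fW (w i) (w j) = 0 := by
    intro i j hij
    fin_cases i <;> fin_cases j <;> first | exact absurd rfl hij | simp [hw, fr.b₁b₂, C.symW.symm C.b₂ C.b₁, fr.eb₁,
      fr.eb₂, fr.gb₁, fr.gb₂, C.symW.symm C.b₁ C.e, C.symW.symm C.b₂ C.e, C.symW.symm C.b₁ C.g,
      C.symW.symm C.b₂ C.g, fr.ee, fr.gg, fr.eg, C.symW.symm C.g C.e]
  have hval : ∀ i, C.fW (w i) (w i) = ![C.n₁, C.n₂, 2, -2] i := by
    intro i
    fin_cases i <;> simp [hw, fr.b₁b₁, fr.b₂b₂, fr.ee, fr.gg, fr.eg, C.symW.symm C.g C.e] <;> ring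
  have hne : ∀ i, C.fW (w i) (w i) ≠ 0 := by
    intro i; rw [hval]; fin_cases i <;> simp [hn1, hn2, h2]
  have hQ : ∀ i, C.Q (C.ten u (w i)) ≠ 0 := fun i => by
    rw [Q_pure]; exact div_ne_zero (mul_ne_zero hu (hne i)) h2
  have heq : C.reflIso hu = Orth.refl C.Q _ (hQ 0) * Orth.refl C.Q _ (hQ 1) * Orth.refl C.Q _ (hQ 2) *
      Orth.refl C.Q _ (hQ 3) := by
    have hfix : ∀ i j, i ≠ j → ∀ x, Orth.app (Orth.refl C.Q _ (hQ i)) (C.ten x (w j)) = C.ten x (w j) :=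
      fun i j hij x => Orth.app_refl_of_polar_eq_zero _ (by rw [C.polarQ, horth i j hij, mul_zero])
    have hact : ∀ i x, Orth.app (Orth.refl C.Q _ (hQ i)) (C.ten x (w i)) = C.ten (reflL C.fU u x) (w i) := by
      intro i x
      rw [Orth.app_refl, C.polarQ, Q_pure, reflL_apply, map_sub, map_smul, LinearMap.sub_apply, LinearMap.smul_apply]
      congr 2
      have := hne i
      field_simp
    refine Orth.isometry_ext fun v => ?_
    refine LinearMap.congr_fun (f := Matrix.mulVecLin ((C.reflIso hu : GL ι F) : Matrix ι ι F))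
      (g := Matrix.mulVecLin (((Orth.refl C.Q _ (hQ 0) * Orth.refl C.Q _ (hQ 1) * Orth.refl C.Q _ (hQ 2) *
      Orth.refl C.Q _ (hQ 3) : ↥(Cfsg.isometryGroup F ⇑C.Q)) : GL ι F) : Matrix ι ι F)) ?_ v
    refine C.ext_ten fun x y => ?_
    have hy : y = (C.fW (w 0) y / C.n₁) • w 0 + (C.fW (w 1) y / C.n₂) • w 1 + (C.fW (w 2) y / 2) • w 2 +
        (C.fW (w 3) y / -2) • w 3 := by
      conv_lhs => rw [fr.expand y]
      simp only [hw, Matrix.cons_val, map_add, map_sub, LinearMap.add_apply, LinearMap.sub_apply]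
      match_scalars <;> field_simp <;> ring
    rw [hy]
    simp only [map_add, map_smul]
    have hR : ∀ j, Matrix.mulVecLin ((C.reflIso hu : GL ι F) : Matrix ι ι F) (C.ten x (w j)) =
        C.ten (reflL C.fU u x) (w j) := fun j => C.kr_ten (reflE C.fU hu) 1 x (w j)
    have hL : ∀ j, Matrix.mulVecLin (((Orth.refl C.Q _ (hQ 0) * Orth.refl C.Q _ (hQ 1) * Orth.refl C.Q _ (hQ 2) *
        Orth.refl C.Q _ (hQ 3) : ↥(Cfsg.isometryGroup F ⇑C.Q)) : GL ι F) : Matrix ι ι F) (C.ten x (w j)) =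
        C.ten (reflL C.fU u x) (w j) := fun j => by
      show Orth.app (Orth.refl C.Q _ (hQ 0) * Orth.refl C.Q _ (hQ 1) * Orth.refl C.Q _ (hQ 2) *
        Orth.refl C.Q _ (hQ 3)) _ = _
      fin_cases j <;>
        simp only [Orth.app_mul, Fin.zero_eta, Fin.mk_one, Fin.reduceFinMk, hfix 3 0 (by decide), hfix 3 1 (by decide),
          hfix 3 2 (by decide), hfix 2 0 (by decide), hfix 2 1 (by decide), hfix 2 3 (by decide), hfix 1 0 (by decide),
          hfix 1 2 (by decide), hfix 1 3 (by decide), hfix 0 1 (by decide), hfix 0 2 (by decide), hfix 0 3 (by decide), hact]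
    simp only [hR, hL]
  refine ⟨by rw [heq]; simp only [map_mul, Orth.detSign_refl h2 C.nondegQ]; decide, ?_⟩
  rw [heq]
  simp only [map_mul, Similarity.spinor_refl_eq h2, Q_pure, hval, Matrix.cons_val]
  have hm : ∀ x : F, x ≠ 0 → Similarity.sqSign (C.fU u u * x / 2) =
      Similarity.sqSign (C.fU u u / 2) * Similarity.sqSign x := fun x hx => by
    rw [← Similarity.sqSign_mul h2 (div_ne_zero hu h2) hx]; congr 1; ring
  rw [hm _ hn1, hm _ hn2, hm _ h2, hm _ (neg_ne_zero.2 h2)]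
  have hns : ¬ IsSquare (C.n₁ * C.n₂ * 2 * -2) := by
    rintro ⟨r, hr⟩
    exact mul_ne_zero h2 hn1 (fr.aniso r (2 * C.n₁) (by linear_combination (-C.n₁) * hr)).2
  have hp : Similarity.sqSign C.n₁ * Similarity.sqSign C.n₂ * Similarity.sqSign (2 : F) *
      Similarity.sqSign (-2 : F) = -1 := by
    rw [← Similarity.sqSign_mul h2 hn1 hn2, ← Similarity.sqSign_mul h2 (mul_ne_zero hn1 hn2) h2,
      ← Similarity.sqSign_mul h2 (mul_ne_zero (mul_ne_zero hn1 hn2) h2) (neg_ne_zero.2 h2)]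
    exact (Int.units_eq_one_or _).resolve_left fun h => hns (Similarity.sqSign_eq_one_iff.1 h)
  rw [← hp]
  rcases Int.units_eq_one_or (Similarity.sqSign (C.fU u u / 2)) with h | h <;> rw [h] <;>
    simp [neg_mul, mul_neg, mul_assoc]

/-- The product of two reflections of `U` gives an element of the overgroup. -/
theorem pair_mem {u v : Fin 3 → F} (hu : C.fU u u ≠ 0) (hv : C.fU v v ≠ 0) :
    C.kr (reflE C.fU hu * reflE C.fU hv) 1 ∈ C.H := by
  refine C.kron _ ⟨C.reflIso hu * C.reflIso hv, ?_, ?_⟩ (C.isKr_kr _ _)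
  · obtain ⟨d1, s1⟩ := C.signs_refl hu
    obtain ⟨d2, s2⟩ := C.signs_refl hv
    exact (Orth.mem_omega_iff C.two C.nondegQ (by rw [C.card_eq]; norm_num) _).2
      ⟨by rw [map_mul, d1, d2, one_mul], by rw [map_mul, s1, s2]; rfl⟩
  · show C.kr _ 1 * C.kr _ 1 = _
    rw [kr_mul, one_mul]

/-- The negation of `U` is a product of three reflections. -/
theorem exists_neg_refl : ∃ (u v w : Fin 3 → F) (hu : C.fU u u ≠ 0) (hv : C.fU v v ≠ 0) (hw : C.fU w w ≠ 0),
    reflE C.fU hu * reflE C.fU hv * reflE C.fU hw = LinearEquiv.neg F := by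
  have fr := C.frU
  have h2 := C.two
  have h1 : C.fU (C.a + C.b) (C.a + C.b) ≠ 0 := by
    simp [fr.aa, fr.bb, fr.ab, C.symU.symm C.b C.a]; norm_num; exact h2
  have h1' : C.fU (C.a - C.b) (C.a - C.b) ≠ 0 := by
    have e : C.fU (C.a - C.b) (C.a - C.b) = -2 := by
      simp [fr.aa, fr.bb, fr.ab, C.symU.symm C.b C.a]; ring
    rw [e]; exact neg_ne_zero.2 h2
  have hz : C.fU C.z C.z ≠ 0 := fr.zz ▸ fr.n0
  have e1 : C.fU C.z (C.a + C.b) = 0 := by simp [C.symU.symm C.z C.a, fr.az, C.symU.symm C.z C.b, fr.bz]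
  have e2 : C.fU C.z (C.a - C.b) = 0 := by simp [C.symU.symm C.z C.a, fr.az, C.symU.symm C.z C.b, fr.bz]
  have e3 : C.fU (C.a + C.b) (C.a - C.b) = 0 := by simp [fr.aa, fr.bb, fr.ab, C.symU.symm C.b C.a]
  have key : reflE C.fU hz * reflE C.fU h1 * reflE C.fU h1' = LinearEquiv.neg F := by
    have hp : ∀ x, (reflE C.fU hz * reflE C.fU h1 * reflE C.fU h1') x =
        reflL C.fU C.z (reflL C.fU (C.a + C.b) (reflL C.fU (C.a - C.b) x)) := fun x => rfl
    have hz' : (reflE C.fU hz * reflE C.fU h1 * reflE C.fU h1') C.z = -C.z := by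
      rw [hp, reflL_fix (u := C.a - C.b) (by rw [C.symU.symm, e2]),
        reflL_fix (u := C.a + C.b) (by rw [C.symU.symm, e1]), reflL_self hz]
    have hs : (reflE C.fU hz * reflE C.fU h1 * reflE C.fU h1') (C.a + C.b) = -(C.a + C.b) := by
      rw [hp, reflL_fix (u := C.a - C.b) (by rw [C.symU.symm, e3]), reflL_self h1, map_neg, reflL_fix e1]
    have hd : (reflE C.fU hz * reflE C.fU h1 * reflE C.fU h1') (C.a - C.b) = -(C.a - C.b) := by
      rw [hp, reflL_self h1', map_neg, reflL_fix e3, map_neg, reflL_fix e2]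
    refine LinearEquiv.toLinearMap_injective (C.frU.ext ?_ hz' ?_)
    · show (reflE C.fU hz * reflE C.fU h1 * reflE C.fU h1') C.a = -C.a
      refine (congrArg _ (show C.a = (2 : F)⁻¹ • ((C.a + C.b) + (C.a - C.b)) by
        match_scalars <;> field_simp <;> ring)).trans ?_
      rw [map_smul, map_add, hs, hd]
      match_scalars <;> field_simp <;> ring
    · show (reflE C.fU hz * reflE C.fU h1 * reflE C.fU h1') C.b = -C.b
      refine (congrArg _ (show C.b = (2 : F)⁻¹ • ((C.a + C.b) - (C.a - C.b)) by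
        match_scalars <;> field_simp <;> ring)).trans ?_
      rw [map_smul, map_sub, hs, hd]
      match_scalars <;> field_simp <;> ring
  exact ⟨_, _, _, hz, h1, h1', key⟩

theorem neg_one_notMem : (-1 : GL ι F) ∉ C.H := by
  intro hmem
  obtain ⟨k, hk, hkv⟩ := C.le_omega hmem
  obtain ⟨_, _, _, hz, h1, h1', key⟩ := C.exists_neg_refl
  have hsp := (Orth.mem_omega_iff C.two C.nondegQ (by rw [C.card_eq]; norm_num) k).1 hk
  have hk' : k = C.reflIso hz * C.reflIso h1 * C.reflIso h1' := by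
    refine Subtype.ext ?_
    show (k : GL ι F) = C.kr _ 1 * C.kr _ 1 * C.kr _ 1
    rw [kr_mul, kr_mul, one_mul, one_mul, key]
    refine (hkv : (k : GL ι F) = -1).trans (C.gl_ext fun u w => ?_)
    rw [kr_ten]
    simp [av, Matrix.neg_mulVec]
  have := hsp.2
  rw [hk', map_mul, map_mul, (C.signs_refl hz).2, (C.signs_refl h1).2, (C.signs_refl h1').2] at this
  exact absurd this (by decide)

theorem pair_isKr {h : GL ι F} (hh : h ∈ C.H) (hk : IsKr C.ten h) {A : (Fin 3 → F) ≃ₗ[F] (Fin 3 → F)}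
    {B : (Fin 4 → F) ≃ₗ[F] (Fin 4 → F)} (hA : IsIso C.fU A.toLinearMap) (hB : IsIso C.fW B.toLinearMap) :
    C.kr A B * h * (C.kr A B)⁻¹ ∈ C.H := by
  refine C.kron _ ?_ (C.isKr_mul (C.isKr_mul (C.isKr_kr A B) hk) (C.isKr_inv (C.isKr_kr A B)))
  obtain ⟨k, hkΩ, rfl⟩ := C.le_omega hh
  let x : ↥(Cfsg.isometryGroup F ⇑C.Q) := ⟨C.kr A B, Orth.mem_isometryGroup_iff.2 (C.isom_kr hA hB)⟩
  exact ⟨x * k * x⁻¹, (inferInstance : (Cfsg.Omega F ⇑C.Q).Normal).conj_mem _ hkΩ x, rfl⟩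

end Ctx

end Cfsg.Agent.Lib.TensorThreeFour
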