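import Cfsg.Agent.Lib.FormMax.OrthBasic

/-!
Small spaces with a symmetric form in odd characteristic: Siegel maps, reflections, frames in
dimension three and four, unipotent isometries of planes, and operators commuting with Siegel maps.
-/

set_option autoImplicit false
set_option linter.unusedSectionVars false

namespace Cfsg.Agent.Lib.TensorThreeFour

open Module

variable {F : Type*} [Field F] {V : Type*} [AddCommGroup V] [Module F V]

/-- A non-degenerate symmetric form in characteristic different from two. -/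
structure Sym (f : LinearMap.BilinForm F V) : Prop where
  symm : ∀ x y, f x y = f y x
  nd : ∀ x, (∀ y, f x y = 0) → x = 0
  two : (2 : F) ≠ 0

/-- A linear map preserving the form. -/
def IsIso (f : LinearMap.BilinForm F V) (α : V →ₗ[F] V) : Prop := ∀ x y, f (α x) (α y) = f x y

namespace Sym

variable {f : LinearMap.BilinForm F V} (hf : Sym f)
include hf

theorem ext {v w : V} (h : ∀ u, f v u = f w u) : v = w :=
  sub_eq_zero.1 (hf.nd _ fun u => by rw [map_sub, LinearMap.sub_apply, h, sub_self])

theorem four_ne : (4 : F) ≠ 0 := by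
  have := mul_ne_zero hf.two hf.two
  norm_num at this
  exact this

theorem injective_of_iso {α : V →ₗ[F] V} (hα : IsIso f α) : Function.Injective α := fun x y h =>
  hf.ext fun u => by rw [← hα x u, ← hα y u, h]

end Sym

/-- The Siegel map with centre `e` along `b`. -/
def siegL (f : LinearMap.BilinForm F V) (e b : V) : V →ₗ[F] V :=
  LinearMap.id + (f e).smulRight b - ((f b) + (f b b / 2) • (f e)).smulRight e

theorem siegL_apply (f : LinearMap.BilinForm F V) (e b x : V) :
    siegL f e b x = x + f e x • b - (f b x + f b b / 2 * f e x) • e := by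
  simp [siegL]

theorem siegL_zero (f : LinearMap.BilinForm F V) (e : V) : siegL f e 0 = LinearMap.id :=
  LinearMap.ext fun x => by simp [siegL_apply]

theorem siegL_add {f : LinearMap.BilinForm F V} (hf : Sym f) {e b b' : V} (he : f e e = 0)
    (hb : f e b = 0) (hb' : f e b' = 0) (x : V) :
    siegL f e b (siegL f e b' x) = siegL f e (b + b') x := by
  have h2 := hf.two
  simp only [siegL_apply, map_add, map_sub, map_smul, LinearMap.add_apply, hf.symm b e, hb, hb', he,
    smul_eq_mul, hf.symm b' b]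
  match_scalars <;> field_simp <;> ring

/-- The Siegel map as an automorphism. -/
def siegE {f : LinearMap.BilinForm F V} (hf : Sym f) {e b : V} (he : f e e = 0) (hb : f e b = 0) :
    V ≃ₗ[F] V :=
  LinearEquiv.ofLinearMap (siegL f e b) (siegL f e (-b))
    (LinearMap.ext fun x => by
      rw [LinearMap.comp_apply, siegL_add hf he hb (by rw [map_neg, hb, neg_zero]), add_neg_cancel, siegL_zero])
    (LinearMap.ext fun x => by
      rw [LinearMap.comp_apply, siegL_add hf he (by rw [map_neg, hb, neg_zero]) hb, neg_add_cancel, siegL_zero])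

@[simp] theorem siegE_apply {f : LinearMap.BilinForm F V} (hf : Sym f) {e b : V} (he : f e e = 0)
    (hb : f e b = 0) (x : V) : siegE hf he hb x = siegL f e b x := rfl

theorem siegL_iso {f : LinearMap.BilinForm F V} (hf : Sym f) {e b : V} (he : f e e = 0) (hb : f e b = 0) :
    IsIso f (siegL f e b) := by
  intro x y
  have h2 := hf.two
  simp only [siegL_apply, map_add, map_sub, map_smul, LinearMap.add_apply, LinearMap.sub_apply,
    LinearMap.smul_apply, smul_eq_mul, he, hb, hf.symm b e, hf.symm x e, hf.symm x b]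
  field_simp
  ring

theorem siegE_pow {f : LinearMap.BilinForm F V} (hf : Sym f) {e b : V} (he : f e e = 0) (hb : f e b = 0)
    (n : ℕ) (x : V) : (siegE hf he hb ^ n) x = siegL f e ((n : F) • b) x := by
  induction n with
  | zero => simp [siegL_zero]
  | succ n ih =>
    rw [pow_succ', LinearEquiv.mul_apply, ih, siegE_apply, siegL_add hf he hb (by rw [map_smul, hb, smul_zero]),
      Nat.cast_succ, add_smul, one_smul, add_comm]

theorem siegL_conj {f : LinearMap.BilinForm F V} {β : V ≃ₗ[F] V} (hβ : IsIso f β.toLinearMap) (e b x : V) :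
    β (siegL f e b x) = siegL f (β e) (β b) (β x) := by
  have h : ∀ u v, f (β u) (β v) = f u v := hβ
  simp [siegL_apply, h]

/-- The reflection in an anisotropic vector. -/
def reflL (f : LinearMap.BilinForm F V) (u : V) : V →ₗ[F] V :=
  LinearMap.id - ((2 / f u u) • f u).smulRight u

theorem reflL_apply (f : LinearMap.BilinForm F V) (u x : V) :
    reflL f u x = x - (2 / f u u * f u x) • u := by simp [reflL]

theorem reflL_self {f : LinearMap.BilinForm F V} {u : V} (hu : f u u ≠ 0) : reflL f u u = -u := by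
  rw [reflL_apply, div_mul_cancel₀ _ hu]
  module

theorem reflL_fix {f : LinearMap.BilinForm F V} {u x : V} (h : f u x = 0) : reflL f u x = x := by
  simp [reflL_apply, h]

theorem reflL_reflL {f : LinearMap.BilinForm F V} {u : V} (hu : f u u ≠ 0) (x : V) :
    reflL f u (reflL f u x) = x := by
  simp only [reflL_apply, map_sub, map_smul, smul_eq_mul]
  match_scalars <;> field_simp <;> ring

/-- The reflection as an automorphism. -/
def reflE (f : LinearMap.BilinForm F V) {u : V} (hu : f u u ≠ 0) : V ≃ₗ[F] V :=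
  LinearEquiv.ofLinearMap (reflL f u) (reflL f u) (LinearMap.ext (reflL_reflL hu)) (LinearMap.ext (reflL_reflL hu))

@[simp] theorem reflE_apply (f : LinearMap.BilinForm F V) {u : V} (hu : f u u ≠ 0) (x : V) :
    reflE f hu x = reflL f u x := rfl

theorem reflL_iso {f : LinearMap.BilinForm F V} (hf : Sym f) {u : V} (hu : f u u ≠ 0) :
    IsIso f (reflL f u) := by
  intro x y
  simp only [reflL_apply, map_sub, LinearMap.sub_apply, map_smul, LinearMap.smul_apply, smul_eq_mul,
    hf.symm x u]
  field_simp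
  ring

/-- A singular pair with an anisotropic vector. -/
structure Frame3 (f : LinearMap.BilinForm F V) (a z b : V) (n : F) : Prop where
  aa : f a a = 0
  bb : f b b = 0
  ab : f a b = 1
  az : f a z = 0
  bz : f b z = 0
  zz : f z z = n
  n0 : n ≠ 0
  expand : ∀ x, x = f b x • a + (f z x / n) • z + f a x • b

/-- A singular pair with an anisotropic plane. -/
structure Frame4 (f : LinearMap.BilinForm F V) (e g b₁ b₂ : V) (n₁ n₂ : F) : Prop where
  ee : f e e = 0
  gg : f g g = 0
  eg : f e g = 1
  eb₁ : f e b₁ = 0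
  eb₂ : f e b₂ = 0
  gb₁ : f g b₁ = 0
  gb₂ : f g b₂ = 0
  b₁b₁ : f b₁ b₁ = n₁
  b₂b₂ : f b₂ b₂ = n₂
  b₁b₂ : f b₁ b₂ = 0
  aniso : ∀ s t : F, s * s * n₁ + t * t * n₂ = 0 → s = 0 ∧ t = 0
  expand : ∀ x, x = f g x • e + (f b₁ x / n₁) • b₁ + (f b₂ x / n₂) • b₂ + f e x • g

theorem Frame4.n₁0 {f : LinearMap.BilinForm F V} {e g b₁ b₂ : V} {n₁ n₂ : F} (h : Frame4 f e g b₁ b₂ n₁ n₂) :
    n₁ ≠ 0 := fun h0 => one_ne_zero (h.aniso 1 0 (by simp [h0])).1

theorem Frame4.n₂0 {f : LinearMap.BilinForm F V} {e g b₁ b₂ : V} {n₁ n₂ : F} (h : Frame4 f e g b₁ b₂ n₁ n₂) :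
    n₂ ≠ 0 := fun h0 => one_ne_zero (h.aniso 0 1 (by simp [h0])).2

theorem Frame3.swap {f : LinearMap.BilinForm F V} (hf : Sym f) {a z b : V} {n : F} (h : Frame3 f a z b n) :
    Frame3 f b z a n :=
  ⟨h.bb, h.aa, by rw [hf.symm, h.ab], h.bz, h.az, h.zz, h.n0, fun x => by
    conv_lhs => rw [h.expand x]
    abel⟩

/-- An operator with orthogonal vectors whose values span is pinned by its values. -/
theorem Frame3.ext {f : LinearMap.BilinForm F V} {a z b : V} {n : F} (h : Frame3 f a z b n)
    {W : Type*} [AddCommGroup W] [Module F W] {L L' : V →ₗ[F] W} (ha : L a = L' a) (hz : L z = L' z)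
    (hb : L b = L' b) : L = L' := LinearMap.ext fun x => by
  rw [h.expand x]; simp [ha, hz, hb]

theorem Frame4.ext {f : LinearMap.BilinForm F V} {e g b₁ b₂ : V} {n₁ n₂ : F} (h : Frame4 f e g b₁ b₂ n₁ n₂)
    {W : Type*} [AddCommGroup W] [Module F W] {L L' : V →ₗ[F] W} (he : L e = L' e) (h1 : L b₁ = L' b₁)
    (h2 : L b₂ = L' b₂) (hg : L g = L' g) : L = L' := LinearMap.ext fun x => by
  rw [h.expand x]; simp [he, h1, h2, hg]

section Finite

variable [FiniteDimensional F V] {f : LinearMap.BilinForm F V} (hf : Sym f)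
include hf

omit [FiniteDimensional F V] in
theorem exists_ne {x : V} (hx : x ≠ 0) : ∃ y, f x y ≠ 0 := by
  by_contra h
  push Not at h
  exact hx (hf.nd x h)

omit [FiniteDimensional F V] in
/-- A singular partner of a singular vector. -/
theorem exists_partner {e : V} (he0 : e ≠ 0) (he : f e e = 0) : ∃ g, f e g = 1 ∧ f g g = 0 := by
  obtain ⟨y, hy⟩ := exists_ne hf he0
  obtain ⟨y', hy', hey⟩ : ∃ y', y' = (f e y)⁻¹ • y ∧ f e y' = 1 :=
    ⟨_, rfl, by rw [map_smul, smul_eq_mul, inv_mul_cancel₀ hy]⟩
  refine ⟨y' - (f y' y' / 2) • e, by simp [hey, he], ?_⟩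
  have h2 := hf.two
  simp only [map_sub, map_smul, LinearMap.sub_apply, LinearMap.smul_apply, smul_eq_mul, he, hey,
    hf.symm y' e]
  field_simp
  ring

/-- Vectors orthogonal to a family of fewer vectors than the dimension. -/
theorem exists_perp {k : ℕ} (u : Fin k → V) (hk : k < finrank F V) :
    ∃ x, x ≠ 0 ∧ ∀ i, f (u i) x = 0 := by
  obtain ⟨x, hx, hx0⟩ := Submodule.exists_mem_ne_zero_of_ne_bot (p := LinearMap.ker (LinearMap.pi fun i => f (u i)))
    (fun h => by
      have h1 := LinearMap.finrank_range_add_finrank_ker (LinearMap.pi fun i => f (u i))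
      have h2 := Submodule.finrank_le (LinearMap.range (LinearMap.pi fun i => f (u i)))
      rw [h, finrank_bot, add_zero] at h1
      rw [Module.finrank_fin_fun] at h2
      omega)
  exact ⟨x, hx0, fun i => congrFun (LinearMap.mem_ker.1 hx) i⟩

omit [FiniteDimensional F V] in
theorem Frame3.of_eqs {a z b : V} {n : F} (hd : finrank F V = 3) [FiniteDimensional F V] (haa : f a a = 0)
    (hbb : f b b = 0) (hab : f a b = 1) (haz : f a z = 0) (hbz : f b z = 0) (hzz : f z z = n) (hn : n ≠ 0) :
    Frame3 f a z b n := by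
  refine ⟨haa, hbb, hab, haz, hbz, hzz, hn, fun x => ?_⟩
  by_contra hne
  set y := x - (f b x • a + (f z x / n) • z + f a x • b) with hy
  have hy0 : y ≠ 0 := sub_ne_zero.2 hne
  have ha : f a y = 0 := by simp [hy, haa, haz, hab]
  have hb : f b y = 0 := by simp [hy, hbb, hbz, hf.symm b a, hab]
  have hz : f z y = 0 := by simp [hy, hf.symm z a, haz, hf.symm z b, hbz, hzz, hn]
  have hli : LinearIndependent F ![a, z, b, y] := by
    rw [Fintype.linearIndependent_iff]
    intro g hg
    rw [Fin.sum_univ_four] at hg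
    simp only [Matrix.cons_val] at hg
    have e1 := congrArg (f a) hg
    have e2 := congrArg (f b) hg
    have e3 := congrArg (f z) hg
    simp [haa, haz, hab, ha] at e1
    simp [hbb, hbz, hf.symm b a, hab, hb] at e2
    simp [hf.symm z a, haz, hf.symm z b, hbz, hzz, hn, hz] at e3
    rw [e1, e2, e3] at hg
    simp [hy0] at hg
    intro i
    fin_cases i <;> assumption
  have := hli.fintype_card_le_finrank
  simp [hd] at this

omit [FiniteDimensional F V] in
theorem Frame4.of_eqs {e g b₁ b₂ : V} {n₁ n₂ : F} (hd : finrank F V = 4) [FiniteDimensional F V] (hee : f e e = 0)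
    (hgg : f g g = 0) (heg : f e g = 1) (heb₁ : f e b₁ = 0) (heb₂ : f e b₂ = 0) (hgb₁ : f g b₁ = 0)
    (hgb₂ : f g b₂ = 0) (h11 : f b₁ b₁ = n₁) (h22 : f b₂ b₂ = n₂) (h12 : f b₁ b₂ = 0)
    (ha : ∀ s t : F, s * s * n₁ + t * t * n₂ = 0 → s = 0 ∧ t = 0) : Frame4 f e g b₁ b₂ n₁ n₂ := by
  refine ⟨hee, hgg, heg, heb₁, heb₂, hgb₁, hgb₂, h11, h22, h12, ha, fun x => ?_⟩
  have hn1 : n₁ ≠ 0 := fun h0 => one_ne_zero (ha 1 0 (by simp [h0])).1
  have hn2 : n₂ ≠ 0 := fun h0 => one_ne_zero (ha 0 1 (by simp [h0])).2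
  by_contra hne
  set y := x - (f g x • e + (f b₁ x / n₁) • b₁ + (f b₂ x / n₂) • b₂ + f e x • g) with hy
  have hy0 : y ≠ 0 := sub_ne_zero.2 hne
  have k1 : f e y = 0 := by simp [hy, hee, heb₁, heb₂, heg]
  have k2 : f g y = 0 := by simp [hy, hgg, hgb₁, hgb₂, hf.symm g e, heg]
  have k3 : f b₁ y = 0 := by simp [hy, hf.symm b₁ e, heb₁, h11, h12, hf.symm b₁ g, hgb₁, hn1]
  have k4 : f b₂ y = 0 := by simp [hy, hf.symm b₂ e, heb₂, hf.symm b₂ b₁, h12, h22, hf.symm b₂ g, hgb₂, hn2]
  have hli : LinearIndependent F ![e, b₁, b₂, g, y] := by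
    rw [Fintype.linearIndependent_iff]
    intro c hc
    rw [Fin.sum_univ_five] at hc
    simp only [Matrix.cons_val] at hc
    have e1 := congrArg (f e) hc
    have e2 := congrArg (f g) hc
    have e3 := congrArg (f b₁) hc
    have e4 := congrArg (f b₂) hc
    simp [hee, heb₁, heb₂, heg, k1] at e1
    simp [hgg, hgb₁, hgb₂, hf.symm g e, heg, k2] at e2
    simp [hf.symm b₁ e, heb₁, h11, h12, hf.symm b₁ g, hgb₁, hn1, k3] at e3
    simp [hf.symm b₂ e, heb₂, hf.symm b₂ b₁, h12, h22, hf.symm b₂ g, hgb₂, hn2, k4] at e4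
    rw [e1, e2, e3, e4] at hc
    simp [hy0] at hc
    intro i
    fin_cases i <;> assumption
  have := hli.fintype_card_le_finrank
  simp [hd] at this

/-- A four-dimensional space with a singular vector and no totally singular plane has a frame. -/
theorem exists_frame4 (hd : finrank F V = 4)
    (hmin : ∀ e c, f e e = 0 → f c c = 0 → f e c = 0 → e ≠ 0 → c ∈ F ∙ e) {e : V} (he0 : e ≠ 0)
    (he : f e e = 0) : ∃ g b₁ b₂ n₁ n₂, Frame4 f e g b₁ b₂ n₁ n₂ := by
  obtain ⟨g, heg, hgg⟩ := exists_partner hf he0 he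
  obtain ⟨b₁, h10, h1⟩ := exists_perp hf ![e, g] (by omega)
  have he1 : f e b₁ = 0 := h1 0
  have hg1 : f g b₁ = 0 := h1 1
  have hE : ∀ x, f e x = 0 → f g x = 0 → f x x = 0 → x = 0 := by
    intro x hex hgx hxx
    obtain ⟨c, hc⟩ := Submodule.mem_span_singleton.1 (hmin e x he hxx hex he0)
    have hc0 : c = 0 := by simpa [← hc, hf.symm g e, heg] using hgx
    rw [← hc, hc0, zero_smul]
  obtain ⟨b₂, h20, h2⟩ := exists_perp hf ![e, g, b₁] (by omega)
  have he2 : f e b₂ = 0 := h2 0
  have hg2 : f g b₂ = 0 := h2 1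
  have h12 : f b₁ b₂ = 0 := h2 2
  refine ⟨g, b₁, b₂, _, _, Frame4.of_eqs hf hd he hgg heg he1 he2 hg1 hg2 rfl rfl h12 fun s t hst => ?_⟩
  have hx := hE (s • b₁ + t • b₂) (by simp [he1, he2]) (by simp [hg1, hg2])
    (by simp [h12, hf.symm b₂ b₁]; linear_combination hst)
  have e1 := congrArg (f b₁) hx
  have e2 := congrArg (f b₂) hx
  simp [h12] at e1
  simp [hf.symm b₂ b₁, h12] at e2
  exact ⟨e1.resolve_right fun h => h10 (hE _ he1 hg1 h), e2.resolve_right fun h => h20 (hE _ he2 hg2 h)⟩

/-- A three-dimensional space with a singular vector has a frame. -/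
theorem exists_frame3 (hd : finrank F V = 3) {a : V} (ha0 : a ≠ 0) (ha : f a a = 0) :
    ∃ z b n, Frame3 f a z b n := by
  obtain ⟨b, hab, hbb⟩ := exists_partner hf ha0 ha
  obtain ⟨z, hz0, hz⟩ := exists_perp hf ![a, b] (by omega)
  have haz : f a z = 0 := hz 0
  have hbz : f b z = 0 := hz 1
  refine ⟨z, b, f z z, Frame3.of_eqs hf hd ha hbb hab haz hbz rfl fun hzz => ?_⟩
  obtain ⟨y, hy0, hy⟩ := exists_perp hf ![a, b] (by omega)
  -- the orthogonal of the pair is a line, so `z` would be in the radical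
  have hli : ∀ w, ∃ s t r : F, w = s • a + t • b + r • z := by
    have hli : LinearIndependent F ![a, b, z] := by
      rw [Fintype.linearIndependent_iff]
      intro g hg
      rw [Fin.sum_univ_three] at hg
      simp only [Matrix.cons_val] at hg
      have e1 := congrArg (f a) hg
      have e2 := congrArg (f b) hg
      simp [ha, hab, haz] at e1
      simp [hbb, hf.symm b a, hab, hbz] at e2
      rw [e1, e2] at hg
      simp [hz0] at hg
      intro i
      fin_cases i <;> assumption
    intro w
    have hw : w ∈ Submodule.span F (Set.range ![a, b, z]) := by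
      rw [hli.span_eq_top_of_card_eq_finrank (by simp [hd])]; trivial
    obtain ⟨c, hc⟩ := (Submodule.mem_span_range_iff_exists_fun F).1 hw
    exact ⟨c 0, c 1, c 2, by rw [← hc, Fin.sum_univ_three]; simp⟩
  refine hz0 (hf.nd z fun w => ?_)
  obtain ⟨s, t, r, rfl⟩ := hli w
  simp [hf.symm z a, haz, hf.symm z b, hbz, hzz]

end Finite

/-- A unipotent isometry of a three-dimensional space fixing an anisotropic vector is trivial. -/
theorem eq_id_of_pow {p : ℕ} [Fact p.Prime] [CharP F p] [FiniteDimensional F V] {f : LinearMap.BilinForm F V}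
    (hf : Sym f) (hd : finrank F V = 3) {α : V →ₗ[F] V} (hα : IsIso f α) (hp : α ^ p = 1) {z : V}
    (hz : f z z ≠ 0) (hαz : α z = z) : α = 1 := by
  have hN : ∀ x, ((α - 1) ^ p) x = 0 := by
    intro x
    haveI : Nontrivial V := ⟨z, 0, fun h => hz (by simp [h])⟩
    haveI : CharP (Module.End F V) p :=
      charP_of_injective_algebraMap (algebraMap F (Module.End F V)).injective p
    rw [sub_pow_char_of_commute (R := Module.End F V) (p := p) (Commute.one_right α), hp, one_pow, sub_self, LinearMap.zero_apply]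
  have hstab : ∀ x, f z x = 0 → f z (α x) = 0 := fun x hx => by rw [← hαz, hα, hx]
  -- a fixed vector orthogonal to `z`
  obtain ⟨w, hw0, hw⟩ := exists_perp hf ![z] (by omega)
  have hzw : f z w = 0 := hw 0
  obtain ⟨v, hv0, hzv, hαv⟩ : ∃ v, v ≠ 0 ∧ f z v = 0 ∧ α v = v := by
    by_contra hh
    push Not at hh
    have key : ∀ k : ℕ, ((α - 1) ^ k) w ≠ 0 ∧ f z (((α - 1) ^ k) w) = 0 := by
      intro k
      induction k with
      | zero => exact ⟨hw0, hzw⟩
      | succ k ih =>
        obtain ⟨h0, hz'⟩ := ih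
        rw [pow_succ', Module.End.mul_apply, LinearMap.sub_apply, Module.End.one_apply, map_sub, hstab _ hz', hz',
          sub_zero]
        exact ⟨sub_ne_zero.2 (hh _ h0 hz'), rfl⟩
    exact (key p).1 (hN w)
  by_cases hvv : f v v = 0
  · -- singular
    obtain ⟨b, hvb, hbb⟩ := exists_partner hf hv0 hvv
    obtain ⟨b', hb'⟩ : ∃ b', b' = b - (f z b / f z z) • z := ⟨_, rfl⟩
    have hvb' : f v b' = 1 := by simp [hb', hvb, hf.symm v z, hzv]
    have hzb' : f z b' = 0 := by simp [hb', div_mul_cancel₀ _ hz]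
    have hfr := Frame3.of_eqs hf hd (a := v) (z := z) (b := b' - (f b' b' / 2) • v) (n := f z z) hvv
      (by
        have h2 := hf.two
        simp only [map_sub, map_smul, LinearMap.sub_apply, LinearMap.smul_apply, smul_eq_mul, hvv, hvb',
          hf.symm b' v]
        field_simp; ring)
      (by simp [hvb', hvv]) (by rw [hf.symm, hzv]) (by simp [hf.symm b' z, hzb', hf.symm v z, hzv]) rfl hz
    set c := b' - (f b' b' / 2) • v
    refine hfr.ext hαv hαz ?_
    show α c = c
    have h1 : f v (α c) = 1 := by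
      conv_lhs => rw [← hαv]
      rw [hα, hfr.ab]
    have h2 : f z (α c) = 0 := hstab _ (by rw [hf.symm, hfr.bz])
    have h3 : f (α c) (α c) = 0 := by rw [hα, hfr.bb]
    have e := hfr.expand (α c)
    rw [h1, h2, zero_div, zero_smul, add_zero, one_smul] at e
    rw [e] at h3
    simp only [map_add, map_smul, LinearMap.add_apply, LinearMap.smul_apply, smul_eq_mul, hfr.aa, hfr.bb,
      hfr.ab, hf.symm c v] at h3
    have h4 : f c (α c) = 0 := by
      refine (mul_eq_zero.1 (show (2 : F) * f c (α c) = 0 by linear_combination h3)).resolve_left hf.two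
    rw [h4, zero_smul, zero_add] at e
    exact e
  · obtain ⟨u, hu0, hu⟩ := exists_perp hf ![z, v] (by omega)
    have hzu : f z u = 0 := hu 0
    have hvu : f v u = 0 := hu 1
    have hli : LinearIndependent F ![z, v, u] := by
      rw [Fintype.linearIndependent_iff]
      intro g hg
      rw [Fin.sum_univ_three] at hg
      simp only [Matrix.cons_val] at hg
      have e1 := congrArg (f z) hg
      have e2 := congrArg (f v) hg
      simp [hzv, hzu, hz] at e1
      simp [hvv, hvu, hf.symm v z, hzv] at e2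
      rw [e1, e2] at hg
      simp [hu0] at hg
      intro i
      fin_cases i <;> assumption
    have hsp := hli.span_eq_top_of_card_eq_finrank (by simp [hd])
    have hzu' : f z (α u) = 0 := hstab u hzu
    have hvu' : f v (α u) = 0 := by rw [← hαv, hα, hvu]
    obtain ⟨c, hc⟩ : ∃ c : F, α u = c • u := by
      have hm : α u ∈ Submodule.span F (Set.range ![z, v, u]) := by rw [hsp]; trivial
      obtain ⟨g, hg⟩ := (Submodule.mem_span_range_iff_exists_fun F).1 hm
      rw [Fin.sum_univ_three] at hg
      simp only [Matrix.cons_val] at hg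
      have e1 := congrArg (f z) hg
      have e2 := congrArg (f v) hg
      simp [hzv, hzu, hz, hzu'] at e1
      simp [hvv, hvu, hf.symm v z, hzv, hvu'] at e2
      rw [e1, e2] at hg
      exact ⟨g 2, by simpa using hg.symm⟩
    have hpc : ∀ k : ℕ, (α ^ k) u = c ^ k • u := by
      intro k
      induction k with
      | zero => simp
      | succ k ih => rw [pow_succ', Module.End.mul_apply, ih, map_smul, hc, smul_smul, pow_succ]
    have hc1 : c ^ p = 1 := by
      have h := hpc p
      rw [hp, Module.End.one_apply] at h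
      exact smul_left_injective F hu0 (by simpa using h.symm)
    have hc' : c = 1 := frobenius_inj F p (by simp [frobenius_def, hc1])
    refine LinearMap.ext_on_range hsp fun i => ?_
    fin_cases i <;> simp [hαz, hαv, hc, hc']

end Cfsg.Agent.Lib.TensorThreeFour
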