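import Cfsg.Agent.Lib.TensorThreeFour.Eichler

/-!
With a rigid radical the stabiliser of `U ⊗ e` in the overgroup consists of Kronecker elements, and so does
everything carrying a Siegel element of `1 ⊗ O(W)` into `1 ⊗ O(W)`.
-/

set_option autoImplicit false
set_option linter.unusedSectionVars false

namespace Cfsg.Agent.Lib.TensorThreeFour

open Module QuadraticMap Matrix Cfsg.Agent.Lib

variable {ι : Type} [Fintype ι] [DecidableEq ι] {F : Type*} [Field F]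

theorem av_add (x : GL ι F) (v w : ι → F) : av x (v + w) = av x v + av x w := mulVec_add _ _ _

theorem av_sub (x : GL ι F) (v w : ι → F) : av x (v - w) = av x v - av x w := mulVec_sub _ _ _

theorem av_smul (x : GL ι F) (t : F) (v : ι → F) : av x (t • v) = t • av x v := mulVec_smul _ _ _

namespace Ctx

variable (C : Ctx F ι)
include C

theorem co_e_of_stab {x : GL ι F} (hx : C.Isom x) {A : (Fin 3 → F) ≃ₗ[F] (Fin 3 → F)}
    (hA : ∀ u, av x (C.ten u C.e) = C.ten (A u) C.e) (u : Fin 3 → F) {c : Fin 4 → F} (hc : C.fW C.e c = 0) :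
    C.co C.e (av x (C.ten u c)) = 0 := C.symU.ext fun v => by
  rw [fU_co, ← A.apply_symm_apply v, ← hA, C.polar_isom hx, C.polarQ, C.symW.symm c C.e, hc, mul_zero, map_zero,
    LinearMap.zero_apply]

/-- Action of a Siegel element on the orthogonal of `U ⊗ e`. -/
theorem yc_low {c : Fin 4 → F} (hc : C.fW C.e c = 0) {v : ι → F} (hv : C.co C.e v = 0) :
    av (C.yc hc) v = v - C.ten (C.co c v) C.e := by
  have e := C.decompW v
  rw [hv, map_zero, LinearMap.zero_apply, add_zero] at e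
  rw [e]
  simp only [av_add, av_smul, yc_ten, C.siegL_mid C.frW.ee, C.siegL_mid C.frW.eb₁, C.siegL_mid C.frW.eb₂,
    map_add, map_sub, map_smul, co_ten, LinearMap.add_apply, LinearMap.smul_apply, C.symW.symm c C.e, hc,
    C.symW.symm C.b₁ c, C.symW.symm C.b₂ c]
  module

theorem conj_yc_rd {x : GL ι F} (hx : C.Isom x) {A : (Fin 3 → F) ≃ₗ[F] (Fin 3 → F)}
    (hA : ∀ u, av x (C.ten u C.e) = C.ten (A u) C.e) {c : Fin 4 → F} (hc : C.fW C.e c = 0) :
    C.RD (x * C.yc hc * x⁻¹) := by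
  have hy := C.rd_yc hc
  have hA' : ∀ u, av x⁻¹ (C.ten u C.e) = C.ten (A.symm u) C.e := fun u => by
    conv_lhs => rw [← A.apply_symm_apply u, ← hA]
    exact av_inv_av _ _
  refine ⟨C.isom_mul (C.isom_mul hx hy.1) (C.isom_inv hx), fun u => ?_, fun u d hd => ?_⟩
  · rw [av_mul, av_mul, hA', hy.2.1, hA, LinearEquiv.apply_symm_apply]
  · refine ⟨A (-(C.co c (av x⁻¹ (C.ten u d)))), ?_⟩
    rw [av_mul, av_mul, C.yc_low hc (C.co_e_of_stab (C.isom_inv hx) hA' u hd), av_sub, av_av_inv, hA, map_neg,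
      map_neg, LinearMap.neg_apply, sub_eq_add_neg]

theorem exists_symm_equiv {L : (Fin 3 → F) →ₗ[F] (Fin 3 → F)} (h : Function.Injective L) :
    ∃ A : (Fin 3 → F) ≃ₗ[F] (Fin 3 → F), ∀ u, A u = L u :=
  ⟨LinearEquiv.ofInjectiveEndo L h, fun _ => rfl⟩

variable [Finite F]

/-- An element of the stabiliser of `U ⊗ e` in the overgroup has the graded action of a Kronecker element. -/
theorem exists_graded (hN : C.NR) {h : GL ι F} (hh : h ∈ C.H)
    (hS : ∀ u, ∃ u', av h (C.ten u C.e) = C.ten u' C.e) :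
    ∃ (A : (Fin 3 → F) ≃ₗ[F] (Fin 3 → F)) (B : (Fin 4 → F) ≃ₗ[F] (Fin 4 → F)) (l : F),
      IsIso C.fU A.toLinearMap ∧ IsIso C.fW B.toLinearMap ∧ l ≠ 0 ∧ B C.e = l • C.e ∧
        C.RD ((C.kr A B)⁻¹ * h) := by
  have hi := C.isom_of_mem hh
  have fW := C.frW
  have hn1 := fW.n₁0
  have hn2 := fW.n₂0
  obtain ⟨L, hL⟩ : ∃ L : (Fin 3 → F) →ₗ[F] (Fin 3 → F),
      L = (C.co C.g).comp ((avL h).comp (C.ten.flip C.e)) := ⟨_, rfl⟩
  have hLu : ∀ u, av h (C.ten u C.e) = C.ten (L u) C.e := fun u => by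
    obtain ⟨u', hu'⟩ := hS u
    have : L u = C.co C.g (av h (C.ten u C.e)) := by rw [hL]; rfl
    rw [this, hu', co_g_ten_e]
  obtain ⟨A, hAL⟩ := C.exists_symm_equiv (L := L) fun u u' e => by
    have h1 := congrArg (av h⁻¹) (show av h (C.ten u C.e) = av h (C.ten u' C.e) by rw [hLu, hLu, e])
    rw [av_inv_av, av_inv_av] at h1
    exact C.ten_left_inj C.e_ne h1
  have hA : ∀ u, av h (C.ten u C.e) = C.ten (A u) C.e := fun u => by rw [hLu, hAL]
  -- the Siegel elements are normalised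
  have hconj : ∀ c (hc : C.fW C.e c = 0), ∃ s₁ s₂ : F, ∀ u d, C.fW C.e d = 0 →
      s₁ • C.co C.b₁ (av h (C.ten u d)) + s₂ • C.co C.b₂ (av h (C.ten u d)) = C.fW c d • A u := by
    intro c hc
    obtain ⟨c', hc', he⟩ := hN _ (C.H.mul_mem (C.H.mul_mem hh (C.yc_mem hc)) (C.H.inv_mem hh))
      (C.conj_yc_rd hi hA hc)
    refine ⟨C.fW C.b₁ c' / C.n₁, C.fW C.b₂ c' / C.n₂, fun u d hd => ?_⟩
    have hv := C.co_e_of_stab hi hA u hd
    have e := congrArg (fun x => av x (av h (C.ten u d))) he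
    simp only [av_mul, av_inv_av, yc_ten, C.siegL_mid hd, map_sub, map_smul, av_sub, av_smul, hA,
      C.yc_low hc' hv, sub_right_inj] at e
    rw [← LinearMap.smul_apply, ← map_smul] at e
    rw [C.ten_left_inj C.e_ne e]
    have e' := C.decompW (av h (C.ten u d))
    rw [hv, map_zero, LinearMap.zero_apply, add_zero] at e'
    conv_rhs => rw [e']
    simp only [map_add, map_smul, co_ten, C.symW.symm C.e c', hc', zero_smul, zero_add, smul_smul]
    rw [← C.symW.symm c' C.e, hc'] at *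
    simp only [div_eq_mul_inv]
    module
  obtain ⟨s₁₁, s₁₂, hs1⟩ := hconj C.b₁ fW.eb₁
  obtain ⟨s₂₁, s₂₂, hs2⟩ := hconj C.b₂ fW.eb₂
  have e21 : C.fW C.b₂ C.b₁ = 0 := by rw [C.symW.symm, fW.b₁b₂]
  obtain ⟨D, hD⟩ : ∃ D, D = s₁₁ * s₂₂ - s₁₂ * s₂₁ := ⟨_, rfl⟩
  have hq1 : ∀ u d, C.fW C.e d = 0 →
      D • C.co C.b₁ (av h (C.ten u d)) = (s₂₂ * C.fW C.b₁ d - s₁₂ * C.fW C.b₂ d) • A u := fun u d hd => by
    rw [sub_smul, mul_smul, mul_smul, ← hs1 u d hd, ← hs2 u d hd, hD]; module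
  have hq2 : ∀ u d, C.fW C.e d = 0 →
      D • C.co C.b₂ (av h (C.ten u d)) = (s₁₁ * C.fW C.b₂ d - s₂₁ * C.fW C.b₁ d) • A u := fun u d hd => by
    rw [sub_smul, mul_smul, mul_smul, ← hs1 u d hd, ← hs2 u d hd, hD]; module
  have hAz : A C.z ≠ 0 := fun e => C.z_ne (A.injective (e.trans (map_zero A).symm))
  have hD0 : D ≠ 0 := fun h0 => by
    have k1 := hq1 C.z C.b₁ fW.eb₁
    have k2 := hq1 C.z C.b₂ fW.eb₂
    have k4 := hq2 C.z C.b₂ fW.eb₂
    rw [h0, zero_smul, fW.b₁b₁, e21, mul_zero, sub_zero, eq_comm, smul_eq_zero_iff_left hAz] at k1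
    rw [h0, zero_smul, fW.b₁b₂, fW.b₂b₂, mul_zero, zero_sub, eq_comm, smul_eq_zero_iff_left hAz, neg_eq_zero] at k2
    have k := hs1 C.z C.b₁ fW.eb₁
    rw [h0, zero_smul, fW.b₁b₂, fW.b₂b₂, mul_zero, sub_zero, eq_comm, smul_eq_zero_iff_left hAz] at k4
    rw [(mul_eq_zero.1 k4).resolve_right hn2, (mul_eq_zero.1 k2).resolve_right hn2, zero_smul, zero_smul,
      add_zero, fW.b₁b₁, eq_comm, smul_eq_zero_iff_left hAz] at k
    exact hn1 k
  have hw : ∀ d, C.fW C.e d = 0 → ∃ w, C.fW C.e w = 0 ∧ C.fW C.g w = 0 ∧ ∀ u,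
      ∃ r, av h (C.ten u d) = C.ten (A u) w + C.ten r C.e := by
    intro d hd
    refine ⟨(C.n₁⁻¹ * (D⁻¹ * (s₂₂ * C.fW C.b₁ d - s₁₂ * C.fW C.b₂ d))) • C.b₁ +
      (C.n₂⁻¹ * (D⁻¹ * (s₁₁ * C.fW C.b₂ d - s₂₁ * C.fW C.b₁ d))) • C.b₂, by simp [fW.eb₁, fW.eb₂],
      by simp [fW.gb₁, fW.gb₂], fun u => ⟨C.co C.g (av h (C.ten u d)), ?_⟩⟩
    have h1 := hq1 u d hd
    have h2 := hq2 u d hd
    conv_lhs => rw [C.decompW (av h (C.ten u d)), C.co_e_of_stab hi hA u hd]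
    have h1' : C.co C.b₁ (av h (C.ten u d)) =
        (D⁻¹ * (s₂₂ * C.fW C.b₁ d - s₁₂ * C.fW C.b₂ d)) • A u := by
      have h1'' := hq1 u d hd
      rw [mul_smul, ← h1'', inv_smul_smul₀ hD0]
    have h2' : C.co C.b₂ (av h (C.ten u d)) =
        (D⁻¹ * (s₁₁ * C.fW C.b₂ d - s₂₁ * C.fW C.b₁ d)) • A u := by
      have h2'' := hq2 u d hd
      rw [mul_smul, ← h2'', inv_smul_smul₀ hD0]
    rw [h1', h2']
    simp only [map_add, map_smul, map_zero, LinearMap.zero_apply, LinearMap.smul_apply, smul_smul]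
    module
  obtain ⟨w₁, he1, hg1, hw1⟩ := hw C.b₁ fW.eb₁
  obtain ⟨w₂, he2, hg2, hw2⟩ := hw C.b₂ fW.eb₂
  have hpol : ∀ {d d' w w' : Fin 4 → F}, C.fW C.e w = 0 → C.fW C.e w' = 0 →
      (∀ u, ∃ r, av h (C.ten u d) = C.ten (A u) w + C.ten r C.e) →
      (∀ u, ∃ r, av h (C.ten u d') = C.ten (A u) w' + C.ten r C.e) → ∀ u u',
      C.fU (A u) (A u') * C.fW w w' = C.fU u u' * C.fW d d' := by
    intro d d' w w' hw hw' h1 h2 u u'
    obtain ⟨r, hr⟩ := h1 u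
    obtain ⟨r', hr'⟩ := h2 u'
    rw [← C.polarQ u d u' d', ← C.polar_isom hi, hr, hr']
    simp only [polar_add_left, polar_add_right, C.polarQ, hw', C.symW.symm w C.e, hw, fW.ee, mul_zero, add_zero]
  have h11 := hpol he1 he1 hw1 hw1
  have hzz := h11 C.z C.z
  rw [C.frU.zz, fW.b₁b₁] at hzz
  have hne := mul_ne_zero C.frU.n0 hn1
  rw [← hzz] at hne
  obtain ⟨m, hm⟩ : ∃ m, m = C.n₁ / C.fW w₁ w₁ := ⟨_, rfl⟩
  have hm0 : m ≠ 0 := hm ▸ div_ne_zero hn1 (right_ne_zero_of_mul hne)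
  have hAm : ∀ u u', C.fU (A u) (A u') = m * C.fU u u' := fun u u' => by
    have h1 := h11 u u'
    rw [fW.b₁b₁] at h1
    rw [hm, div_mul_eq_mul_div, eq_div_iff (right_ne_zero_of_mul hne), h1, mul_comm]
  have hW : ∀ {d d' w w' : Fin 4 → F}, (∀ u u', C.fU (A u) (A u') * C.fW w w' = C.fU u u' * C.fW d d') →
      C.fW w w' = m⁻¹ * C.fW d d' := fun {d d' w w'} hh' => by
    have := hh' C.z C.z
    rw [hAm, C.frU.zz] at this
    rw [eq_inv_mul_iff_mul_eq₀ hm0]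
    exact mul_left_cancel₀ C.frU.n0 (by linear_combination this)
  have f11 := hW h11
  have f22 := hW (hpol he2 he2 hw2 hw2)
  have f12 := hW (hpol he1 he2 hw1 hw2)
  rw [fW.b₁b₁] at f11
  rw [fW.b₂b₂] at f22
  rw [fW.b₁b₂, mul_zero] at f12
  -- the second factor
  obtain ⟨β, hβ⟩ : ∃ β : (Fin 4 → F) →ₗ[F] (Fin 4 → F), β = (C.fW C.g).smulRight C.e +
      (C.n₁⁻¹ • C.fW C.b₁).smulRight w₁ + (C.n₂⁻¹ • C.fW C.b₂).smulRight w₂ +
      (m⁻¹ • C.fW C.e).smulRight C.g := ⟨_, rfl⟩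
  have hβapp : ∀ p, β p = C.fW C.g p • C.e + (C.n₁⁻¹ * C.fW C.b₁ p) • w₁ + (C.n₂⁻¹ * C.fW C.b₂ p) • w₂ +
      (m⁻¹ * C.fW C.e p) • C.g := fun p => by simp [hβ]
  have hβi : ∀ p q, C.fW (β p) (β q) = m⁻¹ * C.fW p q := by
    intro p q
    conv_rhs => rw [fW.expand p, fW.expand q]
    simp only [hβapp, map_add, map_smul, LinearMap.add_apply, LinearMap.smul_apply, smul_eq_mul, fW.ee, fW.gg,
      fW.eg, C.symW.symm C.g C.e, fW.eb₁, fW.eb₂, fW.gb₁, fW.gb₂, C.symW.symm C.b₁ C.e, C.symW.symm C.b₂ C.e,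
      C.symW.symm C.b₁ C.g, C.symW.symm C.b₂ C.g, fW.b₁b₁, fW.b₂b₂, fW.b₁b₂, e21, f11, f22, f12,
      C.symW.symm w₂ w₁, C.symW.symm w₁ C.e, C.symW.symm w₂ C.e, C.symW.symm w₁ C.g, C.symW.symm w₂ C.g,
      he1, he2, hg1, hg2]
    field_simp
    ring
  obtain ⟨B, hB⟩ : ∃ B : (Fin 4 → F) ≃ₗ[F] (Fin 4 → F), ∀ p, B p = β p :=
    ⟨LinearEquiv.ofInjectiveEndo β fun p q e => C.symW.ext fun r => by
      have h1 := hβi p r
      rw [e, hβi q r] at h1
      exact (mul_left_cancel₀ (inv_ne_zero hm0) h1).symm, fun _ => rfl⟩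
  have hk : C.Isom (C.kr A B) := C.isom_of_ten fun u w u' w' => by
    rw [kr_ten, kr_ten, C.polarQ, hAm, hB, hB, hβi]
    field_simp
  obtain ⟨A', B', hA', hB', -, hk'⟩ := C.exists_kr (C.isKr_kr A B) hk
  have hBe : β C.e = C.e := by
    simp [hβapp, fW.ee, fW.eg, C.symW.symm C.g C.e, C.symW.symm C.b₁ C.e, fW.eb₁, C.symW.symm C.b₂ C.e,
      fW.eb₂]
  have hkS : ∀ u, av (C.kr A B) (C.ten u C.e) = C.ten (A u) C.e := fun u => by rw [kr_ten, hB, hBe]
  obtain ⟨c, hcne⟩ := exists_ne C.symU (fun e => C.z_ne (A'.injective (e.trans (map_zero A').symm)))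
  have hB'e : B' C.e = ((C.fU (A' C.z) c)⁻¹ * C.fU (A C.z) c) • C.e := by
    have e := congrArg (fun x => C.ro c (av x (C.ten C.z C.e))) hk'
    simp only [kr_ten, hB, hBe, ro_ten] at e
    rw [mul_smul, e, inv_smul_smul₀ hcne]
  refine ⟨A', B', _, hA', hB', fun h0 => C.e_ne (B'.injective ?_), hB'e, ?_⟩
  · rw [hB'e, h0, zero_smul, map_zero]
  rw [← hk']
  refine ⟨C.isom_mul (C.isom_inv hk) hi, fun u => ?_, fun u d hd => ?_⟩
  · rw [av_mul, hA, ← hkS, av_inv_av]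
  obtain ⟨r₁, hr1⟩ := hw1 u
  obtain ⟨r₂, hr2⟩ := hw2 u
  have hb1 : B C.b₁ = w₁ := by
    simp [hB, hβapp, fW.b₁b₁, fW.gb₁, fW.eb₁, e21, hn1]
  have hb2 : B C.b₂ = w₂ := by
    simp [hB, hβapp, fW.b₂b₂, fW.gb₂, fW.eb₂, fW.b₁b₂, hn2]
  have hkb : ∀ (x : Fin 3 → F) y r, av (C.kr A B)⁻¹ (C.ten (A x) (B y) + C.ten r C.e) =
      C.ten x y + C.ten (A.symm r) C.e := fun x y r => by
    conv_lhs => rw [← kr_ten, ← A.apply_symm_apply r, ← hkS, ← av_add]
    exact av_inv_av _ _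
  refine ⟨(C.fW C.b₁ d / C.n₁) • A.symm r₁ + (C.fW C.b₂ d / C.n₂) • A.symm r₂, ?_⟩
  have hd' := fW.expand d
  rw [hd, zero_smul, add_zero] at hd'
  generalize C.fW C.g d = t at hd'
  generalize C.fW C.b₁ d / C.n₁ = p₁ at hd' ⊢
  generalize C.fW C.b₂ d / C.n₂ = p₂ at hd' ⊢
  rw [hd']
  simp only [map_add, map_smul, LinearMap.add_apply, LinearMap.smul_apply, av_add, av_smul, av_mul, hA, hr1,
    hr2, ← hb1, ← hb2, hkb]
  rw [← hkS u, av_inv_av]
  module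

/-- The stabiliser of `U ⊗ e` consists of Kronecker elements. -/
theorem isKr_of_stabS (hN : C.NR) {h : GL ι F} (hh : h ∈ C.H)
    (hS : ∀ u, ∃ u', av h (C.ten u C.e) = C.ten u' C.e) : IsKr C.ten h := by
  obtain ⟨A, B, l, hA, hB, hl, hBe, hr⟩ := C.exists_graded hN hh hS
  obtain ⟨r, hrdef⟩ : ∃ r, r = (C.kr A B)⁻¹ * h := ⟨_, rfl⟩
  rw [← hrdef] at hr
  have hh' : h = C.kr A B * r := by rw [hrdef, mul_inv_cancel_left]
  obtain ⟨p, hp, hpo, hchar⟩ := C.exists_char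
  haveI := Fact.mk hp
  have hkA : IsIso C.fU A⁻¹.toLinearMap := fun u v => by
    show C.fU (A.symm u) (A.symm v) = _
    have e := hA (A.symm u) (A.symm v)
    simp only [LinearEquiv.coe_coe, LinearEquiv.apply_symm_apply] at e
    exact e.symm
  have hkB : IsIso C.fW B⁻¹.toLinearMap := fun u v => by
    show C.fW (B.symm u) (B.symm v) = _
    have e := hB (B.symm u) (B.symm v)
    simp only [LinearEquiv.coe_coe, LinearEquiv.apply_symm_apply] at e
    exact e.symm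
  -- radical elements of the overgroup conjugated back by the Kronecker element
  have hback : ∀ x ∈ C.H, C.RD x → (C.kr A B)⁻¹ * x * C.kr A B ∈ C.H := by
    intro x hxH hx
    obtain ⟨c, hc, rfl⟩ := hN x hxH hx
    rw [yc, kr_inv, kr_mul, kr_mul, mul_one, inv_mul_cancel]
    refine C.kr_mem_of_pow_odd (fun _ _ => rfl) (fun u v => ?_) hpo (one_pow _) ?_
    · exact (hkB _ _).trans ((siegL_iso C.symW C.frW.ee hc _ _).trans (hB u v))
    · have e := conj_pow (a := B⁻¹) (b := siegE C.symW C.frW.ee hc) (i := p)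
      rw [inv_inv] at e
      rw [e, C.siegE_pow_char C.symW _ hc p, mul_one, inv_mul_cancel]
  -- the commutators with the Siegel elements
  have hyz : ∀ c (hc : C.fW C.e c = 0), r * C.yc hc * (C.yc hc * r)⁻¹ = 1 := by
    intro c hc
    refine C.isZ_eq_one_of_NR hN ?_ (C.comm_isZ hr (C.rd_yc hc))
    have hA'' : ∀ v, av h (C.ten v C.e) =
        C.ten (A.trans (LinearEquiv.smulOfUnit (Units.mk0 l hl)) v) C.e := fun v => by
      rw [hh', av_mul, hr.2.1, kr_ten, hBe, map_smul]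
      show _ = C.ten (l • A v) C.e
      rw [map_smul, LinearMap.smul_apply]
    have h1 := hback _ (C.H.mul_mem (C.H.mul_mem hh (C.yc_mem hc)) (C.H.inv_mem hh))
      (C.conj_yc_rd (C.isom_of_mem hh) hA'' hc)
    have h2 := C.H.mul_mem h1 (C.H.inv_mem (C.yc_mem hc))
    convert h2 using 1
    rw [hh']; group
  have hT := C.comm_yc hr (hyz _ _) (hyz _ _)
  -- the commutators with the Siegel elements of the first factor
  have hmx : ∀ {x b : Fin 3 → F} (hx : C.fU x x = 0) (hb : C.fU x b = 0),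
      C.RD (r * C.kr (siegE C.symU hx hb) 1 * r⁻¹ * (C.kr (siegE C.symU hx hb) 1)⁻¹) ∧
      r * C.kr (siegE C.symU hx hb) 1 * r⁻¹ * (C.kr (siegE C.symU hx hb) 1)⁻¹ ∈ C.H := by
    intro x b hx hb
    have hmi := siegL_iso C.symU hx hb
    have hrd0 : C.RD (r * C.kr (siegE C.symU hx hb) 1 * r⁻¹ * (C.kr (siegE C.symU hx hb) 1)⁻¹) := by
      have h2 := C.rd_mul hr (C.rd_conj (C.rd_inv hr) (A := siegE C.symU hx hb) (B := 1) hmi (fun _ _ => rfl)
        one_ne_zero (one_smul F C.e).symm)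
      rwa [← mul_assoc, ← mul_assoc] at h2
    refine ⟨hrd0, ?_⟩
    have hmk : C.kr A B * C.kr (siegE C.symU hx hb) 1 * (C.kr A B)⁻¹ ∈ C.H := by
      rw [kr_inv, kr_mul, kr_mul, mul_one, mul_inv_cancel]
      refine C.kr_mem_of_pow_odd (fun u v => ?_) (fun _ _ => rfl) hpo ?_ (one_pow _)
      · exact (hA _ _).trans ((hmi _ _).trans (hkA u v))
      · rw [conj_pow, C.siegE_pow_char C.symU hx hb p, mul_one, mul_inv_cancel]
    have h1 := C.H.mul_mem (C.H.mul_mem (C.H.mul_mem hh (C.siegU_mem hx hb)) (C.H.inv_mem hh)) (C.H.inv_mem hmk)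
    have e : h * C.kr (siegE C.symU hx hb) 1 * h⁻¹ * (C.kr A B * C.kr (siegE C.symU hx hb) 1 * (C.kr A B)⁻¹)⁻¹ =
        C.kr A B * (r * C.kr (siegE C.symU hx hb) 1 * r⁻¹ * (C.kr (siegE C.symU hx hb) 1)⁻¹) * (C.kr A B)⁻¹ := by
      rw [hh']; group
    rw [e] at h1
    have h3 := hback _ h1 (C.rd_conj hrd0 hA hB hl hBe)
    convert h3 using 1
    group
  have hsc : ∀ {x b : Fin 3 → F} (hx : C.fU x x = 0) (hb : C.fU x b = 0) (d : Fin 4 → F), C.fW C.e d = 0 →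
      ∃ c : F, ∀ v, siegL C.fU x b (C.Lm r d v) = C.Lm r d (siegL C.fU x b v) + c • siegL C.fU x b v := by
    intro x b hx hb d hd
    obtain ⟨hrd, hmem⟩ := hmx hx hb
    obtain ⟨c, hc, he⟩ := hN _ hmem hrd
    refine ⟨C.fW c d, fun v => ?_⟩
    have hm' := C.rd_conj (C.rd_inv hr) (A := siegE C.symU hx hb) (B := 1) (siegL_iso C.symU hx hb)
      (fun _ _ => rfl) one_ne_zero (one_smul F C.e).symm
    have e := congrArg (fun y => C.Lm y d (siegE C.symU hx hb v)) he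

    rw [show r * C.kr (siegE C.symU hx hb) 1 * r⁻¹ * (C.kr (siegE C.symU hx hb) 1)⁻¹ =
      r * (C.kr (siegE C.symU hx hb) 1 * r⁻¹ * (C.kr (siegE C.symU hx hb) 1)⁻¹) by group,
      C.Lm_mul hr hm' hd, C.Lm_conj (C.rd_inv hr) hd, C.Lm_inv hr hd, C.Lm_yc hc hd, map_neg,
      LinearMap.add_apply, LinearMap.neg_apply, LinearEquiv.conj_apply_apply, LinearEquiv.symm_apply_apply,
      LinearMap.smul_apply, LinearMap.id_apply, siegE_apply, siegE_apply] at e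
    linear_combination (norm := module) -e
  have fr := C.frU
  obtain ⟨s, hs0, hs1⟩ := exists_not_pm_one (F := F) C.five
  have haz : ∀ t : F, C.fU C.a (t • C.z) = 0 := fun t => by rw [map_smul, fr.az, smul_zero]
  have hbz : ∀ t : F, C.fU C.b (t • C.z) = 0 := fun t => by rw [map_smul, fr.bz, smul_zero]
  have hscal : ∀ d, C.fW C.e d = 0 → C.fW C.g d = 0 → C.Tm r d = -C.Lm r d →
      ∃ α : F, C.Lm r d = α • LinearMap.id := by
    intro d hd hgd hTd
    have hsy : ∀ u v, C.fU (C.Lm r d u) v = C.fU u (C.Lm r d v) := fun u v => by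
      have e := C.Tm_adj hr hd hgd u v
      rw [hTd, LinearMap.neg_apply, map_neg, LinearMap.neg_apply] at e
      exact neg_inj.1 e
    obtain ⟨α, u, e1⟩ := form_of_symm C.symU fr hsy hs0 hs1 (hsc fr.aa (haz 1) d hd) (hsc fr.aa (haz s) d hd)
    obtain ⟨α', u', e2⟩ := form_of_symm C.symU (fr.swap C.symU) hsy hs0 hs1 (hsc fr.bb (hbz 1) d hd)
      (hsc fr.bb (hbz s) d hd)
    have e := congrArg (C.fU C.b) ((e1 C.b).symm.trans (e2 C.b))
    simp only [map_add, map_smul, fr.bb, fr.ab, C.symU.symm C.b C.a, smul_eq_mul, mul_zero, mul_one,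
      zero_add] at e
    exact ⟨α, LinearMap.ext fun v => by simp [e1, e]⟩
  obtain ⟨l₁, h1⟩ := hscal _ C.frW.eb₁ C.frW.gb₁ (hT 0)
  obtain ⟨l₂, h2⟩ := hscal _ C.frW.eb₂ C.frW.gb₂ (hT 1)
  obtain ⟨c, hc, hz⟩ := C.rd_of_scalar hr h1 h2
  obtain ⟨Z, hZ⟩ : ∃ Z, Z = r * (C.yc hc)⁻¹ := ⟨_, rfl⟩
  rw [← hZ] at hz
  have hfix : ∀ {x b : Fin 3 → F} (hx : C.fU x x = 0) (hb : C.fU x b = 0) (v : Fin 3 → F),
      C.Zm Z (siegL C.fU x b v) = siegL C.fU x b (C.Zm Z v) := by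
    intro x b hx hb v
    have hmi := siegL_iso C.symU hx hb
    have hcomm : C.yc hc * C.kr (siegE C.symU hx hb) 1 = C.kr (siegE C.symU hx hb) 1 * C.yc hc := by
      rw [yc, kr_mul, kr_mul, one_mul, mul_one, one_mul, mul_one]
    have e : r * C.kr (siegE C.symU hx hb) 1 * r⁻¹ * (C.kr (siegE C.symU hx hb) 1)⁻¹ =
        Z * (C.kr (siegE C.symU hx hb) 1 * Z⁻¹ * (C.kr (siegE C.symU hx hb) 1)⁻¹) := by
      have hr' : r = Z * C.yc hc := by rw [hZ, inv_mul_cancel_right]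
      rw [hr', mul_assoc Z (C.yc hc), hcomm]
      group
    have hmem := (hmx hx hb).2
    rw [e] at hmem
    have hzc := C.isZ_conj (C.isZ_inv hz) (A := siegE C.symU hx hb) hmi
    have h1 := C.isZ_eq_one_of_NR hN hmem (C.isZ_mul hz hzc)
    have h2 := congrArg C.Zm h1
    rw [C.Zm_mulZ hz hzc.1, C.Zm_conj (C.isZ_inv hz), C.Zm_inv hz, Zm_one] at h2
    have h3 := LinearMap.congr_fun h2 (siegE C.symU hx hb v)
    rw [LinearMap.add_apply, map_neg, LinearMap.neg_apply, LinearEquiv.conj_apply_apply,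
      LinearEquiv.symm_apply_apply, LinearMap.zero_apply, add_neg_eq_zero] at h3
    simpa using h3
  obtain ⟨t, ht⟩ := scalar_of_comm C.symU fr (L := C.Zm Z) (fun t v => hfix fr.aa (haz t) v)
    (fun t v => hfix fr.bb (hbz t) v)
  have hZ1 : Z = 1 := C.isZ_ext hz C.isZ_one <| by
    have e := C.Zm_skew hz C.a C.b
    simp only [ht, LinearMap.smul_apply, LinearMap.id_apply, map_smul, smul_eq_mul, fr.ab, mul_one] at e
    rw [ht, Zm_one, (mul_eq_zero.1 (show t * 2 = 0 by linear_combination e)).resolve_right C.two, zero_smul]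
  rw [hh', show r = C.yc hc from mul_inv_eq_one.1 (hZ ▸ hZ1)]
  exact C.isKr_mul (C.isKr_kr _ _) (C.isKr_kr _ _)

/-- Carrying a Siegel element of `1 ⊗ O(W)` into `1 ⊗ O(W)` forces a Kronecker element. -/
theorem isKr_of_conj (hN : C.NR) {h : GL ι F} (hh : h ∈ C.H) {c : Fin 4 → F} (hc : C.fW C.e c = 0)
    (hcc : C.fW c c ≠ 0) {σ : (Fin 4 → F) ≃ₗ[F] (Fin 4 → F)} (he : h * C.yc hc * h⁻¹ = C.kr 1 σ) : IsKr C.ten h := by
  have hi := C.isom_of_mem hh
  have fW := C.frW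
  obtain ⟨y, hy⟩ : ∃ y, y = avL (C.yc hc) - LinearMap.id := ⟨_, rfl⟩
  obtain ⟨y', hy'⟩ : ∃ y', y' = avL (C.kr 1 σ) - LinearMap.id := ⟨_, rfl⟩
  obtain ⟨N, hN'⟩ : ∃ N : (Fin 4 → F) →ₗ[F] (Fin 4 → F), N = σ.toLinearMap - LinearMap.id := ⟨_, rfl⟩
  have hy'ten : ∀ u w, y' (C.ten u w) = C.ten u (N w) := fun u w => by
    rw [hy', hN', LinearMap.sub_apply, LinearMap.sub_apply, LinearMap.id_apply, LinearMap.id_apply, map_sub]
    exact congrArg (· - _) (C.kr_ten 1 σ u w)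
  have hyten : ∀ u w, y (y (C.ten u w)) = C.ten (-(C.fW c c * C.fW C.e w) • u) C.e := fun u w => by
    have e : ∀ w, y (C.ten u w) = C.ten u (siegL C.fW C.e c w - w) := fun w => by
      rw [hy, LinearMap.sub_apply, LinearMap.id_apply, map_sub]
      exact congrArg (· - _) (C.yc_ten hc u w)
    rw [e, e, map_smul, LinearMap.smul_apply, ← map_smul]
    congr 1
    simp only [siegL_apply, map_add, map_sub, map_smul, fW.ee, hc,
      C.symW.symm c C.e]
    match_scalars <;> ring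
  have hconj : ∀ v, av h (y v) = y' (av h v) := fun v => by
    rw [hy, hy', LinearMap.sub_apply, LinearMap.sub_apply, LinearMap.id_apply, LinearMap.id_apply, ← he, av_sub]
    show _ = av _ (av h v) - _
    rw [av_mul, av_mul, av_inv_av]
    rfl
  -- the image of `S`
  have himg : ∀ v, ∃ u, av h⁻¹ (y' (y' v)) = C.ten u C.e := by
    intro v
    rw [← av_av_inv h v, ← hconj, ← hconj, av_inv_av]
    refine ⟨_, LinearMap.congr_fun (C.ext_ten (L := y.comp y)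
      (L' := (C.ten.flip C.e).comp (-(C.fW c c) • C.co C.e)) fun u w => ?_) (av h⁻¹ v)⟩
    simp [hyten, co_ten, C.symW.symm w C.e, smul_smul]
  have hts : ∀ w w', C.fW (N (N w)) (N (N w')) = 0 := by
    intro w w'
    obtain ⟨u, hu⟩ := himg (C.ten C.z w)
    obtain ⟨u', hu'⟩ := himg (C.ten C.z w')
    have e := C.polar_isom (C.isom_inv hi) (y' (y' (C.ten C.z w))) (y' (y' (C.ten C.z w')))
    rw [hu, hu', hy'ten, hy'ten, hy'ten, hy'ten, C.polarQ, C.polarQ, fW.ee, mul_zero, C.frU.zz, eq_comm] at e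
    exact (mul_eq_zero.1 e).resolve_left C.frU.n0
  obtain ⟨w₀, hw₀⟩ : ∃ w, N (N w) ≠ 0 := by
    by_contra hno
    push Not at hno
    have h0 : ∀ v, y' (y' v) = 0 := fun v =>
      LinearMap.congr_fun (C.ext_ten (L := y'.comp y') (L' := 0) fun u w => by simp [hy'ten, hno]) v
    have e := h0 (av h (C.ten C.z C.g))
    rw [← hconj, ← hconj, hyten] at e
    have e' := congrArg (av h⁻¹) e
    rw [av_inv_av, fW.eg, mul_one] at e'
    have e'' := congrArg (C.co C.g) (e'.trans (show av h⁻¹ 0 = 0 from Matrix.mulVec_zero _))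
    rw [co_g_ten_e, map_zero] at e''
    exact neg_ne_zero.2 hcc ((smul_eq_zero.1 e'').resolve_right C.z_ne)
  obtain ⟨r, hr⟩ : ∃ r, r = N (N w₀) := ⟨_, rfl⟩
  rw [← hr] at hw₀
  have hrr : C.fW r r = 0 := hr ▸ hts _ _
  obtain ⟨B, -, hBH, t, ht, hBr⟩ := C.exists_moveW hrr hw₀ fW.ee C.e_ne
  have hm := C.H.mul_mem hBH hh
  suffices IsKr C.ten (C.kr 1 B * h) by
    have := C.isKr_mul (C.isKr_inv (C.isKr_kr 1 B)) this
    rwa [inv_mul_cancel_left] at this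
  refine C.isKr_of_stabS hN hm fun u => ?_
  obtain ⟨v, hv⟩ : ∃ v, av h (C.ten u C.e) = C.ten v r := by
    have hline : ∀ x, ∃ v, y' (y' x) = C.ten v r := by
      intro x
      have hlin : ∀ w, ∃ s : F, N (N w) = s • r := fun w => by
        obtain ⟨s, hs⟩ := Submodule.mem_span_singleton.1 (C.minus r (N (N w)) hrr (hts w w) (hr ▸ hts w₀ w) hw₀)
        exact ⟨s, hs.symm⟩
      choose s hs using hlin
      have e := C.decompW x
      rw [e]
      simp only [map_add, map_smul, hy'ten, hs]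
      exact ⟨s C.e • C.co C.g x + C.n₁⁻¹ • s C.b₁ • C.co C.b₁ x + C.n₂⁻¹ • s C.b₂ • C.co C.b₂ x +
        s C.g • C.co C.e x, by simp only [map_add, map_smul, LinearMap.add_apply, LinearMap.smul_apply]⟩
    obtain ⟨v, hv⟩ := hline (av h (C.ten ((-C.fW c c)⁻¹ • u) C.g))
    refine ⟨v, ?_⟩
    rw [← hv, ← hconj, ← hconj, hyten, fW.eg, mul_one, smul_smul, mul_inv_cancel₀ (neg_ne_zero.2 hcc),
      one_smul]
  refine ⟨t • v, ?_⟩
  rw [av_mul, hv, kr_ten, hBr, map_smul, LinearMap.map_smul₂]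
  rfl

end Ctx

end Cfsg.Agent.Lib.TensorThreeFour
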